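import Groth.Agent.H9PB.BundleProj
import Groth.Agent.FibDim.RelDim
import Groth.Agent.CycLib.Pull
import Groth.Agent.KRRReg.KMaps
import Groth.Agent.KZ.LFRes

/-! The splitting principle. -/

set_option autoImplicit false
set_option linter.style.haveILetI false
set_option linter.unusedSectionVars false
set_option backward.isDefEq.respectTransparency false
set_option backward.isDefEq.respectTransparency.types false
set_option maxHeartbeats 800000

universe u

open AlgebraicGeometry CategoryTheory CategoryTheory.Limits TopologicalSpace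

namespace Groth.Agent.H9PB

open Groth.Agent

/-- Projective over quasi-compact quasi-separated opens, flat, with injective pull-backs on Chow groups. -/
structure IsSplitting {P X : Scheme.{u}} (π : P ⟶ X) (d : ℕ) : Prop where
  proj : ∀ V : X.Opens, IsCompact (V : Set X) → IsQuasiSeparated (V : Set X) → RelProj.IsProjective (π ∣_ V)
  proper : IsProper π
  flat : Flat π
  rel : Cyc.HasRelDim π d
  inj : ∀ (Y : Scheme.{u}) (f : Y ⟶ X) (δY : Y → ℤ), Cyc.IsSetup Y δY → ∀ (PY : Scheme.{u}) (πY : PY ⟶ Y)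
    (g : PY ⟶ P), IsPullback g πY π f → ∀ δPY : PY → ℤ, Cyc.IsSetup PY δPY → Cyc.DeltaCompat πY δPY δY →
    ∀ (k : ℤ) (α : AlgebraicCycle Y ℤ), α ∈ Cyc.Zk Y δY k → ∀ β : AlgebraicCycle PY ℤ,
      ⇑β = Cyc.pullFun πY δPY δY d ⇑α → Cyc.RatEquivZero δPY (k + d) β → Cyc.RatEquivZero δY k α

theorem IsSplitting.locallyProjective {P X : Scheme.{u}} {π : P ⟶ X} {d : ℕ} (h : IsSplitting π d) :
    RelProj.IsLocallyProjective π := fun s => by
  obtain ⟨V, hV, hsV, -⟩ := exists_isAffineOpen_mem_and_subset (x := s) (U := ⊤) trivial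
  exact ⟨V, hsV, h.proj V hV.isCompact hV.isQuasiSeparated⟩

/-- A projective bundle is a splitting map. -/
theorem isSplitting_bundle {X P : Scheme.{u}} {p : P ⟶ X} {E : X.Modules} {O1 : P.Modules}
    {q : (Scheme.Modules.pullback p).obj E ⟶ O1} {n : ℕ} (hE : FlatMod.IsFinLocFreeOfRank (n + 1) E)
    (hP : KRR.IsProjBundle p E O1 q) {δ : X → ℤ} (hX : Cyc.IsSetup X δ) : IsSplitting p n := by
  haveI := isProper_of_isProjBundle hP hE
  have hfr := charted_of_isProjBundle hP hE
  have hδ := H23.ChowDesc.deltaCompat_rd p δ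
  refine ⟨fun V hc hq => ?_, inferInstance, hfr.flat, hfr.hasRelDim hX (H23.SetupLFT.isSetup p hX hδ) hδ,
    fun Y f δY hY PY πY g hsq δPY hPY hδY k α hα β hβ hβ0 => ?_⟩
  · haveI : CompactSpace (V : Scheme.{u}) := isCompact_iff_compactSpace.1 hc
    haveI : QuasiSeparatedSpace (V : Scheme.{u}) := (isQuasiSeparated_iff_quasiSeparatedSpace _ V.2).1 hq
    have hsq := (isPullback_morphismRestrict p V).flip
    haveI : IsProper (p ∣_ V) := MorphismProperty.of_isPullback hsq ‹_›
    exact (charted_of_isPullback hP hE hsq).isProjective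
      (PicClLib.isInvertible_pullback _ (Model.isInvertible_of_rank hP.invertible))
  · haveI : IsProper πY := MorphismProperty.of_isPullback hsq ‹_›
    haveI := hY.1
    haveI := hPY.1
    have hfrY := charted_of_isPullback hP hE hsq
    have hL := PicClLib.isInvertible_pullback g (Model.isInvertible_of_rank hP.invertible)
    obtain rfl : β = hfrY.pullAdd hY hPY hδY α := DFunLike.coe_injective (hβ.trans (hfrY.coe_pullAdd hY hPY hδY α).symm)
    let γ := powHom hL hPY.2.2 (hfrY.sec hL) (hfrY.sec_ne_zero hL) n (hfrY.pullAdd hY hPY hδY α)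
    have hm := hfrY.pullAdd_mem hY hPY hδY hα
    have hγm : γ ∈ Cyc.Zk PY δPY k := by
      simpa using powHom_mem hL hPY.2.2 (hfrY.sec hL) (hfrY.sec_ne_zero hL) hm n
    have h1 : γ ∈ ratSub hPY k := by
      have := powHom_ratEquiv hPY hL hm ((ChowOps.zk PY δPY _).zero_mem)
        (by rw [Cyc.RatEquiv, sub_zero]; exact hβ0) (hfrY.sec_ne_zero hL) (hfrY.sec_ne_zero hL) n
      rw [map_zero, Cyc.RatEquiv, sub_zero, add_sub_cancel_right] at this
      exact this
    have h2 := pushAdd_ratSub πY hPY hY hδY h1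
    have h3 := hfrY.map_pow_ratEquiv hL hY hPY hδY hα (hfrY.sec hL) (hfrY.sec_ne_zero hL) γ
      (by rw [coe_powHom, Charted.coe_pullAdd]) hγm
    have h4 : α ∈ ratSub hY k := by
      have h5 := sub_mem h2 ((mem_ratSub (hX := hY)).2 h3)
      rwa [show pushAdd πY δPY δY γ = AlgebraicCycle.map πY δPY δY γ from rfl, sub_sub_cancel] at h5
    exact h4

/-- Composites of splitting maps. -/
theorem IsSplitting.comp {P₂ P X : Scheme.{u}} {π' : P₂ ⟶ P} {π : P ⟶ X} {d' d : ℕ} (h' : IsSplitting π' d')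
    (h : IsSplitting π d) : IsSplitting (π' ≫ π) (d' + d) := by
  haveI := h.proper
  haveI := h'.proper
  haveI := h.flat
  haveI := h'.flat
  refine ⟨fun V hc hq => ?_, inferInstance, inferInstance, CycLib.hasRelDim_comp π' π h'.rel h.rel,
    fun Y f δY hY PY πY g hsq δPY hPY hδY k α hα β hβ hβ0 => ?_⟩
  · haveI : CompactSpace (V : Scheme.{u}) := isCompact_iff_compactSpace.1 hc
    haveI : QuasiSeparatedSpace (V : Scheme.{u}) := (isQuasiSeparated_iff_quasiSeparatedSpace _ V.2).1 hq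
    rw [morphismRestrict_comp]
    exact RelQuot.isProjective_comp
      (h'.proj (π ⁻¹ᵁ V) (π.isCompact_preimage hc) (π.isQuasiSeparated_preimage hq)) (h.proj V hc hq)
  · let Q : Scheme.{u} := pullback π f
    let π₁ : Q ⟶ Y := pullback.snd π f
    let g₁ : Q ⟶ P := pullback.fst π f
    have hQ : IsPullback g₁ π₁ π f := IsPullback.of_hasPullback π f
    let j : PY ⟶ Q := pullback.lift (g ≫ π') πY (by rw [Category.assoc]; exact hsq.w)
    have hj : j ≫ π₁ = πY := pullback.lift_snd _ _ _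
    have hj' : j ≫ g₁ = g ≫ π' := pullback.lift_fst _ _ _
    have hsq' : IsPullback g j π' g₁ := IsPullback.of_bot (by rw [hj]; exact hsq) hj'.symm hQ
    haveI : IsProper π₁ := MorphismProperty.of_isPullback hQ h.proper
    haveI : Flat π₁ := MorphismProperty.of_isPullback hQ h.flat
    haveI : IsProper j := MorphismProperty.of_isPullback hsq' h'.proper
    haveI : Flat j := MorphismProperty.of_isPullback hsq' h'.flat
    have hr₁ := FibDim.hasRelDim_baseChange hQ h.rel
    have hr₂ := FibDim.hasRelDim_baseChange hsq' h'.rel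
    let δQ : Q → ℤ := fun x => δY (π₁ x) + FibDim.rd π₁ x
    have hδQ : Cyc.DeltaCompat π₁ δQ δY := H23.ChowDesc.deltaCompat_rd π₁ δY
    have hQs : Cyc.IsSetup Q δQ := H23.SetupLFT.isSetup π₁ hY hδQ
    have hδj : Cyc.DeltaCompat j δPY δQ := by
      have he : δPY = fun x => δQ (j x) + FibDim.rd j x := funext fun x => by
        haveI : LocallyOfFiniteType πY := hj ▸ (inferInstance : LocallyOfFiniteType (j ≫ π₁))
        have e1 := CycLib.deltaCompat_eq πY hδY x
        have key : ∀ (h : PY ⟶ Y), h = j ≫ π₁ → ∀ [LocallyOfFiniteType h],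
            δY (h x) + FibDim.rd h x = δY (π₁ (j x)) + (FibDim.rd π₁ (j x) + FibDim.rd j x : ℕ) := by
          rintro h rfl _
          rw [CycLib.rd_comp, Scheme.Hom.comp_apply]
        rw [key πY hj.symm] at e1
        simp only [δQ]
        omega
      rw [he]
      exact H23.ChowDesc.deltaCompat_rd j δQ
    have hc₁ := H23.FlatShift.hasShift_of_hasRelDim π₁ hr₁ hδQ
    haveI := hQs.1
    haveI := hY.1
    let α₁ := flatAdd π₁ hc₁ hQs.2.2 α
    refine h.inj Y f δY hY Q π₁ g₁ hQ δQ hQs hδQ k α hα α₁ (coe_flatAdd π₁ hc₁ hQs.2.2 α) ?_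
    refine h'.inj Q g₁ δQ hQs PY j g hsq' δPY hPY hδj (k + d) α₁ (flatAdd_mem π₁ hc₁ hQs.2.2 hα) β ?_ ?_
    · simp only [α₁]
      rw [hβ, coe_flatAdd, CycLib.pullFun_comp j π₁ hδj hδQ hr₂ hr₁, hj, Nat.cast_add]
    · rwa [show k + ((d' + d : ℕ) : ℤ) = k + d + d' by push_cast; ring] at hβ0

section Fil

variable {X : Scheme.{u}}

/-- Filtered with invertible successive quotients. -/
def IsFiltered : ℕ → X.Modules → Prop
  | 0, G => IsZero G
  | r + 1, G => ∃ (F L : X.Modules) (a : F ⟶ G) (b : G ⟶ L) (hab : a ≫ b = 0),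
      (ShortComplex.mk a b hab).ShortExact ∧ PicF.IsInvertible L ∧ IsFiltered r F

theorem IsFiltered.iso : ∀ {r : ℕ} {G G' : X.Modules}, IsFiltered r G → (G ≅ G') → IsFiltered r G'
  | 0, _, _, h, e => h.of_iso e.symm
  | r + 1, G, G', ⟨F, L, a, b, hab, hse, hL, hF⟩, e => by
    refine ⟨F, L, a ≫ e.hom, e.inv ≫ b, by simp [hab], ?_, hL, hF⟩
    refine ShortComplex.shortExact_of_iso (S₁ := ShortComplex.mk a b hab)
      (ShortComplex.isoMk (Iso.refl _) e (Iso.refl _) ?_ ?_) hse
    · simp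
    · simp

theorem IsFiltered.pullback {Y : Scheme.{u}} (f : Y ⟶ X) : ∀ {r : ℕ} {G : X.Modules}, IsFiltered r G →
    IsFiltered r ((Scheme.Modules.pullback f).obj G)
  | 0, _, h => (Scheme.Modules.pullback f).map_isZero h
  | r + 1, G, ⟨F, L, a, b, hab, hse, hL, hF⟩ =>
    ⟨_, _, (Scheme.Modules.pullback f).map a, (Scheme.Modules.pullback f).map b, _,
      KRRReg.shortExact_pullback_vb f hse (H23.PullPush.isFinLocFree_of_isInvertible hL),
      PicClLib.isInvertible_pullback f hL, IsFiltered.pullback f hF⟩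

theorem IsFiltered.exists_fin : ∀ {r : ℕ} {G : X.Modules}, IsFiltered r G →
    ∃ (M : Fin (r + 1) → X.Modules) (L : Fin r → X.Modules) (a : ∀ j : Fin r, M (Fin.castSucc j) ⟶ M (Fin.succ j))
      (b : ∀ j : Fin r, M (Fin.succ j) ⟶ L j), IsZero (M 0) ∧ Nonempty (M (Fin.last r) ≅ G) ∧
      (∀ j, PicF.IsInvertible (L j)) ∧ ∀ j, ∃ h : a j ≫ b j = 0, (ShortComplex.mk (a j) (b j) h).ShortExact
  | 0, G, h => ⟨fun _ => G, Fin.elim0, fun j => j.elim0, fun j => j.elim0, h, ⟨Iso.refl G⟩, fun j => j.elim0,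
      fun j => j.elim0⟩
  | r + 1, G, ⟨F, L, a, b, hab, hse, hL, hF⟩ => by
    obtain ⟨M, L₀, a₀, b₀, h0, ⟨e⟩, hL₀, hex⟩ := hF.exists_fin
    let M' : Fin (r + 1 + 1) → X.Modules := Fin.snoc (α := fun _ => X.Modules) M G
    let L' : Fin (r + 1) → X.Modules := Fin.snoc (α := fun _ => X.Modules) L₀ L
    have hM : ∀ j : Fin (r + 1), M' j.castSucc = M j := fun j => Fin.snoc_castSucc (α := fun _ => X.Modules) ..
    have hMl : M' (Fin.last (r + 1)) = G := Fin.snoc_last (α := fun _ => X.Modules) ..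
    have hL' : ∀ j : Fin r, L' j.castSucc = L₀ j := fun j => Fin.snoc_castSucc (α := fun _ => X.Modules) ..
    have hLl : L' (Fin.last r) = L := Fin.snoc_last (α := fun _ => X.Modules) ..
    have hMs : ∀ j : Fin r, M' j.castSucc.succ = M j.succ := fun j => by rw [Fin.succ_castSucc, hM]
    have hMsl : M' (Fin.last r).succ = G := by rw [Fin.succ_last, hMl]
    have hstep : ∀ j : Fin (r + 1), ∃ (x : M' j.castSucc ⟶ M' j.succ) (y : M' j.succ ⟶ L' j) (h : x ≫ y = 0),
        (ShortComplex.mk x y h).ShortExact := by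
      intro j
      induction j using Fin.lastCases with
      | last =>
        refine ⟨eqToHom (hM _) ≫ e.hom ≫ a ≫ eqToHom hMsl.symm, eqToHom hMsl ≫ b ≫ eqToHom hLl.symm,
          by simp [reassoc_of% hab], ?_⟩
        exact ShortComplex.shortExact_of_iso (ShortComplex.isoMk (e.symm ≪≫ eqToIso (hM _).symm) (eqToIso hMsl.symm)
          (eqToIso hLl.symm) (by simp) (by simp)) hse
      | cast j =>
        obtain ⟨h, hse⟩ := hex j
        refine ⟨eqToHom (hM _) ≫ a₀ j ≫ eqToHom (hMs j).symm, eqToHom (hMs j) ≫ b₀ j ≫ eqToHom (hL' j).symm,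
          by simp [reassoc_of% h], ?_⟩
        exact ShortComplex.shortExact_of_iso (ShortComplex.isoMk (eqToIso (hM _).symm) (eqToIso (hMs j).symm)
          (eqToIso (hL' j).symm) (by simp) (by simp)) hse
    choose x y hxy hse' using hstep
    refine ⟨M', L', x, y, ?_, ⟨eqToIso hMl⟩, fun j => ?_, fun j => ⟨hxy j, hse' j⟩⟩
    · exact h0.of_iso (eqToIso (hM 0))
    · induction j using Fin.lastCases with
      | last => rw [hLl]; exact hL
      | cast j => rw [hL']; exact hL₀ j

/-- The kernel of a quotient line bundle. -/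
theorem isFinLocFreeOfRank_kernel [IsLocallyNoetherian X] {S : ShortComplex X.Modules} (hS : S.ShortExact) {r : ℕ}
    (h₂ : FlatMod.IsFinLocFreeOfRank (r + 1) S.X₂) (h₃ : FlatMod.IsFinLocFreeOfRank 1 S.X₃) :
    FlatMod.IsFinLocFreeOfRank r S.X₁ := fun x => by
  have f₁ : FlatMod.IsFinLocFree S.X₁ := KZ.LFRes.pdlt_one_iff.1 (KZ.LFRes.PDLT.kernel_of hS
    (KZ.LFRes.pdlt_one_iff.2 (ExtPowSh.flf_of_rank h₂))
    ((KZ.LFRes.pdlt_one_iff.2 (ExtPowSh.flf_of_rank h₃)).mono (Nat.le_succ _)))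
  obtain ⟨U, n, hx, ⟨e⟩⟩ := f₁ x
  obtain ⟨V, hV, hxV, hle⟩ := exists_isAffineOpen_mem_and_subset (U := U) (x := x) hx
  obtain ⟨l⟩ := QCoh.free_sections hV hle e
  have h1 : ExtPowSh.rk S.X₁ x = n := QCoh.finrank_stalk_of_freeChart hV (QCoh.isQCoh_of_isFinLocFree f₁) l hxV
  have h4 := ExtPowSh.rk_add hS f₁ (ExtPowSh.flf_of_rank h₃) x
  rw [h1, ExtPowSh.rk_eq h₂ x, ExtPowSh.rk_eq h₃ x] at h4
  obtain rfl : n = r := by omega
  exact ⟨U, hx, ⟨e⟩⟩

end Fil

/-- Splitting a single module. -/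
theorem exists_splitting : ∀ (r : ℕ) {X : Scheme.{u}} {δ : X → ℤ}, Cyc.IsSetup X δ → ∀ {E : X.Modules},
    FlatMod.IsFinLocFreeOfRank r E → ∃ (P : Scheme.{u}) (π : P ⟶ X) (d : ℕ),
      IsSplitting π d ∧ IsFiltered r ((Scheme.Modules.pullback π).obj E)
  | 0, X, δ, hX, E, hE => by
    have h1 := InvEnd.isFinLocFreeOfRank_one (InvX.isInvertible_structureModule (X := X))
    obtain ⟨P, p, O1, q, hP⟩ := exists_bundle h1
    exact ⟨P, p, 0, isSplitting_bundle h1 hP hX,
      (Scheme.Modules.pullback p).map_isZero (ExtPowSh.isZero_of_rank_zero hE)⟩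
  | r + 1, X, δ, hX, E, hE => by
    obtain ⟨P₁, p, O1, q, hP⟩ := exists_bundle hE
    have hs := isSplitting_bundle hE hP hX
    haveI := hs.proper
    have hX₁ := H23.SetupLFT.isSetup p hX (H23.ChowDesc.deltaCompat_rd p δ)
    haveI := hX₁.1
    haveI := hP.epi
    have hse : (ShortComplex.mk (kernel.ι q) q (kernel.condition q)).ShortExact :=
      { exact := ShortComplex.exact_of_f_is_kernel _ (kernelIsKernel q) }
    have hK := isFinLocFreeOfRank_kernel hse (KRRReg.isFinLocFreeOfRank_pullback p hE) hP.invertible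
    obtain ⟨P, π, d, hπ, hfil⟩ := exists_splitting r hX₁ hK
    refine ⟨P, π ≫ p, d + r, hπ.comp hs, IsFiltered.iso ?_ ((Scheme.Modules.pullbackComp π p).app E)⟩
    exact ⟨_, _, (Scheme.Modules.pullback π).map (kernel.ι q), (Scheme.Modules.pullback π).map q, _,
      KRRReg.shortExact_pullback_vb π hse (ExtPowSh.flf_of_rank hP.invertible),
      PicClLib.isInvertible_pullback π (Model.isInvertible_of_rank hP.invertible), hfil⟩

/-- The splitting principle for finitely many modules. -/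
theorem exists_splitting_fin : ∀ (m : ℕ) {X : Scheme.{u}} {δ : X → ℤ}, Cyc.IsSetup X δ →
    ∀ (E : Fin m → X.Modules) (rk : Fin m → ℕ), (∀ i, FlatMod.IsFinLocFreeOfRank (rk i) (E i)) →
      ∃ (P : Scheme.{u}) (π : P ⟶ X) (d : ℕ),
        IsSplitting π d ∧ ∀ i, IsFiltered (rk i) ((Scheme.Modules.pullback π).obj (E i))
  | 0, X, δ, hX, E, rk, _ => by
    have h1 := InvEnd.isFinLocFreeOfRank_one (InvX.isInvertible_structureModule (X := X))
    obtain ⟨P, p, O1, q, hP⟩ := exists_bundle h1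
    exact ⟨P, p, 0, isSplitting_bundle h1 hP hX, fun i => i.elim0⟩
  | m + 1, X, δ, hX, E, rk, hE => by
    obtain ⟨P₁, π₁, d₁, hπ₁, hfil⟩ :=
      exists_splitting_fin m hX (fun i => E i.castSucc) (fun i => rk i.castSucc) (fun i => hE i.castSucc)
    haveI := hπ₁.proper
    have hX₁ := H23.SetupLFT.isSetup π₁ hX (H23.ChowDesc.deltaCompat_rd π₁ δ)
    obtain ⟨P, π, d, hπ, hfil'⟩ := exists_splitting (rk (Fin.last m)) hX₁
      (KRRReg.isFinLocFreeOfRank_pullback π₁ (hE (Fin.last m)))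
    refine ⟨P, π ≫ π₁, d + d₁, hπ.comp hπ₁, fun i => IsFiltered.iso ?_ ((Scheme.Modules.pullbackComp π π₁).app _)⟩
    induction i using Fin.lastCases with
    | last => exact hfil'
    | cast i => exact (hfil i).pullback π

end Groth.Agent.H9PB
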