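import Groth.Agent.H9PB.SpanGlobal

/-! The defining relation of Chern caps: existence and uniqueness up to rational equivalence. -/

set_option autoImplicit false
set_option linter.style.haveILetI false
set_option linter.unusedSectionVars false
set_option backward.isDefEq.respectTransparency false
set_option backward.isDefEq.respectTransparency.types false

universe u

open AlgebraicGeometry CategoryTheory TopologicalSpace

namespace Groth.Agent.H9PB.Charted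

open Groth.Agent

variable {X P : Scheme.{u}} {p : P ⟶ X} {O1 : P.Modules} {n : ℕ} (hfr : Charted p O1 n) [IsProper p]
  (hL : PicF.IsInvertible O1) {δ : X → ℤ} {δP : P → ℤ} (hX : Cyc.IsSetup X δ) (hP : Cyc.IsSetup P δP)
  (hδ : Cyc.DeltaCompat p δP δ)

/-- `c₁^i ∩ p^*`. -/
noncomputable def term (i : ℕ) : AlgebraicCycle X ℤ →+ AlgebraicCycle P ℤ :=
  haveI := hP.1
  (powHom hL hP.2.2 (hfr.sec hL) (hfr.sec_ne_zero hL) i).comp (hfr.pullAdd hX hP hδ)

theorem term_mem {k : ℤ} {a : AlgebraicCycle X ℤ} (ha : a ∈ Cyc.Zk X δ k) (i : ℕ) :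
    hfr.term hL hX hP hδ i a ∈ Cyc.Zk P δP (k + n - i) := by
  haveI := hP.1
  exact powHom_mem hL hP.2.2 _ _ (hfr.pullAdd_mem hX hP hδ ha) i

theorem term_ratSub {k : ℤ} {a : AlgebraicCycle X ℤ} (ha : a ∈ Cyc.Zk X δ k) (h : a ∈ ratSub hX k) (i : ℕ) :
    hfr.term hL hX hP hδ i a ∈ ratSub hP (k + n - i) := by
  haveI := hX.1
  haveI := hP.1
  haveI := hfr.flat
  have h1 : Cyc.RatEquivZero δP (k + n) (hfr.pullAdd hX hP hδ a) :=
    H23.DivPull.ratEquivZero_pull p (hfr.hasShift hP.2.2 hδ) hX.2.2 hP.2.2 h _ rfl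
  have h2 := powHom_ratEquiv hP hL (hfr.pullAdd_mem hX hP hδ ha) ((ChowOps.zk P δP _).zero_mem)
    (by rw [Cyc.RatEquiv, sub_zero]; exact h1) (hfr.sec_ne_zero hL) (hfr.sec_ne_zero hL) i
  rw [map_zero, Cyc.RatEquiv, sub_zero] at h2
  exact h2

/-- The left side of the defining relation. -/
noncomputable def rel : (Fin (n + 2) → AlgebraicCycle X ℤ) →+ AlgebraicCycle P ℤ :=
  ∑ i : Fin (n + 2), ((-1 : ℤ) ^ (i : ℕ)) •
    (hfr.term hL hX hP hδ i).comp (Pi.evalAddMonoidHom (fun _ => AlgebraicCycle X ℤ) (Fin.rev i))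

theorem rel_apply (γ : Fin (n + 2) → AlgebraicCycle X ℤ) :
    hfr.rel hL hX hP hδ γ = ∑ i : Fin (n + 2), ((-1 : ℤ) ^ (i : ℕ)) • hfr.term hL hX hP hδ i (γ (Fin.rev i)) := by
  simp [rel]

/-- A solution of the relation in the expected degrees. -/
structure IsCap (k : ℤ) (α : AlgebraicCycle X ℤ) (γ : Fin (n + 2) → AlgebraicCycle X ℤ) : Prop where
  zero : γ 0 = α
  mem : ∀ j : Fin (n + 2), γ j ∈ Cyc.Zk X δ (k - ((j : ℕ) : ℤ))
  rel : hfr.rel hL hX hP hδ γ ∈ ratSub hP (k - 1)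

theorem deg_rev (k : ℤ) (i : Fin (n + 2)) :
    k - ((Fin.rev i : ℕ) : ℤ) + n - ((i : ℕ) : ℤ) = k - 1 := by
  have : (Fin.rev i : ℕ) + (i : ℕ) = n + 1 := by rw [Fin.val_rev]; omega
  omega

theorem c1Pow_pull_eq (t : ℕ → (ξ : P) → Cyc.secFibre O1 ξ) (ht : ∀ m ξ, t m ξ ≠ 0) (i : ℕ)
    (a : AlgebraicCycle X ℤ) (x : P) :
    haveI := hP.1
    Cyc.c1PowFun δP O1 t i (Cyc.pullFun p δP δ n ⇑a) x = powHom hL hP.2.2 t ht i (hfr.pullAdd hX hP hδ a) x := by
  haveI := hP.1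
  rw [coe_powHom, coe_pullAdd]

theorem sum_apply' {ι : Type*} (s : Finset ι) (f : ι → AlgebraicCycle P ℤ) (x : P) :
    (∑ i ∈ s, f i) x = ∑ i ∈ s, f i x := by
  rw [Function.locallyFinsuppWithin.coe_sum, Finset.sum_apply]

theorem zsmul_apply' (c : ℤ) (a : AlgebraicCycle P ℤ) (x : P) : (c • a) x = c * a x := by
  rw [Function.locallyFinsuppWithin.coe_zsmul, Pi.smul_apply, smul_eq_mul]

/-- The relation with other nonzero sections agrees up to rational equivalence. -/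
theorem relWith_sub_rel {k : ℤ} {γ : Fin (n + 2) → AlgebraicCycle X ℤ}
    (hdeg : ∀ j : Fin (n + 2), γ j ∈ Cyc.Zk X δ (k - ((j : ℕ) : ℤ)))
    (t : ℕ → (ξ : P) → Cyc.secFibre O1 ξ) (ht : ∀ m ξ, t m ξ ≠ 0) :
    haveI := hP.1
    ∑ i : Fin (n + 2), ((-1 : ℤ) ^ (i : ℕ)) • powHom hL hP.2.2 t ht i (hfr.pullAdd hX hP hδ (γ (Fin.rev i))) -
      hfr.rel hL hX hP hδ γ ∈ ratSub hP (k - 1) := by
  haveI := hP.1
  rw [rel_apply, ← Finset.sum_sub_distrib]
  refine sum_mem fun i _ => ?_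
  rw [← smul_sub]
  refine zsmul_mem ?_ _
  have hm := hfr.pullAdd_mem hX hP hδ (hdeg (Fin.rev i))
  have h := powHom_ratEquiv hP hL hm hm (by rw [Cyc.RatEquiv, sub_self]; exact (ratSub hP _).zero_mem) ht
    (hfr.sec_ne_zero hL) (i : ℕ)
  rw [deg_rev] at h
  exact h

/-- The frozen predicate is the relation for the coordinate sections. -/
theorem isCap_iff {k : ℤ} {α : AlgebraicCycle X ℤ} {γ : Fin (n + 1 + 1) → AlgebraicCycle X ℤ} :
    Cyc.IsChernCap p δ δP O1 (n + 1) k α γ ↔ hfr.IsCap hL hX hP hδ k α γ := by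
  haveI := hP.1
  have hn : ((n + 1 : ℕ) : ℤ) - 1 = n := by push_cast; ring
  have hdiff := hfr.relWith_sub_rel hL hX hP hδ (k := k) (γ := γ)
  constructor
  · rintro ⟨h0, hdeg, h⟩
    refine ⟨h0, hdeg, ?_⟩
    refine h (hfr.sec hL) (hfr.sec_ne_zero hL) _ fun y => ?_
    rw [rel_apply, sum_apply', hn]
    refine Finset.sum_congr rfl fun i _ => ?_
    rw [zsmul_apply', c1Pow_pull_eq hfr hL hX hP hδ]
    rfl
  · rintro ⟨h0, hdeg, h⟩
    refine ⟨h0, hdeg, fun t ht β hβ => ?_⟩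
    rw [hn] at hβ
    rw [show β = ∑ i : Fin (n + 2), ((-1 : ℤ) ^ (i : ℕ)) •
        powHom hL hP.2.2 t ht i (hfr.pullAdd hX hP hδ (γ (Fin.rev i))) from DFunLike.coe_injective (funext fun y => by
      rw [hβ, sum_apply']
      refine Finset.sum_congr rfl fun i _ => ?_
      rw [zsmul_apply', c1Pow_pull_eq hfr hL hX hP hδ t ht])]
    rw [← sub_add_cancel (∑ i : Fin (n + 2), ((-1 : ℤ) ^ (i : ℕ)) •
        powHom hL hP.2.2 t ht i (hfr.pullAdd hX hP hδ (γ (Fin.rev i)))) (hfr.rel hL hX hP hδ γ)]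
    exact add_mem (hdiff hdeg t ht) h

/-- Solutions with rationally equivalent leading terms are rationally equivalent. -/
theorem isCap_unique {k : ℤ} {γ γ' : Fin (n + 2) → AlgebraicCycle X ℤ}
    (hm : ∀ j : Fin (n + 2), γ j ∈ Cyc.Zk X δ (k - ((j : ℕ) : ℤ)))
    (hm' : ∀ j : Fin (n + 2), γ' j ∈ Cyc.Zk X δ (k - ((j : ℕ) : ℤ)))
    (hr : hfr.rel hL hX hP hδ γ - hfr.rel hL hX hP hδ γ' ∈ ratSub hP (k - 1))
    (h0 : γ 0 - γ' 0 ∈ ratSub hX k) (j : Fin (n + 2)) : γ j - γ' j ∈ ratSub hX (k - ((j : ℕ) : ℤ)) := by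
  haveI := hP.1
  let d : Fin (n + 2) → AlgebraicCycle X ℤ := γ - γ'
  have hd : ∀ i : Fin (n + 2), d i ∈ Cyc.Zk X δ (k - ((i : ℕ) : ℤ)) := fun i => (ChowOps.zk X δ _).sub_mem (hm i) (hm' i)
  have hrd : hfr.rel hL hX hP hδ d ∈ ratSub hP (k - 1) := by rw [map_sub]; exact hr
  rw [rel_apply, Fin.sum_univ_castSucc] at hrd
  have hlast : ((-1 : ℤ) ^ ((Fin.last (n + 1) : Fin (n + 2)) : ℕ)) •
      hfr.term hL hX hP hδ (Fin.last (n + 1) : Fin (n + 2)) (d (Fin.rev (Fin.last (n + 1)))) ∈ ratSub hP (k - 1) := by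
    refine zsmul_mem ?_ _
    rw [Fin.rev_last]
    have := hfr.term_ratSub hL hX hP hδ (k := k) (a := d 0) (by simpa using hd 0) h0 (n + 1)
    rw [show k + (n : ℤ) - ((n + 1 : ℕ) : ℤ) = k - 1 by push_cast; ring] at this
    exact this
  have h1 := (add_mem_cancel_right hlast).1 hrd
  let k' := k - (n + 1)
  let α : Fin (n + 1) → AlgebraicCycle X ℤ := fun i => ((-1 : ℤ) ^ (i : ℕ)) • d (Fin.rev i.castSucc)
  have hdeg : ∀ i : Fin (n + 1), k - ((Fin.rev i.castSucc : ℕ) : ℤ) = k' + ((i : ℕ) : ℤ) := fun i => by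
    have := i.2
    simp only [Fin.val_rev, Fin.val_castSucc, k']
    omega
  have hind := hfr.independent k' α (fun i => (ChowOps.zk X δ _).zsmul_mem (hdeg i ▸ hd _) _) hX hP hδ hL
    (fun _ => hfr.sec hL) (fun _ => hfr.sec_ne_zero hL)
    (∑ i : Fin (n + 1), hfr.term hL hX hP hδ i (α i)) (fun x => by
      rw [sum_apply']
      exact Finset.sum_congr rfl fun i _ => (c1Pow_pull_eq hfr hL hX hP hδ _ (hfr.sec_ne_zero hL) _ _ x).symm)
    (by
      rw [show k' + (n : ℤ) = k - 1 by simp only [k']; ring]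
      refine (?_ : _ ∈ ratSub hP (k - 1))
      convert h1 using 1
      exact Finset.sum_congr rfl fun i _ => by rw [map_zsmul]; rfl)
  induction j using Fin.cases with
  | zero => simpa using h0
  | succ j =>
    obtain ⟨i, hi⟩ : ∃ i : Fin (n + 1), Fin.rev i.castSucc = j.succ := ⟨j.rev, by
      rw [Fin.rev_castSucc, Fin.rev_rev]⟩
    have h2 : ((-1 : ℤ) ^ (i : ℕ)) • α i ∈ ratSub hX (k' + ((i : ℕ) : ℤ)) := zsmul_mem (hind i) _
    rw [smul_smul, ← mul_pow, neg_one_mul, neg_neg, one_pow, one_smul, ← hdeg, hi] at h2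
    exact h2

/-- Two caps of the same cycle are rationally equivalent. -/
theorem IsCap.unique {k : ℤ} {α : AlgebraicCycle X ℤ} {γ γ' : Fin (n + 2) → AlgebraicCycle X ℤ}
    (h : hfr.IsCap hL hX hP hδ k α γ) (h' : hfr.IsCap hL hX hP hδ k α γ') (j : Fin (n + 2)) :
    γ j - γ' j ∈ ratSub hX (k - ((j : ℕ) : ℤ)) :=
  hfr.isCap_unique hL hX hP hδ h.mem h'.mem (sub_mem h.rel h'.rel)
    (by rw [h.zero, h'.zero, sub_self]; exact zero_mem _) j

include hfr hL hX hP hδ in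
/-- The relation can be solved. -/
theorem exists_isCap {k : ℤ} {α : AlgebraicCycle X ℤ} (hα : α ∈ Cyc.Zk X δ k) :
    ∃ γ, hfr.IsCap hL hX hP hδ k α γ := by
  classical
  haveI := hP.1
  let k' := k - (n + 1)
  have hk : k + (n : ℤ) - ((n + 1 : ℕ) : ℤ) = k' + n := by simp only [k']; push_cast; ring
  obtain ⟨a, ha, hrat⟩ := hfr.exists_combo hL hX hP hδ (fun _ => hfr.sec hL) (fun _ => hfr.sec_ne_zero hL) k'
    (hfr.term hL hX hP hδ (n + 1) α) (hk ▸ hfr.term_mem hL hX hP hδ hα (n + 1))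
  let γ : Fin (n + 2) → AlgebraicCycle X ℤ := fun j =>
    Fin.lastCases (motive := fun _ => AlgebraicCycle X ℤ) α (fun i => ((-1 : ℤ) ^ ((i : ℕ) + n)) • a i) (Fin.rev j)
  have hγ : ∀ i : Fin (n + 1), γ (Fin.rev i.castSucc) = ((-1 : ℤ) ^ ((i : ℕ) + n)) • a i := fun i => by
    simp only [γ, Fin.rev_rev, Fin.lastCases_castSucc]
  have hγ0 : γ (Fin.rev (Fin.last (n + 1))) = α := by simp only [γ, Fin.rev_rev, Fin.lastCases_last]
  refine ⟨γ, by rw [← hγ0, Fin.rev_last], fun j => ?_, ?_⟩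
  · obtain ⟨i, rfl⟩ : ∃ i, Fin.rev i = j := ⟨j.rev, Fin.rev_rev j⟩
    induction i using Fin.lastCases with
    | last => rw [hγ0, Fin.rev_last]; simpa using hα
    | cast i =>
      rw [hγ]
      refine (ChowOps.zk X δ _).zsmul_mem ?_ _
      rw [show k - ((Fin.rev i.castSucc : ℕ) : ℤ) = k' + ((i : ℕ) : ℤ) by
        have := i.2
        simp only [Fin.val_rev, Fin.val_castSucc, k']
        omega]
      exact ha i
  · rw [rel_apply, Fin.sum_univ_castSucc, hγ0]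
    have h1 : hfr.term hL hX hP hδ (n + 1) α - ∑ i : Fin (n + 1), hfr.term hL hX hP hδ i (a i) ∈
        ratSub hP (k - 1) := by
      rw [Cyc.RatEquiv, combo_apply, show k' + (n : ℤ) = k - 1 by simp only [k']; ring] at hrat
      exact hrat
    have h2 : ∑ i : Fin (n + 1), ((-1 : ℤ) ^ ((i.castSucc : Fin (n + 2)) : ℕ)) •
          hfr.term hL hX hP hδ (i.castSucc : Fin (n + 2)) (γ (Fin.rev i.castSucc)) +
        ((-1 : ℤ) ^ ((Fin.last (n + 1) : Fin (n + 2)) : ℕ)) • hfr.term hL hX hP hδ (Fin.last (n + 1) : Fin (n + 2)) α =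
      ((-1 : ℤ) ^ (n + 1)) • (hfr.term hL hX hP hδ (n + 1) α - ∑ i : Fin (n + 1), hfr.term hL hX hP hδ i (a i)) := by
      rw [smul_sub, Finset.smul_sum, Fin.val_last, sub_eq_neg_add, ← Finset.sum_neg_distrib]
      congr 1
      refine Finset.sum_congr rfl fun i _ => ?_
      rw [hγ, map_zsmul, smul_smul, ← neg_smul, Fin.val_castSucc, ← pow_add, pow_succ, mul_neg, mul_one, neg_neg,
        show (i : ℕ) + ((i : ℕ) + n) = 2 * (i : ℕ) + n by ring, pow_add, pow_mul, neg_one_sq, one_pow, one_mul]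
    rw [h2]
    exact zsmul_mem h1 _

end Groth.Agent.H9PB.Charted
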