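import Groth.Agent.H9ChowK.CurveEuler
import Groth.Agent.Big.Alt
import Groth.Agent.H9PB.ChernBasic
import Groth.Agent.H23.C1Class
import Groth.Agent.FMBase.Polarization

/-! Intersection numbers as degrees of iterated caps with first Chern classes. -/

set_option autoImplicit false
set_option linter.unusedSectionVars false
set_option linter.style.haveILetI false
set_option backward.isDefEq.respectTransparency false
set_option backward.isDefEq.respectTransparency.types false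
set_option maxHeartbeats 1000000

universe u

open CategoryTheory CategoryTheory.Limits AlgebraicGeometry TopologicalSpace Opposite
open Groth.Agent.H23.PicMul

noncomputable section

namespace Groth.Agent.H9PB.IntDeg

open Groth.Agent Groth.Agent.Big

attribute [local instance] Abelian.hasFiniteBiproducts

variable (k : Type u) [Field k] {X : Scheme.{u}} [X.Over (Spec (CommRingCat.of k))]
  [IsProper (X ↘ Spec (CommRingCat.of k))] {δ : X → ℤ}

theorem delta_eq_rd (hδ : Cyc.DeltaCompat (X ↘ Spec (CommRingCat.of k)) δ (fun _ => 0)) (x : X) :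
    δ x = FibDim.rd (X ↘ Spec (CommRingCat.of k)) x := by
  rw [CycLib.deltaCompat_eq _ hδ, zero_add]

theorem delta_nonneg (hδ : Cyc.DeltaCompat (X ↘ Spec (CommRingCat.of k)) δ (fun _ => 0)) (x : X) : 0 ≤ δ x := by
  rw [delta_eq_rd k hδ]; exact Int.natCast_nonneg _

theorem dim_le_of_delta (hδ : Cyc.DeltaCompat (X ↘ Spec (CommRingCat.of k)) δ (fun _ => 0)) {C : Set X}
    (hC : IsClosed C) {n : ℕ} (h : ∀ x ∈ C, δ x ≤ n) : topologicalKrullDim ↥C ≤ (n : WithBot ℕ∞) := by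
  haveI := FibDim.subsingleton_spec_field k
  rcases C.eq_empty_or_nonempty with h0 | ⟨z, hz⟩
  · subst h0
    haveI : IsEmpty ↥(∅ : Set X) := ⟨fun x => x.2⟩
    haveI : IsEmpty (IrreducibleCloseds ↥(∅ : Set X)) := ⟨fun t => isEmptyElim t.2.nonempty.some⟩
    exact le_of_eq_of_le Order.krullDim_eq_bot bot_le
  · have he : C = C ∩ (X ↘ Spec (CommRingCat.of k)) ⁻¹' {(X ↘ Spec (CommRingCat.of k)) z} :=
      Set.ext fun y => ⟨fun hy => ⟨hy, Subsingleton.elim (α := ↥(Spec (CommRingCat.of k))) _ _⟩, fun hy => hy.1⟩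
    rw [(Homeomorph.setCongr he).isHomeomorph.topologicalKrullDim_eq,
      FibDim.dim_closed_inter_eq_iSup _ _ hC]
    refine iSup_le fun w => ?_
    have := h w.1 w.2.1
    rw [delta_eq_rd k hδ] at this
    exact_mod_cast this

theorem eulerCharLE_of_support (hδ : Cyc.DeltaCompat (X ↘ Spec (CommRingCat.of k)) δ (fun _ => 0)) {d : ℕ}
    {T : X.Modules} (hT : Coh.IsCoh T) (hd : ∀ x ∈ CohB1.support T, δ x ≤ d) :
    FGA.eulerCharLE k X T d = Curv2.euler k X T := by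
  haveI := CurveCohLib.isNoetherian_of_proper (k := k) (X := X)
  haveI : X.IsSeparated := ⟨by
    rw [show terminal.from X = (X ↘ Spec (CommRingCat.of k)) ≫ terminal.from _ from terminal.hom_ext _ _]
    infer_instance⟩
  let C : Closeds X := ⟨CohB1.support T, QCoh.isClosed_support_of_isFT hT.1 hT.2⟩
  refine (Euler.euler_eq_sum k T (d + 1) fun i hi => Snapper.subsingleton_HH_of_dim_lt (d + 1) C ?_ T hT.1
    subset_rfl i hi).symm
  exact lt_of_le_of_lt (dim_le_of_delta k hδ C.isClosed hd) (by exact_mod_cast Nat.lt_succ_self d)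

theorem intNum_eq_alt_of_cohLe {r : ℕ} (hδ : Cyc.DeltaCompat (X ↘ Spec (CommRingCat.of k)) δ (fun _ => 0)) {d : ℕ} {M : Fin r → X.Modules}
    (hM : ∀ i, PicF.IsInvertible (M i)) {F : X.Modules} (hF : Cyc.CohLe δ (d : ℤ) F) :
    (FGA.intNum k X d M F : ℚ) = alt k M F := by
  classical
  haveI := CurveCohLib.isNoetherian_of_proper (k := k) (X := X)
  rw [FGA.intNum, Int.cast_sum, alt]
  let e : Finset (Fin r) ≃ (Fin r → Fin 2) :=
    { toFun := fun I i => if i ∈ I then 1 else 0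
      invFun := fun f => Finset.univ.filter fun i => f i = 1
      left_inv := fun I => by ext i; simp
      right_inv := fun f => by
        funext i
        rcases Fin.exists_fin_two.1 ⟨f i, rfl⟩ with h | h <;> simp [h] }
  refine Fintype.sum_equiv e _ _ fun I => ?_
  have hs : sgn (e I) = (-1 : ℚ) ^ I.card := by
    simp only [sgn, e, Equiv.coe_fn_mk]
    rw [Finset.prod_pow_eq_pow_sum]
    congr 1
    rw [Finset.sum_congr rfl fun i _ => show ((if i ∈ I then 1 else 0 : Fin 2) : ℕ) = if i ∈ I then 1 else 0 by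
      split_ifs <;> rfl]
    simp
  have hcl : PicF.cl (CohB1.tensorMod (FGA.tensorList ((I.sort (· ≤ ·)).map M)) F) =
      PicF.cl (Curv2.tensorPows F r M (cube (e I))) := by
    rw [cl_tensor, cl_tensorList, cl_tensorPows, mul_comm, ← List.prod_toFinset _ (Finset.sort_nodup _ _),
      Finset.sort_toFinset, ← Finset.prod_filter_mul_prod_filter_not Finset.univ (· ∈ I)]
    congr 1
    rw [Finset.filter_mem_eq_inter, Finset.univ_inter,
      Finset.prod_congr rfl (fun i hi => by simp [cube, e, hi] :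
        ∀ i ∈ I, PicF.cl (M i) ^ cube (e I) i = PicF.cl (M i)),
      Finset.prod_congr rfl (fun i hi => by simp [cube, e, (Finset.mem_filter.1 hi).2] :
        ∀ i ∈ Finset.univ.filter (· ∉ I), PicF.cl (M i) ^ cube (e I) i = 1), Finset.prod_const_one, mul_one]
  obtain ⟨ψ⟩ := cl_eq_iff.1 hcl
  have hT := Snapper.isCoh_tensorPows M hM (cube (e I)) hF.1
  rw [hs, Snapper.χs, eulerCharLE_of_support k hδ (d := d) (SheafHomX.isCoh_of_iso ψ.symm hT)
    (fun x hx => hF.2 x (not_subsingleton_iff_nontrivial.1 (Snapper.support_tensorPows_subset M hM (cube (e I)) hF.1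
      (QCoh.mem_support_of_mono (SheafHomX.isCoh_of_iso ψ.symm hT).1 hT.1 ψ.hom hx)))),
    CurveCohLib.euler_congr (k := k) ψ]
  push_cast
  rfl

/-- The functional given by the intersection symbol. -/
theorem exists_altHom (hδ : Cyc.DeltaCompat (X ↘ Spec (CommRingCat.of k)) δ (fun _ => 0)) (r : ℕ)
    {M : Fin r → X.Modules} (hM : ∀ i, PicF.IsInvertible (M i)) :
    ∃ Φ : Cyc.K0CohQuot δ ((r : ℤ) + 1) ((r : ℤ) - 1) →+ ℚ,
      ∀ F, Cyc.CohLe δ ((r : ℤ) + 1) F → Φ (Cyc.toK0CohQuot δ ((r : ℤ) + 1) ((r : ℤ) - 1) F) = alt k M F := by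
  haveI := CurveCohLib.isNoetherian_of_proper (k := k) (X := X)
  obtain ⟨f, hf⟩ := KZ.exists_liftSub (Cyc.CohLe δ ((r : ℤ) + 1)) (fun F => alt k M F) fun S hS h₁ h₂ h₃ => by
    simp only [alt, congrFun (Snapper.χs_add k hM hS h₁.1 h₂.1 h₃.1), Pi.add_apply, mul_add, Finset.sum_add_distrib]
  refine ⟨QuotientAddGroup.lift _ f ?_, fun F hF => hf F hF⟩
  rw [AddSubgroup.closure_le]
  rintro c ⟨F, hF, rfl⟩
  rw [SetLike.mem_coe, AddMonoidHom.mem_ker, hf F (H9ChowK.cohLe_mono (by omega) hF)]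
  show alt k M F = 0
  by_cases hr : r = 0
  · have he : CohB1.support F = ∅ := Set.eq_empty_of_forall_notMem fun x hx => by
      have := hF.2 x (not_subsingleton_iff_nontrivial.1 hx)
      have := delta_nonneg k hδ x
      omega
    exact Finset.sum_eq_zero fun g _ => by rw [Snapper.χs_eq_zero k hM hF.1 he, mul_zero]
  obtain ⟨n, rfl⟩ : ∃ n, r = n + 1 := ⟨r - 1, by omega⟩
  let C : Closeds X := ⟨CohB1.support F, QCoh.isClosed_support_of_isFT hF.1.1 hF.1.2⟩
  have hC : topologicalKrullDim ↥(C : Set X) < ((n + 1 : ℕ) : WithBot ℕ∞) :=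
    lt_of_le_of_lt (dim_le_of_delta k hδ (n := n) C.isClosed fun x hx => by
      have := hF.2 x (not_subsingleton_iff_nontrivial.1 hx)
      push_cast at this ⊢
      omega) (by exact_mod_cast Nat.lt_succ_self n)
  obtain ⟨P, hP, hPn⟩ := Snapper.isMPolyLt_of_dim_lt k hM (n + 1) C hC F hF.1 subset_rfl
  rw [alt, Finset.sum_congr rfl (fun g _ => by rw [hPn (cube g)] :
    ∀ g ∈ (Finset.univ : Finset (Fin (n + 1) → Fin 2)),
      sgn g * Snapper.χs k M F (cube g) = sgn g * MvPolynomial.eval (fun i => (cube g i : ℚ)) P),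
    alt_eval ((Snapper.DegLt.totalDegree_le hP).trans (Nat.le_succ n)), Snapper.coeff_eq_zero_of_degLt hP, mul_zero]

theorem sheafFun_biprod (hd : Cyc.IsDimFun X δ) [IsLocallyNoetherian X] {j : ℤ} {A B : X.Modules}
    (hA : Cyc.CohLe δ j A) (hB : Cyc.CohLe δ j B) :
    Cyc.sheafFun δ j (A ⊞ B) = Cyc.sheafFun δ j A + Cyc.sheafFun δ j B := by
  have h := H9ChowK.biprod_shortExact A B
  have e := CycLib.sheafFun_shortExact hd h hA.1 (H9ChowK.cohLe_biprod hA hB).1 hB.1 (H9ChowK.cohLe_biprod hA hB).2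
  exact e

/-- The functional `Ψ(α) = alt(Pos α) - alt(Neg α)`. -/
def psi {r : ℕ} (δ : X → ℤ) (M : Fin r → X.Modules) (α : AlgebraicCycle X ℤ) : ℚ :=
  alt k M (Cyc.cycleSheafPos ⇑α) - alt k M (Cyc.cycleSheafNeg ⇑α)

theorem cohLe_pos_neg (hd : Cyc.IsDimFun X δ) [IsLocallyNoetherian X] {j : ℤ} {α : AlgebraicCycle X ℤ}
    (hα : α ∈ Cyc.Zk X δ j) :
    Cyc.CohLe δ j (Cyc.cycleSheafPos ⇑α) ∧ Cyc.CohLe δ j (Cyc.cycleSheafNeg ⇑α) :=
  have hk : ∀ ζ, (⇑α : X → ℤ) ζ ≠ 0 → δ ζ = j := fun ζ hζ => by_contra fun hn => hζ (hα ζ hn)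
  ⟨H9ChowK.cohLe_cycleSheafPos hd (H9ChowK.finPts_cycle α) hk,
    H9ChowK.cohLe_cycleSheafPos hd (H9ChowK.finPts_neg (H9ChowK.finPts_cycle α))
      fun ζ hζ => hk ζ fun h => hζ (by rw [Pi.neg_apply, h, neg_zero])⟩

/-- The symbol only sees the cycle. -/
theorem psi_eq (hδ : Cyc.DeltaCompat (X ↘ Spec (CommRingCat.of k)) δ (fun _ => 0)) {r : ℕ}
    {M : Fin r → X.Modules} (hM : ∀ i, PicF.IsInvertible (M i)) {α : AlgebraicCycle X ℤ}
    (hα : α ∈ Cyc.Zk X δ r) {P N : X.Modules} (hP : Cyc.CohLe δ r P) (hN : Cyc.CohLe δ r N)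
    (h : ⇑α = Cyc.sheafFun δ r P - Cyc.sheafFun δ r N) : psi k δ M α = alt k M P - alt k M N := by
  haveI := CurveCohLib.isNoetherian_of_proper (k := k) (X := X)
  have hd : Cyc.IsDimFun X δ := (H23.SetupLFT.isSetup _ (CycLib.isSetup_spec_field k) hδ).2.2
  obtain ⟨hp, hn⟩ := cohLe_pos_neg hd hα
  obtain ⟨Φ, hΦ⟩ := exists_altHom k hδ r hM
  have hk : ∀ ζ, (⇑α : X → ℤ) ζ ≠ 0 → δ ζ = r := fun ζ hζ => by_contra fun hn => hζ (hα ζ hn)
  have := congrArg Φ (H9ChowK.toK0_sub_eq hd hP hN hp hn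
    (h.symm.trans (H9ChowK.cycle_eq_sub hd (H9ChowK.finPts_cycle α) hk).symm))
  rw [map_sub, map_sub, hΦ _ (H9ChowK.cohLe_mono (by omega) hP), hΦ _ (H9ChowK.cohLe_mono (by omega) hN),
    hΦ _ (H9ChowK.cohLe_mono (by omega) hp), hΦ _ (H9ChowK.cohLe_mono (by omega) hn)] at this
  exact this.symm

/-- One step: the first factor caps with the first Chern class. -/
theorem alt_step (hδ : Cyc.DeltaCompat (X ↘ Spec (CommRingCat.of k)) δ (fun _ => 0)) {r : ℕ}
    {M : Fin r → X.Modules} (hM : ∀ i, PicF.IsInvertible (M i)) {L B : X.Modules} (hL : PicF.IsInvertible L)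
    (hB : PicF.IsInvertible B) (hLB : PicF.cl B * PicF.cl L = 1) (s : (ξ : X) → Cyc.secFibre L ξ)
    (hs : ∀ ξ, s ξ ≠ 0) {F : X.Modules} (hF : Cyc.CohLe δ ((r : ℤ) + 1) F) {γ : AlgebraicCycle X ℤ}
    (hγ : ⇑γ = Cyc.c1CapFun δ L (Cyc.sheafFun δ ((r : ℤ) + 1) F) s) (hγk : γ ∈ Cyc.Zk X δ r) :
    alt k (Fin.cons B M) F = psi k δ M γ := by
  haveI := CurveCohLib.isNoetherian_of_proper (k := k) (X := X)
  have hd : Cyc.IsDimFun X δ := (H23.SetupLFT.isSetup _ (CycLib.isSetup_spec_field k) hδ).2.2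
  have hG := H9ChowK.cohLe_tensor (δ := δ) hB hF
  have hGL := H9ChowK.cohLe_tensor (δ := δ) hL hG
  obtain ⟨hp, hn⟩ := cohLe_pos_neg hd hγk
  obtain ⟨Φ, hΦ⟩ := exists_altHom k hδ r hM
  have key := congrArg Φ (H9ChowK.twist_class hd hL hG s hs hγk (by rw [hγ, H9ChowK.sheafFun_tensor hB]))
  rw [map_sub, map_sub, hΦ _ hGL, hΦ _ hG, hΦ _ (H9ChowK.cohLe_mono (by omega) hp),
    hΦ _ (H9ChowK.cohLe_mono (by omega) hn)] at key
  rw [alt_cons, psi, ← key, alt_congr_cl k (fun _ => rfl) (show PicF.cl F =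
    PicF.cl (CohB1.tensorMod (CohB1.tensorMod F B) L) by rw [cl_tensor, cl_tensor, mul_assoc, hLB, mul_one])]

/-- The degree of a zero cycle. -/
theorem psi_zero (hδ : Cyc.DeltaCompat (X ↘ Spec (CommRingCat.of k)) δ (fun _ => 0)) (M : Fin 0 → X.Modules)
    {α : AlgebraicCycle X ℤ} (hα : α ∈ Cyc.Zk X δ 0) :
    psi k δ M α = (ChowOps.deg (X ↘ Spec (CommRingCat.of k)) δ α : ℚ) := by
  classical
  haveI := CurveCohLib.isNoetherian_of_proper (k := k) (X := X)
  set c := X ↘ Spec (CommRingCat.of k) with hc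
  haveI := FibDim.subsingleton_spec_field k
  have hd : Cyc.IsDimFun X δ := (H23.SetupLFT.isSetup _ (CycLib.isSetup_spec_field k) hδ).2.2
  have hrd : ∀ x : X, δ x = FibDim.rd c x := delta_eq_rd k hδ
  have hnn : ∀ x : X, 0 ≤ δ x := delta_nonneg k hδ
  have hclosed : ∀ x : X, δ x = 0 → IsClosed ({x} : Set X) := fun x hx => by
    have h0 : topologicalKrullDim ↥(closure ({x} : Set X)) ≤ 0 := by
      rw [FibDim.topologicalKrullDim_closure c x]
      have : FibDim.rd c x = 0 := by exact_mod_cast (hrd x).symm.trans hx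
      rw [this]
      rfl
    rw [← Euler.closure_eq_self_of_dim_le_zero isClosed_closure h0 (subset_closure rfl)]
    exact isClosed_closure
  have halt : ∀ F : X.Modules, alt k M F = (Curv2.euler k X F : ℚ) := fun F => by
    rw [alt, Fintype.sum_unique, sgn, Finset.univ_eq_empty, Finset.prod_empty, one_mul]
    rfl
  have hk : ∀ ζ, (⇑α : X → ℤ) ζ ≠ 0 → δ ζ = 0 := fun ζ hζ => by_contra fun hn => hζ (hα ζ hn)
  have hfin : (Function.support (⇑α : X → ℤ)).Finite := by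
    simpa using (α.locallyFiniteSupport.finite_inter_support_of_isCompact (W := (Set.univ : Set X)) isCompact_univ)
  let S := hfin.toFinset
  have hsum : ∀ (β : X → ℤ), H9ChowK.FinPts β → (∀ ζ, β ζ ≠ 0 → δ ζ = 0) → (∀ ζ, β ζ ≠ 0 → ζ ∈ S) →
      Curv2.euler k X (Cyc.cycleSheafPos β) = ∑ x ∈ S, (c.residueDegree x : ℤ) * max (β x) 0 := fun β h1 h2 h3 => by
    have hB := H9ChowK.cohLe_cycleSheafPos hd h1 h2
    have hsupp : CohB1.support (Cyc.cycleSheafPos β) ⊆ (S : Set X) := fun x hx => by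
      have h0 : δ x = 0 := le_antisymm (hB.2 x (not_subsingleton_iff_nontrivial.1 hx)) (hnn x)
      refine h3 x fun hz => hx ?_
      have := H9ChowK.sheafFun_cycleSheafPos hd h1 h2 x
      rw [Cyc.sheafFun, if_pos h0, hz, max_self, ← ENat.natCast_toNat (H9ChowK.length_ne_top hd hB h0)] at this
      rw [← Module.length_eq_zero_iff (R := X.presheaf.stalk x), ← ENat.natCast_toNat (H9ChowK.length_ne_top hd hB h0)]
      norm_cast at this ⊢
    rw [(CurveCohLib.euler_eq_sum_stalks (k := k) hB.1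
      (fun x hx => hclosed x (le_antisymm (hB.2 x (not_subsingleton_iff_nontrivial.1 hx)) (hnn x))) S hsupp).1]
    refine Finset.sum_congr rfl fun x hx => ?_
    have h0 := hk x (hfin.mem_toFinset.1 hx)
    rw [H9ChowK.finrank_stalk_eq _ x (H9ChowK.length_ne_top hd hB h0), mul_comm,
      ← H9ChowK.sheafFun_cycleSheafPos hd h1 h2 x, Cyc.sheafFun, if_pos h0]
  rw [psi, halt, halt, ← Int.cast_sub, hsum _ (H9ChowK.finPts_cycle α) hk fun ζ hζ => hfin.mem_toFinset.2 hζ,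
    show Cyc.cycleSheafNeg ⇑α = Cyc.cycleSheafPos (-⇑α) from rfl,
    hsum _ (H9ChowK.finPts_neg (H9ChowK.finPts_cycle α)) (fun ζ hζ => hk ζ fun h => hζ (by rw [Pi.neg_apply, h, neg_zero]))
      (fun ζ hζ => hfin.mem_toFinset.2 fun h => hζ (by rw [Pi.neg_apply, h, neg_zero])), ← Finset.sum_sub_distrib]
  congr 1
  show _ = ∑ᶠ x ∈ c ⁻¹' {IsLocalRing.closedPoint k},
    α x * (AlgebraicCycle.mapCoeff c δ (fun _ => (0 : ℤ)) x : ℤ)
  rw [finsum_mem_eq_sum_of_subset (t := S) _ ?_ ?_]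
  · refine Finset.sum_congr rfl fun x hx => ?_
    rw [AlgebraicCycle.mapCoeff, if_pos (hk x (hfin.mem_toFinset.1 hx)), ← mul_sub, Pi.neg_apply, mul_comm]
    congr 1
    omega
  · intro x hx
    exact hfin.mem_toFinset.2 (left_ne_zero_of_mul hx.2)
  · intro x _
    exact (Subsingleton.elim (α := ↥(Spec (CommRingCat.of k))) (c x) (IsLocalRing.closedPoint k) :)

/-- The iterated cap computes the symbol. -/
theorem chain (hδ : Cyc.DeltaCompat (X ↘ Spec (CommRingCat.of k)) δ (fun _ => 0)) :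
    ∀ (r : ℕ) (L M : Fin r → X.Modules) (_ : ∀ i, PicF.IsInvertible (L i)) (hM : ∀ i, PicF.IsInvertible (M i))
      (_ : ∀ i, PicF.cl (M i) * PicF.cl (L i) = 1) (s : (i : Fin r) → (ξ : X) → Cyc.secFibre (L i) ξ)
      (_ : ∀ i ξ, s i ξ ≠ 0) (γ : ℕ → X → ℤ)
      (_ : ∀ (i : ℕ) (h : i < r), γ (i + 1) = Cyc.c1CapFun δ (L ⟨i, h⟩) (γ i) (s ⟨i, h⟩))
      (α β : AlgebraicCycle X ℤ) (_ : ⇑α = γ 0) (_ : α ∈ Cyc.Zk X δ r) (_ : ⇑β = γ r),
      psi k δ M α = (ChowOps.deg (X ↘ Spec (CommRingCat.of k)) δ β : ℚ) := by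
  intro r
  induction r with
  | zero =>
    intro L M _ _ _ s _ γ _ α β hα hαk hβ
    obtain rfl : β = α := DFunLike.coe_injective (hβ.trans hα.symm)
    exact psi_zero k hδ M hαk
  | succ r IH =>
    intro L M hL hM hLM s hs γ hγ α β hα hαk hβ
    haveI := CurveCohLib.isNoetherian_of_proper (k := k) (X := X)
    have hd : Cyc.IsDimFun X δ := (H23.SetupLFT.isSetup _ (CycLib.isSetup_spec_field k) hδ).2.2
    have hmem : ∀ {a : AlgebraicCycle X ℤ}, a ∈ Cyc.Zk X δ ((r : ℤ) + 1) →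
        H23.RatSec.c1CapCycle (hL 0) hd a (s 0) (hs 0) ∈ Cyc.Zk X δ r := fun {a} ha => by
      simpa using H23.C1Class.capCycle_mem (hL 0) hd ha (s 0) (hs 0)
    replace hαk : α ∈ Cyc.Zk X δ ((r : ℤ) + 1) := by simpa using hαk
    obtain ⟨hp, hn⟩ := cohLe_pos_neg hd hαk
    obtain ⟨P, hPk, eP⟩ := H9ChowK.exists_sheafCycle hd hp
    obtain ⟨N, hNk, eN⟩ := H9ChowK.exists_sheafCycle hd hn
    have hk : ∀ ζ, (⇑α : X → ℤ) ζ ≠ 0 → δ ζ = (r : ℤ) + 1 := fun ζ hζ => by_contra fun hn => hζ (hαk ζ hn)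
    have hPN : α + N = P := DFunLike.coe_injective (by
      rw [Function.locallyFinsuppWithin.coe_add, eP, eN]
      linear_combination -(H9ChowK.cycle_eq_sub hd (H9ChowK.finPts_cycle α) hk))
    let cap : AlgebraicCycle X ℤ → AlgebraicCycle X ℤ := fun a => H23.RatSec.c1CapCycle (hL 0) hd a (s 0) (hs 0)
    have hcap : cap α + cap N = cap P := DFunLike.coe_injective (by
      rw [← hPN, Function.locallyFinsuppWithin.coe_add]
      exact (Bivar.c1CapFun_add δ (L 0) α N (s 0)).symm)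
    have e0 : Fin.cons (M 0) (fun i : Fin r => M i.succ) = M := Fin.cons_self_tail M
    have hstep : ∀ {a : AlgebraicCycle X ℤ} {F : X.Modules}, a ∈ Cyc.Zk X δ ((r : ℤ) + 1) →
        Cyc.CohLe δ ((r : ℤ) + 1) F → ⇑a = Cyc.sheafFun δ ((r : ℤ) + 1) F →
        alt k M F = psi k δ (fun i : Fin r => M i.succ) (cap a) := fun {a F} ha hF e => by
      have := alt_step k hδ (fun i => hM (Fin.succ i)) (hL 0) (hM 0) (hLM 0) (s 0) (hs 0) hF (γ := cap a)
        (by rw [← e]; rfl) (hmem ha)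
      rwa [e0] at this
    obtain ⟨p1, n1⟩ := cohLe_pos_neg hd (hmem hPk)
    obtain ⟨p2, n2⟩ := cohLe_pos_neg hd (hmem hNk)
    have hk' : ∀ {a : AlgebraicCycle X ℤ}, a ∈ Cyc.Zk X δ (r : ℤ) → ∀ ζ, (⇑a : X → ℤ) ζ ≠ 0 → δ ζ = r :=
      fun {a} ha ζ hζ => by_contra fun hn => hζ (ha ζ hn)
    have e1 := H9ChowK.cycle_eq_sub hd (H9ChowK.finPts_cycle (cap P)) (hk' (hmem hPk))
    have e2 := H9ChowK.cycle_eq_sub hd (H9ChowK.finPts_cycle (cap N)) (hk' (hmem hNk))
    have hsplit := psi_eq k hδ (fun i => hM (Fin.succ i)) (hmem hαk)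
      (H9ChowK.cohLe_biprod p1 n2) (H9ChowK.cohLe_biprod n1 p2) (by
        rw [sheafFun_biprod hd p1 n2, sheafFun_biprod hd n1 p2]
        have := congrArg (fun c : AlgebraicCycle X ℤ => (⇑c : X → ℤ)) hcap
        simp only [Function.locallyFinsuppWithin.coe_add] at this
        linear_combination this - e1 + e2)
    obtain ⟨Φ, hΦ⟩ := exists_altHom k hδ r (fun i => hM (Fin.succ i))
    have hb : ∀ {A B : X.Modules}, Cyc.CohLe δ (r : ℤ) A → Cyc.CohLe δ (r : ℤ) B →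
        alt k (fun i : Fin r => M i.succ) (A ⊞ B) =
          alt k (fun i : Fin r => M i.succ) A + alt k (fun i : Fin r => M i.succ) B := fun {A B} hA hB => by
      rw [← hΦ _ (H9ChowK.cohLe_mono (by omega) (H9ChowK.cohLe_biprod hA hB)),
        ← hΦ _ (H9ChowK.cohLe_mono (by omega) hA), ← hΦ _ (H9ChowK.cohLe_mono (by omega) hB), ← map_add]
      exact congrArg Φ (H9ChowK.toK0_ses (H9ChowK.biprod_shortExact A B) (H9ChowK.cohLe_mono (by omega) hA)
        (H9ChowK.cohLe_mono (by omega) (H9ChowK.cohLe_biprod hA hB)) (H9ChowK.cohLe_mono (by omega) hB))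
    rw [hb p1 n2, hb n1 p2] at hsplit
    have h1 : psi k δ M α = psi k δ (fun i : Fin r => M i.succ) (cap α) := by
      rw [hsplit, psi, hstep hPk hp eP, hstep hNk hn eN, psi, psi]
      ring
    rw [h1]
    exact IH (fun i => L i.succ) (fun i => M i.succ) (fun i => hL _) (fun i => hM _) (fun i => hLM _)
      (fun i => s i.succ) (fun i => hs _) (fun i => γ (i + 1)) (fun i h => hγ (i + 1) (Nat.succ_lt_succ h))
      (cap α) β (by
        show Cyc.c1CapFun δ (L 0) ⇑α (s 0) = _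
        rw [hα]
        exact (hγ 0 (Nat.succ_pos r)).symm) (hmem hαk) hβ

end Groth.Agent.H9PB.IntDeg
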