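import Groth.Agent.H9PB.ChernSubInv
import Groth.Agent.ExtPowSh.Filt
import Groth.Agent.ExtPowSh.Model
import Groth.Agent.Lib.InvEnd

/-! Chern caps on every bundle of a module of any rank, and quotients by the steps of a filtration. -/

set_option autoImplicit false
set_option linter.style.haveILetI false
set_option linter.unusedSectionVars false
set_option backward.isDefEq.respectTransparency false
set_option backward.isDefEq.respectTransparency.types false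
set_option maxHeartbeats 800000

universe u

open AlgebraicGeometry CategoryTheory CategoryTheory.Limits TopologicalSpace

namespace Groth.Agent.H9PB

open Groth.Agent

section CapR

variable {Y : Scheme.{u}} {F : Y.Modules} {r : ℕ} {δ : Y → ℤ}

/-- A tuple satisfies the relation of Chern caps on every bundle of the module. -/
def IsCapR (F : Y.Modules) (r : ℕ) (δ : Y → ℤ) (k : ℤ) (α : AlgebraicCycle Y ℤ)
    (γ : Fin (r + 1) → AlgebraicCycle Y ℤ) : Prop :=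
  ∀ (P : Scheme.{u}) (π : P ⟶ Y) (O1 : P.Modules) (q : (Scheme.Modules.pullback π).obj F ⟶ O1),
    KRR.IsProjBundle π F O1 q → ∀ δP : P → ℤ, Cyc.DeltaCompat π δP δ → Cyc.IsChernCap π δ δP O1 r k α γ

theorem isProper_bundle {P : Scheme.{u}} {π : P ⟶ Y} {O1 : P.Modules} {q : (Scheme.Modules.pullback π).obj F ⟶ O1}
    (hP : KRR.IsProjBundle π F O1 q) (hF : FlatMod.IsFinLocFreeOfRank r F) : IsProper π := by
  match r with
  | 0 =>
    haveI := isEmpty_bundle hP hF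
    infer_instance
  | n + 1 => exact isProper_of_isProjBundle hP hF

variable (hF : FlatMod.IsFinLocFreeOfRank r F) (hY : Cyc.IsSetup Y δ)

theorem isCapR_zero (hY : Cyc.IsSetup Y δ) (hF : FlatMod.IsFinLocFreeOfRank 0 F) {k : ℤ} {α : AlgebraicCycle Y ℤ}
    (hα : α ∈ Cyc.Zk Y δ k) : IsCapR F 0 δ k α fun _ => α := by
  refine fun P π O1 q hP δP _ => ⟨rfl, fun j => ?_, fun t _ β _ => ?_⟩
  · obtain rfl : j = 0 := Fin.ext (Nat.lt_one_iff.1 j.2)
    simpa using hα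
  · haveI := isEmpty_bundle hP hF
    obtain rfl : β = 0 := DFunLike.coe_injective (funext fun y => isEmptyElim y)
    exact H23.RatOn.ratEquivZero (H23.RatOn.congr (H23.RatOn.zero Set.univ) fun _ => rfl)

include hF hY in
theorem IsCapR.exists' {k : ℤ} {α : AlgebraicCycle Y ℤ} (hα : α ∈ Cyc.Zk Y δ k) : ∃ γ, IsCapR F r δ k α γ := by
  match r with
  | 0 => exact ⟨_, isCapR_zero hY hF hα⟩
  | n + 1 => exact IsCapOn.exists' hF hY hα

include hF hY in
theorem IsCapR.mem {k : ℤ} {α : AlgebraicCycle Y ℤ} {γ : Fin (r + 1) → AlgebraicCycle Y ℤ}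
    (h : IsCapR F r δ k α γ) (j : Fin (r + 1)) : γ j ∈ Cyc.Zk Y δ (k - ((j : ℕ) : ℤ)) := by
  obtain ⟨P₀, π₀, O₀, q₀, hP₀⟩ := exists_bundle hF
  haveI := isProper_bundle hP₀ hF
  exact (h P₀ π₀ O₀ q₀ hP₀ _ (H23.ChowDesc.deltaCompat_rd π₀ δ)).2.1 j

include hF hY in
theorem IsCapR.zero {k : ℤ} {α : AlgebraicCycle Y ℤ} {γ : Fin (r + 1) → AlgebraicCycle Y ℤ}
    (h : IsCapR F r δ k α γ) : γ 0 = α := by
  obtain ⟨P₀, π₀, O₀, q₀, hP₀⟩ := exists_bundle hF
  haveI := isProper_bundle hP₀ hF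
  exact (h P₀ π₀ O₀ q₀ hP₀ _ (H23.ChowDesc.deltaCompat_rd π₀ δ)).1

include hF hY in
theorem IsCapR.ratEquiv {k : ℤ} {α α' : AlgebraicCycle Y ℤ} (hα : Cyc.RatEquiv δ k α α')
    {γ γ' : Fin (r + 1) → AlgebraicCycle Y ℤ} (h : IsCapR F r δ k α γ) (h' : IsCapR F r δ k α' γ')
    (j : Fin (r + 1)) : γ j - γ' j ∈ ratSub hY (k - ((j : ℕ) : ℤ)) := by
  match r with
  | 0 =>
    obtain rfl : j = 0 := Fin.ext (Nat.lt_one_iff.1 j.2)
    rw [h.zero hF hY, h'.zero hF hY, Fin.val_zero, Nat.cast_zero, sub_zero]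
    exact hα
  | n + 1 => exact IsCapOn.ratEquiv hF hY hα h h' j

include hF hY in
/-- One bundle is enough. -/
theorem IsCapR.of_isChernCap {P₀ : Scheme.{u}} {π₀ : P₀ ⟶ Y} {O₀ : P₀.Modules}
    {q₀ : (Scheme.Modules.pullback π₀).obj F ⟶ O₀} (hP₀ : KRR.IsProjBundle π₀ F O₀ q₀) {δ₀ : P₀ → ℤ}
    (hδ₀ : Cyc.DeltaCompat π₀ δ₀ δ) {k : ℤ} {α : AlgebraicCycle Y ℤ} {γ : Fin (r + 1) → AlgebraicCycle Y ℤ}
    (h : Cyc.IsChernCap π₀ δ δ₀ O₀ r k α γ) : IsCapR F r δ k α γ := by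
  intro P π O1 q hP δP hδP
  match r with
  | 0 =>
    refine ⟨h.1, h.2.1, fun t _ β _ => ?_⟩
    haveI := isEmpty_bundle hP hF
    obtain rfl : β = 0 := DFunLike.coe_injective (funext fun y => isEmptyElim y)
    exact H23.RatOn.ratEquivZero (H23.RatOn.congr (H23.RatOn.zero Set.univ) fun _ => rfl)
  | n + 1 =>
    haveI := isProper_of_isProjBundle hP hF
    have h' := isChernCap_push hF hP hP₀ hY hY hδP hδ₀ (𝟙 Y) ((Scheme.Modules.pullbackId Y).app F)
      (H23.GysinLib.deltaCompat_closedImmersion (𝟙 Y) δ) h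
    simpa [map_id] using h'

include hF hY in
/-- A line bundle cap of a tuple of caps. -/
theorem IsCapR.cap1 {L : Y.Modules} (hL : PicF.IsInvertible L) (v : (ξ : Y) → Cyc.secFibre L ξ)
    (hv : ∀ ξ, v ξ ≠ 0) {k : ℤ} {α : AlgebraicCycle Y ℤ} {γ : Fin (r + 1) → AlgebraicCycle Y ℤ}
    (h : IsCapR F r δ k α γ) :
    haveI := hY.1
    IsCapR F r δ (k - 1) (H9PB.cap1 hL hY.2.2 v hv α) (fun j => H9PB.cap1 hL hY.2.2 v hv (γ j)) := by
  haveI := hY.1
  obtain ⟨P₀, π₀, O₀, q₀, hP₀⟩ := exists_bundle hF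
  haveI := isProper_bundle hP₀ hF
  have hδ₀ := H23.ChowDesc.deltaCompat_rd π₀ δ
  have h₀ := h P₀ π₀ O₀ q₀ hP₀ _ hδ₀
  have hm : ∀ j : Fin (r + 1), H9PB.cap1 hL hY.2.2 v hv (γ j) ∈ Cyc.Zk Y δ (k - 1 - ((j : ℕ) : ℤ)) := fun j => by
    have := cap1_mem hL hY.2.2 v hv (h₀.2.1 j)
    rwa [show k - ((j : ℕ) : ℤ) - 1 = k - 1 - ((j : ℕ) : ℤ) by ring] at this
  refine IsCapR.of_isChernCap hF hY hP₀ hδ₀ ?_
  match r with
  | 0 =>
    refine ⟨by simp only [h₀.1], hm, fun t _ β _ => ?_⟩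
    haveI := isEmpty_bundle hP₀ hF
    obtain rfl : β = 0 := DFunLike.coe_injective (funext fun y => isEmptyElim y)
    exact H23.RatOn.ratEquivZero (H23.RatOn.congr (H23.RatOn.zero Set.univ) fun _ => rfl)
  | n + 1 =>
    haveI := isProper_of_isProjBundle hP₀ hF
    have hPs := H23.SetupLFT.isSetup π₀ hY hδ₀
    have hfr := charted_of_isProjBundle hP₀ hF
    have hO := Model.isInvertible_of_rank hP₀.invertible
    have hc := (hfr.isCap_iff hO hY hPs hδ₀).1 h₀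
    exact (hfr.isCap_iff hO hY hPs hδ₀).2 ⟨by simp only [hc.zero], hm, hfr.cap1_rel hO hY hPs hδ₀ hL v hv hc.mem hc.rel⟩

include hY in
/-- The caps of an extension of a module by a line bundle. -/
theorem IsCapR.extend {m : ℕ} {E L Q : Y.Modules} (hE : FlatMod.IsFinLocFreeOfRank (m + 1) E)
    (hQ : FlatMod.IsFinLocFreeOfRank m Q) (hL : PicF.IsInvertible L) (a : L ⟶ E) (b : E ⟶ Q) (hab : a ≫ b = 0)
    (hex : (ShortComplex.mk a b hab).ShortExact) (v : (ξ : Y) → Cyc.secFibre L ξ) (hv : ∀ ξ, v ξ ≠ 0) {k : ℤ}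
    {α : AlgebraicCycle Y ℤ} {γ : Fin (m + 1 + 1) → AlgebraicCycle Y ℤ} (hγ : IsCapR E (m + 1) δ k α γ)
    {γ' : Fin (m + 1) → AlgebraicCycle Y ℤ} (hγ' : IsCapR Q m δ k α γ') (j : Fin (m + 1 + 1)) :
    haveI := hY.1
    γ j - (Fin.snoc (α := fun _ => AlgebraicCycle Y ℤ) γ' 0 j + Fin.cons (α := fun _ => AlgebraicCycle Y ℤ) 0
      (fun l => H9PB.cap1 hL hY.2.2 v hv (γ' l)) j) ∈ ratSub hY (k - ((j : ℕ) : ℤ)) := by
  obtain ⟨P, p, O1, q, hP⟩ := exists_bundle hE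
  obtain ⟨R, p', O1', q', hR⟩ := exists_bundle hQ
  haveI := isProper_of_isProjBundle hP hE
  haveI := isProper_bundle hR hQ
  have hδ := H23.ChowDesc.deltaCompat_rd p δ
  have hδ' := H23.ChowDesc.deltaCompat_rd p' δ
  exact chernCap_subInv hY hE hQ hL hP (H23.SetupLFT.isSetup p hY hδ) hδ hR (H23.SetupLFT.isSetup p' hY hδ') hδ'
    a b hab hex v hv (hγ P p O1 q hP _ hδ) (hγ' R p' O1' q' hR _ hδ') j

end CapR

section Rank

variable {X : Scheme.{u}}

/-- The rank of an extension. -/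
theorem isFinLocFreeOfRank_extension {S : ShortComplex X.Modules} (hS : S.ShortExact) {c r : ℕ}
    (h₁ : FlatMod.IsFinLocFreeOfRank c S.X₁) (h₃ : FlatMod.IsFinLocFreeOfRank r S.X₃) :
    FlatMod.IsFinLocFreeOfRank (c + r) S.X₂ := fun x => by
  have f₁ := ExtPowSh.flf_of_rank h₁
  have f₃ := ExtPowSh.flf_of_rank h₃
  have hM := ExtPowSh.isFinLocFree_X₂ hS (QCoh.isQCoh_of_isFinLocFree f₁) f₁ f₃
  obtain ⟨U, n, hx, ⟨e⟩⟩ := hM x
  obtain ⟨V, hV, hxV, hle⟩ := exists_isAffineOpen_mem_and_subset (U := U) (x := x) hx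
  obtain ⟨l⟩ := QCoh.free_sections hV hle e
  have h1 : ExtPowSh.rk S.X₂ x = n := QCoh.finrank_stalk_of_freeChart hV (QCoh.isQCoh_of_isFinLocFree hM) l hxV
  rw [ExtPowSh.rk_add hS f₁ f₃ x, ExtPowSh.rk_eq h₁ x, ExtPowSh.rk_eq h₃ x] at h1
  subst h1
  exact ⟨U, hx, ⟨e⟩⟩

theorem isFinLocFreeOfRank_zero_of_isZero {Z : X.Modules} (hZ : IsZero Z) : FlatMod.IsFinLocFreeOfRank 0 Z :=
  fun _ => ⟨⊤, trivial, ⟨((Scheme.Modules.restrictFunctor (⊤ : X.Opens).ι).map_isZero hZ).iso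
    ((IsZero.iff_id_eq_zero _).2 (Sigma.hom_ext _ _ fun j => j.elim0))⟩⟩

/-- The third isomorphism sequence of two monomorphisms. -/
theorem exists_cokernel_sequence {C : Type*} [Category C] [Abelian C] {A B L E : C} (a : A ⟶ B) (b : B ⟶ L)
    (hab : a ≫ b = 0) (hex : (ShortComplex.mk a b hab).ShortExact) (c : B ⟶ E) [Mono c] :
    ∃ (l : L ⟶ cokernel (a ≫ c)) (g : cokernel (a ≫ c) ⟶ cokernel c) (h : l ≫ g = 0),
      (ShortComplex.mk l g h).ShortExact := by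
  haveI : Mono a := hex.mono_f
  haveI : Epi b := hex.epi_g
  obtain ⟨l, hl⟩ : ∃ l, b ≫ l = c ≫ cokernel.π (a ≫ c) :=
    ⟨hex.exact.desc _ (by rw [← Category.assoc, cokernel.condition]), hex.exact.g_desc _ _⟩
  let g : cokernel (a ≫ c) ⟶ cokernel c := cokernel.desc _ (cokernel.π c) (by simp)
  have hg : cokernel.π (a ≫ c) ≫ g = cokernel.π c := cokernel.π_desc _ _ _
  have h : l ≫ g = 0 := by
    rw [← cancel_epi b, ← Category.assoc, hl, Category.assoc, hg, cokernel.condition, comp_zero]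
  haveI : Epi g := epi_of_epi_fac hg
  haveI : Mono l := Preadditive.mono_of_cancel_zero _ fun {T} x hx => by
    obtain ⟨T', π, hπ, y, hy⟩ := surjective_up_to_refinements_of_epi b x
    have hy' : (y ≫ c) ≫ cokernel.π (a ≫ c) = 0 := by
      rw [Category.assoc, ← hl, ← Category.assoc, ← hy, Category.assoc, hx, comp_zero]
    obtain ⟨T'', π', hπ', z, hz⟩ := (ShortComplex.exact_cokernel (a ≫ c)).exact_up_to_refinements (y ≫ c) hy'
    have hz' : π' ≫ y = z ≫ a := by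
      rw [← cancel_mono c, Category.assoc, Category.assoc]
      exact hz
    haveI := hπ
    haveI := hπ'
    rw [← cancel_epi π, ← cancel_epi π', comp_zero, comp_zero, hy, ← Category.assoc, hz', Category.assoc, hab,
      comp_zero]
  refine ⟨l, g, h, { exact := ShortComplex.exact_of_g_is_cokernel _ (CokernelCofork.IsColimit.ofπ' g h fun k hk => ?_) }⟩
  have hk' : c ≫ cokernel.π (a ≫ c) ≫ k = 0 := by
    rw [← Category.assoc, ← hl, Category.assoc, hk, comp_zero]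
  exact ⟨cokernel.desc c _ hk', by rw [← cancel_epi (cokernel.π (a ≫ c)), ← Category.assoc, hg, cokernel.π_desc]⟩

end Rank

end Groth.Agent.H9PB
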