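import Groth.Agent.H9PB.ChernClass

/-! The Chern classes of a vector bundle. -/

set_option autoImplicit false
set_option linter.style.haveILetI false
set_option linter.unusedSectionVars false
set_option backward.isDefEq.respectTransparency false
set_option backward.isDefEq.respectTransparency.types false
set_option maxHeartbeats 800000

universe u

open AlgebraicGeometry CategoryTheory CategoryTheory.Limits TopologicalSpace

namespace Groth.Agent.H9PB

open Groth.Agent

/-- The bundle of a module of rank zero is empty. -/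
theorem isEmpty_bundle {X P : Scheme.{u}} {p : P ⟶ X} {E : X.Modules} {O1 : P.Modules}
    {q : (Scheme.Modules.pullback p).obj E ⟶ O1} (hP : KRR.IsProjBundle p E O1 q)
    (hE : FlatMod.IsFinLocFreeOfRank 0 E) : IsEmpty P := by
  refine ⟨fun y => ?_⟩
  obtain ⟨b⟩ := CurveTensor.exists_basis_stalk (KRRReg.isFinLocFreeOfRank_pullback p hE) y
  obtain ⟨b'⟩ := CurveTensor.exists_basis_stalk hP.invertible y
  obtain ⟨a, ha⟩ := (Synt29.OmegaStalk.epi_iff_stalk q).1 hP.epi y (b' 0)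
  haveI : Subsingleton (((DerSch.stalkFunctor P y).obj ((Scheme.Modules.pullback p).obj E) : _)) :=
    b.repr.toEquiv.subsingleton
  exact b'.ne_zero 0 (by rw [← ha, Subsingleton.elim a 0, map_zero])

section Family

variable {X : Scheme.{u}} {δX : X → ℤ} {E : X.Modules}

/-- The family of Chern classes. -/
noncomputable def chernFam (hX : Cyc.IsSetup X δX) {n : ℕ} (hE : FlatMod.IsFinLocFreeOfRank (n + 1) E) (j : ℕ) :
    Bivar.OpCl (j : ℤ) X δX :=
  if h : j < n + 1 + 1 then chern hX hE ⟨j, h⟩ else 0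

theorem chernFam_fin (hX : Cyc.IsSetup X δX) {n : ℕ} (hE : FlatMod.IsFinLocFreeOfRank (n + 1) E)
    (j : Fin (n + 1 + 1)) : chernFam hX hE (j : ℕ) = chern hX hE j := dif_pos j.2

theorem isChernClasses_chernFam (hX : Cyc.IsSetup X δX) {n : ℕ} (hE : FlatMod.IsFinLocFreeOfRank (n + 1) E) :
    Bivar.IsChernClasses E (n + 1) (chernFam hX hE) := by
  refine ⟨hE, (chernFam_fin hX hE 0).trans (chern_zero hX hE), fun j hj => dif_neg (by omega),
    fun s P π O1 q hP δP hδP k α hα ζ hζ0 hζ hop => ?_⟩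
  have hs := H23.ChowDesc.isSetup_osq hX s
  have hEs := KRRReg.isFinLocFreeOfRank_pullback s.g hE
  obtain ⟨γ, hγ⟩ := IsCapOn.exists' hEs hs hα
  haveI := isProper_of_isProjBundle hP hEs
  have hfr := charted_of_isProjBundle hP hEs
  have hL := Model.isInvertible_of_rank hP.invertible
  have hPs := H23.SetupLFT.isSetup π hs hδP
  have hc := (hfr.isCap_iff hL hs hPs hδP).1 (hγ P π O1 q hP δP hδP)
  have hrat : ∀ j : Fin (n + 1 + 1), ζ j - γ j ∈ ratSub hs (k - ((j : ℕ) : ℤ)) := fun j => by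
    have h1 := hop j
    rw [chernFam_fin] at h1
    exact ratEquiv_of_cl_eq hs (h1.symm.trans (chernCH_cl hEs hs hα hγ j (hγ.mem hEs hs j)))
  refine (hfr.isCap_iff hL hs hPs hδP).2 ⟨hζ0, hζ, ?_⟩
  have hd : hfr.rel hL hs hPs hδP (ζ - γ) ∈ ratSub hPs (k - 1) := by
    rw [Charted.rel_apply]
    refine sum_mem fun l _ => zsmul_mem ?_ _
    have := hfr.term_ratSub hL hs hPs hδP ((ChowOps.zk s.Y s.δ _).sub_mem (hζ (Fin.rev l)) (hc.mem (Fin.rev l)))
      (hrat (Fin.rev l)) (l : ℕ)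
    rwa [Charted.deg_rev] at this
  rw [map_sub] at hd
  have := add_mem hd hc.rel
  rwa [sub_add_cancel] at this

theorem eq_chernFam (hX : Cyc.IsSetup X δX) {n : ℕ} (hE : FlatMod.IsFinLocFreeOfRank (n + 1) E)
    (c : (j : ℕ) → Bivar.OpCl (j : ℤ) X δX) (hc : Bivar.IsChernClasses E (n + 1) c) : c = chernFam hX hE := by
  obtain ⟨-, h0, hz, hcap⟩ := hc
  funext j
  by_cases hj : j < n + 1 + 1
  swap
  · rw [hz j (by omega), chernFam, dif_neg hj]
  refine Bivar.OpCl.ext (funext fun s => funext fun k => AddMonoidHom.ext fun a => ?_)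
  obtain ⟨α, hα, rfl⟩ := Bivar.exists_rep a
  have hs := H23.ChowDesc.isSetup_osq hX s
  have hEs := KRRReg.isFinLocFreeOfRank_pullback s.g hE
  choose β hβm hβ using fun l : Fin (n + 1 + 1) => Bivar.exists_rep ((c l).op s k (ChowOps.cl α hα))
  let ζ : Fin (n + 1 + 1) → AlgebraicCycle s.Y ℤ := fun l => if l = 0 then α else β l
  have hζm : ∀ l : Fin (n + 1 + 1), ζ l ∈ Cyc.Zk s.Y s.δ (k - ((l : ℕ) : ℤ)) := fun l => by
    by_cases hl : l = 0
    · subst hl; simpa [ζ] using hα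
    · simpa [ζ, hl] using hβm l
  have hζ : ∀ l : Fin (n + 1 + 1), (c l).op s k (ChowOps.cl α hα) = ChowOps.cl (ζ l) (hζm l) := fun l => by
    by_cases hl : l = 0
    · subst hl
      show (c 0).op s k (ChowOps.cl α hα) = _
      rw [h0]
      show Bivar.chCast s.Y s.δ (sub_zero k).symm (ChowOps.cl α hα) = _
      rw [Bivar.chCast_cl]
      exact Bivar.cl_congr (by simp [ζ]) _ _
    · exact (hβ l).symm.trans (Bivar.cl_congr (by simp [ζ, hl]) _ _)
  have hon : IsCapOn ((Scheme.Modules.pullback s.g).obj E) n s.δ k α ζ := fun P π O1 q hP δP hδP =>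
    hcap s P π O1 q hP δP hδP k α hα ζ (by simp [ζ]) hζm hζ
  have h1 := hζ ⟨j, hj⟩
  rw [chernFam, dif_pos hj]
  exact h1.trans (chernCH_cl hEs hs hα hon ⟨j, hj⟩ _).symm

theorem exists_isChernClasses (hX : Cyc.IsSetup X δX) (r : ℕ) (hE : FlatMod.IsFinLocFreeOfRank r E) :
    ∃ c : (j : ℕ) → Bivar.OpCl (j : ℤ) X δX, Bivar.IsChernClasses E r c := by
  match r with
  | n + 1 => exact ⟨_, isChernClasses_chernFam hX hE⟩
  | 0 =>
    refine ⟨fun j => match j with | 0 => Bivar.OpCl.one X δX | _ + 1 => 0, hE, rfl,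
      fun j hj => (by obtain ⟨j', rfl⟩ := Nat.exists_eq_succ_of_ne_zero hj.ne'; rfl),
      fun s P π O1 q hP δP hδP k α hα ζ hζ0 hζ _ => ⟨hζ0, hζ, fun t ht β hβ => ?_⟩⟩
    haveI := isEmpty_bundle hP (KRRReg.isFinLocFreeOfRank_pullback s.g hE)
    haveI := s.lft
    obtain rfl : β = 0 := DFunLike.coe_injective (funext fun y => isEmptyElim y)
    exact H23.RatOn.ratEquivZero (H23.RatOn.congr (H23.RatOn.zero Set.univ) fun _ => rfl)

theorem isChernClasses_unique (hX : Cyc.IsSetup X δX) (r : ℕ) {c c' : (j : ℕ) → Bivar.OpCl (j : ℤ) X δX}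
    (hc : Bivar.IsChernClasses E r c) (hc' : Bivar.IsChernClasses E r c') : c = c' := by
  match r with
  | n + 1 => rw [eq_chernFam hX hc.1 c hc, eq_chernFam hX hc.1 c' hc']
  | 0 =>
    funext j
    match j with
    | 0 => rw [hc.2.1, hc'.2.1]
    | j + 1 => rw [hc.2.2.1 (j + 1) (by omega), hc'.2.2.1 (j + 1) (by omega)]

end Family

end Groth.Agent.H9PB
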