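import Groth.Agent.H9PB.ChernClass

/-! The reciprocity of Segre and Chern classes. -/

set_option autoImplicit false
set_option linter.style.haveILetI false
set_option linter.unusedSectionVars false
set_option backward.isDefEq.respectTransparency false
set_option backward.isDefEq.respectTransparency.types false
set_option maxHeartbeats 800000

universe u

open AlgebraicGeometry CategoryTheory CategoryTheory.Limits TopologicalSpace

namespace Groth.Agent.H9PB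

open Groth.Agent

theorem powHom_add {X : Scheme.{u}} [IsLocallyNoetherian X] {δ : X → ℤ} {L : X.Modules} (hL : PicF.IsInvertible L)
    (hd : Cyc.IsDimFun X δ) (t : ℕ → (ξ : X) → Cyc.secFibre L ξ) (ht : ∀ m ξ, t m ξ ≠ 0) (b a : ℕ)
    (x : AlgebraicCycle X ℤ) :
    powHom hL hd t ht (b + a) x = powHom hL hd (fun m => t (b + m)) (fun m => ht (b + m)) a (powHom hL hd t ht b x) :=
  DFunLike.coe_injective (by rw [coe_powHom, coe_powHom, coe_powHom]; exact c1PowFun_add δ L t a b ⇑x)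

namespace Charted

variable {X P : Scheme.{u}} {p : P ⟶ X} {E : X.Modules} {O1 : P.Modules}
  {q : (Scheme.Modules.pullback p).obj E ⟶ O1} {n : ℕ} [IsProper p]
  (hE : FlatMod.IsFinLocFreeOfRank (n + 1) E) (hP : KRR.IsProjBundle p E O1 q) (hfr : Charted p O1 n)
  (hL : PicF.IsInvertible O1) {δ : X → ℤ} {δP : P → ℤ}
  (hX : Cyc.IsSetup X δ) (hPs : Cyc.IsSetup P δP) (hδ : Cyc.DeltaCompat p δP δ)
  (t : ℕ → (ξ : P) → Cyc.secFibre O1 ξ) (ht : ∀ j ξ, t j ξ ≠ 0)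

/-- The push-forward of an iterated cap of a pull-back. -/
noncomputable def segre (e : ℕ) : AlgebraicCycle X ℤ →+ AlgebraicCycle X ℤ :=
  haveI := hPs.1
  (pushAdd p δP δ).comp ((powHom hL hPs.2.2 t ht e).comp (hfr.pullAdd hX hPs hδ))

theorem segre_mem {D : ℤ} {a : AlgebraicCycle X ℤ} (ha : a ∈ Cyc.Zk X δ D) (e : ℕ) :
    hfr.segre hL hX hPs hδ t ht e a ∈ Cyc.Zk X δ (D + n - e) :=
  haveI := hPs.1
  Bivar.cycMap_mem_Zk p δP δ _ (powHom_mem hL hPs.2.2 t ht (hfr.pullAdd_mem hX hPs hδ ha) e)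

theorem segre_eq_zero {D : ℤ} {a : AlgebraicCycle X ℤ} (ha : a ∈ Cyc.Zk X δ D) {e : ℕ} (he : e < n) :
    hfr.segre hL hX hPs hδ t ht e a = 0 := by
  haveI := hPs.1
  exact map_pow_eq_zero hX hPs ha t e he (powHom hL hPs.2.2 t ht e (hfr.pullAdd hX hPs hδ a))
    (by rw [coe_powHom, coe_pullAdd]) (powHom_mem hL hPs.2.2 t ht (hfr.pullAdd_mem hX hPs hδ ha) e)

include hE hP in
/-- Caps commute with the Segre operations. -/
theorem isChernCap_segre {k : ℤ} {α : AlgebraicCycle X ℤ} {c : Fin (n + 1 + 1) → AlgebraicCycle X ℤ}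
    (hc : hfr.IsCap hL hX hPs hδ k α c) (e : ℕ) :
    hfr.IsCap hL hX hPs hδ (k + n - e) (hfr.segre hL hX hPs hδ t ht e α)
      (fun j => hfr.segre hL hX hPs hδ t ht e (c j)) := by
  haveI := hX.1
  haveI := hPs.1
  haveI := hfr.flat
  have hpE := KRRReg.isFinLocFreeOfRank_pullback p hE
  obtain ⟨R, π, OR, qR, hR⟩ := exists_bundle hpE
  haveI := isProper_of_isProjBundle hR hpE
  have hfrR := charted_of_isProjBundle hR hpE
  have hLR := Model.isInvertible_of_rank hR.invertible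
  have hπ := H23.ChowDesc.deltaCompat_rd π δP
  have hRs := H23.SetupLFT.isSetup π hPs hπ
  have h1 := isChernCap_pull hE hP hR hPs hX hδ hπ p (Iso.refl _) hδ (hfr.hasRelDim hX hPs hδ)
    ((hfr.isCap_iff hL hX hPs hδ).2 hc)
  have hc2 := (hfrR.isCap_iff hLR hPs hRs hπ).1 h1
  have h2 : hfrR.IsCap hLR hPs hRs hπ (k + n - e) (powHom hL hPs.2.2 t ht e (hfr.pullAdd hX hPs hδ α))
      (fun j => powHom hL hPs.2.2 t ht e (hfr.pullAdd hX hPs hδ (c j))) := by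
    refine ⟨?_, fun j => ?_, hfrR.powHom_rel hLR hPs hRs hπ hL t ht e hc2.mem hc2.rel⟩
    · show powHom hL hPs.2.2 t ht e (hfr.pullAdd hX hPs hδ (c 0)) = _
      rw [hc.zero]
    · have := powHom_mem hL hPs.2.2 t ht (hfr.pullAdd_mem hX hPs hδ (hc.mem j)) e
      rwa [show k - ((j : ℕ) : ℤ) + n - (e : ℤ) = k + n - e - ((j : ℕ) : ℤ) by ring] at this
  exact (hfr.isCap_iff hL hX hPs hδ).1 (isChernCap_push hE hP hR hPs hX hδ hπ p (Iso.refl _) hδ
    ((hfrR.isCap_iff hLR hPs hRs hπ).2 h2))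

theorem segre_rel {k : ℤ} {c : Fin (n + 1 + 1) → AlgebraicCycle X ℤ}
    (hm : ∀ j : Fin (n + 1 + 1), c j ∈ Cyc.Zk X δ (k - ((j : ℕ) : ℤ)))
    (hr : hfr.rel hL hX hPs hδ c ∈ ratSub hPs (k - 1)) (a : ℕ) :
    ∑ l : Fin (n + 1 + 1), ((-1 : ℤ) ^ (l : ℕ)) • hfr.segre hL hX hPs hδ t ht ((l : ℕ) + a) (c (Fin.rev l)) ∈
      ratSub hX (k - 1 - a) := by
  haveI := hX.1
  haveI := hPs.1
  have hrm : hfr.rel hL hX hPs hδ c ∈ Cyc.Zk P δP (k - 1) := by
    rw [rel_apply]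
    refine (ChowOps.zk P δP _).sum_mem fun l _ => (ChowOps.zk P δP _).zsmul_mem ?_ _
    have := hfr.term_mem hL hX hPs hδ (hm (Fin.rev l)) l
    rwa [deg_rev] at this
  have h1 : powHom hL hPs.2.2 t ht a (hfr.rel hL hX hPs hδ c) ∈ ratSub hPs (k - 1 - a) := by
    have h := powHom_ratEquiv hPs hL hrm ((ChowOps.zk P δP _).zero_mem) (by rw [Cyc.RatEquiv, sub_zero]; exact hr)
      ht ht a
    rw [map_zero, Cyc.RatEquiv, sub_zero] at h
    exact h
  have h2 : ∑ l : Fin (n + 1 + 1), ((-1 : ℤ) ^ (l : ℕ)) •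
      powHom hL hPs.2.2 t ht ((l : ℕ) + a) (hfr.pullAdd hX hPs hδ (c (Fin.rev l))) -
      powHom hL hPs.2.2 t ht a (hfr.rel hL hX hPs hδ c) ∈ ratSub hPs (k - 1 - a) := by
    rw [rel_apply, map_sum, ← Finset.sum_sub_distrib]
    refine sum_mem fun l _ => ?_
    rw [map_zsmul, ← smul_sub]
    refine zsmul_mem ?_ _
    have hb := hfr.pullAdd_mem hX hPs hδ (hm (Fin.rev l))
    have e1 := powHom_ratEquiv hPs hL hb hb (by rw [Cyc.RatEquiv, sub_self]; exact (ratSub hPs _).zero_mem) ht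
      (hfr.sec_ne_zero hL) (l : ℕ)
    have e2 := powHom_ratEquiv hPs hL (powHom_mem hL hPs.2.2 t ht hb (l : ℕ))
      (powHom_mem hL hPs.2.2 (hfr.sec hL) (hfr.sec_ne_zero hL) hb (l : ℕ)) e1 (fun m => ht ((l : ℕ) + m)) ht a
    rw [deg_rev, ← powHom_add] at e2
    exact e2
  have h3 := add_mem h2 h1
  rw [sub_add_cancel] at h3
  have h4 : pushAdd p δP δ (∑ l : Fin (n + 1 + 1), ((-1 : ℤ) ^ (l : ℕ)) •
      powHom hL hPs.2.2 t ht ((l : ℕ) + a) (hfr.pullAdd hX hPs hδ (c (Fin.rev l)))) ∈ ratSub hX (k - 1 - a) := by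
    have hz : AlgebraicCycle.map p δP δ (0 : AlgebraicCycle P ℤ) = 0 := map_zero (pushAdd p δP δ)
    have h := CycLib.ratEquiv_map p hPs hX hδ (β := 0) (show Cyc.RatEquiv δP (k - 1 - a) _ 0 by
      rw [Cyc.RatEquiv, sub_zero]; exact h3)
    rw [Cyc.RatEquiv, hz, sub_zero] at h
    exact h
  rw [map_sum] at h4
  simpa [map_zsmul, segre] using h4

end Charted

/-- The Segre-Chern identity. -/
theorem segre_chern {X P : Scheme.{u}} {p : P ⟶ X} {E : X.Modules} {O1 : P.Modules}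
    {q : (Scheme.Modules.pullback p).obj E ⟶ O1} {n : ℕ} [IsProper p] (hE : FlatMod.IsFinLocFreeOfRank (n + 1) E)
    (hP : KRR.IsProjBundle p E O1 q) {δ : X → ℤ} {δP : P → ℤ} (hX : Cyc.IsSetup X δ) (hPs : Cyc.IsSetup P δP)
    (hδ : Cyc.DeltaCompat p δP δ) {kk : ℤ} {α : AlgebraicCycle X ℤ} (hα : α ∈ Cyc.Zk X δ kk)
    (t : ℕ → (ξ : P) → Cyc.secFibre O1 ξ) (ht : ∀ j ξ, t j ξ ≠ 0) (β : ℕ → AlgebraicCycle X ℤ)
    (hβ : ∀ i, β i = (charted_of_isProjBundle hP hE).segre (Model.isInvertible_of_rank hP.invertible) hX hPs hδ t ht (n + i) α)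
    (γ : ℕ → Fin (n + 1 + 1) → AlgebraicCycle X ℤ)
    (hγ : ∀ i : ℕ, Cyc.IsChernCap p δ δP O1 (n + 1) (kk - (i : ℤ)) (β i) (γ i)) (mm : ℕ) (hmm : 1 ≤ mm) :
    (∑ i : Fin (mm + 1), if h : mm - (i : ℕ) ≤ n + 1 then
      ((-1 : ℤ) ^ (i : ℕ)) • γ (i : ℕ) ⟨mm - (i : ℕ), Nat.lt_succ_of_le h⟩ else 0) ∈ ratSub hX (kk - mm) := by
  classical
  have hfr := charted_of_isProjBundle hP hE
  have hL := Model.isInvertible_of_rank hP.invertible
  obtain ⟨c, hc⟩ := hfr.exists_isCap hL hX hPs hδ hα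
  let S := hfr.segre hL hX hPs hδ t ht
  have key : ∀ (i : ℕ) (j : Fin (n + 1 + 1)), γ i j - S (n + i) (c j) ∈ ratSub hX (kk - i - ((j : ℕ) : ℤ)) := fun i j => by
    have h2 := Charted.isChernCap_segre hE hP hfr hL hX hPs hδ t ht hc (n + i)
    rw [show kk + n - ((n + i : ℕ) : ℤ) = kk - i by push_cast; ring, ← hβ] at h2
    exact ((hfr.isCap_iff hL hX hPs hδ).1 (hγ i)).unique hfr hL hX hPs hδ h2 j
  let G : ℕ → AlgebraicCycle X ℤ := fun j =>
    if h : j ≤ n + 1 ∧ j ≤ mm then ((-1 : ℤ) ^ (mm - j)) • S (n + (mm - j)) (c ⟨j, Nat.lt_succ_of_le h.1⟩) else 0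
  have hG : ∀ a b : ℕ, (∀ j, a ≤ j → G j = 0) → a ≤ b → ∑ j ∈ Finset.range b, G j = ∑ j ∈ Finset.range a, G j :=
    fun a b h hab => (Finset.sum_subset (Finset.range_mono hab) fun j _ hj => h j (by simpa using hj)).symm
  have hGt : ∑ j ∈ Finset.range (mm + 1), G j = ∑ j ∈ Finset.range (n + 1 + 1), G j := by
    rw [← hG (mm + 1) (mm + 1 + (n + 1 + 1)) (fun j hj => dif_neg (by omega)) (by omega),
      hG (n + 1 + 1) (mm + 1 + (n + 1 + 1)) (fun j hj => dif_neg (by omega)) (by omega)]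
  have hrel := hfr.segre_rel hL hX hPs hδ t ht hc.mem hc.rel (mm - 1)
  rw [show kk - 1 - ((mm - 1 : ℕ) : ℤ) = kk - mm by omega] at hrel
  have hS : ((-1 : ℤ) ^ (n + 1 + mm)) • (∑ l : Fin (n + 1 + 1), ((-1 : ℤ) ^ (l : ℕ)) •
      S ((l : ℕ) + (mm - 1)) (c (Fin.rev l))) = ∑ j ∈ Finset.range (n + 1 + 1), G j := by
    rw [Finset.smul_sum, ← Fin.sum_univ_eq_sum_range]
    refine Fintype.sum_equiv Fin.revPerm _ _ fun l => ?_
    have hl : (Fin.rev l : ℕ) + (l : ℕ) = n + 1 := by rw [Fin.val_rev]; omega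
    simp only [Fin.revPerm_apply, G, smul_smul]
    by_cases h : (Fin.rev l : ℕ) ≤ mm
    · rw [dif_pos ⟨by omega, h⟩]
      congr 1
      · rw [← pow_add, neg_one_pow_eq_pow_mod_two, neg_one_pow_eq_pow_mod_two (n := mm - (Fin.rev l : ℕ))]
        congr 1
        omega
      · rw [show (l : ℕ) + (mm - 1) = n + (mm - (Fin.rev l : ℕ)) by omega]
    · rw [dif_neg (by omega), hfr.segre_eq_zero hL hX hPs hδ t ht (hc.mem (Fin.rev l)) (by omega), smul_zero]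
  have h1 : ∑ j ∈ Finset.range (mm + 1), G j ∈ ratSub hX (kk - mm) := by
    rw [hGt, ← hS]
    exact zsmul_mem hrel _
  rw [← Finset.sum_range_reflect, ← Fin.sum_univ_eq_sum_range] at h1
  have h2 : (∑ i : Fin (mm + 1), if h : mm - (i : ℕ) ≤ n + 1 then
      ((-1 : ℤ) ^ (i : ℕ)) • γ (i : ℕ) ⟨mm - (i : ℕ), Nat.lt_succ_of_le h⟩ else 0) -
      ∑ i : Fin (mm + 1), G (mm + 1 - 1 - (i : ℕ)) ∈ ratSub hX (kk - mm) := by
    rw [← Finset.sum_sub_distrib]
    refine sum_mem fun i _ => ?_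
    have hi := i.2
    simp only [G, show mm + 1 - 1 - (i : ℕ) = mm - (i : ℕ) by omega]
    by_cases h : mm - (i : ℕ) ≤ n + 1
    · simp only [dif_pos h, dif_pos (show mm - (i : ℕ) ≤ n + 1 ∧ mm - (i : ℕ) ≤ mm from ⟨h, by omega⟩),
        show mm - (mm - (i : ℕ)) = (i : ℕ) by omega, ← smul_sub]
      refine zsmul_mem ?_ _
      have := key i ⟨mm - (i : ℕ), Nat.lt_succ_of_le h⟩
      rwa [show kk - ((i : ℕ) : ℤ) - ((mm - (i : ℕ) : ℕ) : ℤ) = kk - mm by omega] at this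
    · rw [dif_neg h, dif_neg (fun hh => h hh.1), sub_zero]
      exact zero_mem _
  have h3 := add_mem h2 h1
  rwa [sub_add_cancel] at h3

end Groth.Agent.H9PB
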