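import Groth.Agent.H9PB.SubBundle
import Groth.Agent.H9PB.Segre
import Groth.Agent.H9PB.ChernExist

/-! Chern caps of an extension of a module by the structure sheaf. -/

set_option autoImplicit false
set_option linter.style.haveILetI false
set_option linter.unusedSectionVars false
set_option backward.isDefEq.respectTransparency false
set_option backward.isDefEq.respectTransparency.types false
set_option maxHeartbeats 800000

universe u

open AlgebraicGeometry CategoryTheory CategoryTheory.Limits TopologicalSpace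

namespace Groth.Agent.H9PB

open Groth.Agent

theorem pushAdd_mem {X Y : Scheme.{u}} (f : X ⟶ Y) [IsProper f] (δX : X → ℤ) (δY : Y → ℤ) {k : ℤ}
    {a : AlgebraicCycle X ℤ} (ha : a ∈ Cyc.Zk X δX k) : pushAdd f δX δY a ∈ Cyc.Zk Y δY k :=
  Bivar.cycMap_mem_Zk f δX δY k ha

theorem pushAdd_ratSub {X Y : Scheme.{u}} (f : X ⟶ Y) [IsProper f] {δX : X → ℤ} {δY : Y → ℤ}
    (hX : Cyc.IsSetup X δX) (hY : Cyc.IsSetup Y δY) (hf : Cyc.DeltaCompat f δX δY) {k : ℤ} {a : AlgebraicCycle X ℤ}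
    (h : a ∈ ratSub hX k) : pushAdd f δX δY a ∈ ratSub hY k := by
  have h0 : AlgebraicCycle.map f δX δY (0 : AlgebraicCycle X ℤ) = 0 := map_zero (pushAdd f δX δY)
  have h' := CycLib.ratEquiv_map f hX hY hf (β := 0) (show Cyc.RatEquiv δX k a 0 by rw [Cyc.RatEquiv, sub_zero]; exact h)
  rw [Cyc.RatEquiv, h0, sub_zero] at h'
  exact h'

section Div

variable {P Q : Scheme.{u}} {O1 : P.Modules} {δP : P → ℤ} (hP : Cyc.IsSetup P δP) (hO : PicF.IsInvertible O1)
  (h : Q ⟶ P) [IsClosedImmersion h] {s : O1.presheaf.obj (Opposite.op ⊤)} (hZ : Cyc.IsZeroSchemeOf h O1 s)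

include hZ in
/-- Capping once is the Gysin map of a zero scheme followed by push-forward. -/
theorem powHom_one_sub_gys {w : (ξ : P) → Cyc.secFibre O1 ξ} (hw : ∀ ξ, w ξ ≠ 0)
    (t : ℕ → (ξ : P) → Cyc.secFibre O1 ξ) (ht : ∀ j ξ, t j ξ ≠ 0) {D : ℤ} {b : AlgebraicCycle P ℤ}
    (hb : b ∈ Cyc.Zk P δP D) :
    haveI := hP.1
    powHom hO hP.2.2 t ht 1 b - pushAdd h (fun d => δP (h d)) δP (gysAdd hP hO h s hw b) ∈ ratSub hP (D - 1) := by
  haveI := hP.1
  have hg := H23.GysinLib.gysinChoice_ne_zero (L := O1) s hw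
  have he : pushAdd h (fun d => δP (h d)) δP (gysAdd hP hO h s hw b) =
      cap1 hO hP.2.2 (Cyc.gysinChoice O1 s w) hg b := DFunLike.coe_injective (by
    rw [coe_cap1]
    exact H23.GysinLib.map_gysinCycle hO hP.2.2 hZ b hw)
  rw [he]
  exact cap_ratEquiv hP hO hb hb (by rw [Cyc.RatEquiv, sub_self]; exact (ratSub hP _).zero_mem) (ht 0) hg

end Div

theorem zsmul_succ {M : Type*} [AddCommGroup M] (l : ℕ) (a : M) :
    ((-1 : ℤ) ^ (l + 1)) • a = -(((-1 : ℤ) ^ l) • a) := by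
  rw [pow_succ, mul_neg_one, neg_smul]

/-- Chern caps of an extension by the structure sheaf. -/
theorem chernCap_sub {X : Scheme.{u}} {δ : X → ℤ} (hX : Cyc.IsSetup X δ) {m : ℕ} {E F : X.Modules}
    (hE : FlatMod.IsFinLocFreeOfRank (m + 1) E) (hF : FlatMod.IsFinLocFreeOfRank m F)
    {P : Scheme.{u}} {p : P ⟶ X} {O1 : P.Modules} {q : (Scheme.Modules.pullback p).obj E ⟶ O1}
    (hP : KRR.IsProjBundle p E O1 q) [IsProper p] {δP : P → ℤ} (hPs : Cyc.IsSetup P δP) (hδ : Cyc.DeltaCompat p δP δ)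
    {Q : Scheme.{u}} {p' : Q ⟶ X} {O1' : Q.Modules} {q' : (Scheme.Modules.pullback p').obj F ⟶ O1'}
    (hQ : KRR.IsProjBundle p' F O1' q') [IsProper p'] {δQ : Q → ℤ} (hQs : Cyc.IsSetup Q δQ)
    (hδ' : Cyc.DeltaCompat p' δQ δ) (a : Coh.structureModule X ⟶ E) (b : E ⟶ F) (hab : a ≫ b = 0)
    (hex : (ShortComplex.mk a b hab).ShortExact) {k : ℤ} {α : AlgebraicCycle X ℤ}
    {γ : Fin (m + 1 + 1) → AlgebraicCycle X ℤ} (hγ : Cyc.IsChernCap p δ δP O1 (m + 1) k α γ)
    {γ' : Fin (m + 1) → AlgebraicCycle X ℤ} (hγ' : Cyc.IsChernCap p' δ δQ O1' m k α γ') (j : Fin (m + 1 + 1)) :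
    γ j - Fin.snoc (α := fun _ => AlgebraicCycle X ℤ) γ' 0 j ∈ ratSub hX (k - ((j : ℕ) : ℤ)) := by
  haveI := hX.1
  haveI := hPs.1
  obtain ⟨h, hhi, s, hh, ⟨e⟩, hZ⟩ := exists_quotient_divisor hE hF hP hQ a b hab hex
  haveI := hhi
  have hδh : Cyc.DeltaCompat h (fun d => δP (h d)) δP := H23.GysinLib.deltaCompat_closedImmersion h δP
  obtain rfl : δQ = fun d => δP (h d) := H23.ChowDesc.deltaCompat_unique p' hδ'
    (hh ▸ CycLib.deltaCompat_closedImmersion_comp h p hδ)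
  haveI := hQs.1
  have hfr := charted_of_isProjBundle hP hE
  have hO := Model.isInvertible_of_rank hP.invertible
  have hc := (hfr.isCap_iff hO hX hPs hδ).1 hγ
  obtain ⟨w, hw⟩ := H23.RatSec.exists_sections hO
  let c : Fin (m + 1 + 1) → AlgebraicCycle X ℤ := Fin.snoc (α := fun _ => AlgebraicCycle X ℤ) γ' 0
  have hc0 : c (0 : Fin (m + 1)).castSucc = α := by simp only [c, Fin.snoc_castSucc]; exact hγ'.1
  have hcm : ∀ l : Fin (m + 1 + 1), c l ∈ Cyc.Zk X δ (k - ((l : ℕ) : ℤ)) := by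
    intro l
    induction l using Fin.lastCases with
    | last => simp only [c, Fin.snoc_last]; exact (ChowOps.zk X δ _).zero_mem
    | cast l => simp only [c, Fin.snoc_castSucc]; exact hγ'.2.1 l
  suffices hrel : hfr.rel hO hX hPs hδ c ∈ ratSub hPs (k - 1) by
    refine hfr.isCap_unique hO hX hPs hδ hc.mem hcm (sub_mem hc.rel hrel) ?_ j
    rw [hc.zero, show c 0 = α from hc0, sub_self]
    exact zero_mem _
  rw [Charted.rel_apply, Fin.sum_univ_succ]
  have h0 : hfr.term hO hX hPs hδ ((0 : Fin (m + 1 + 1)) : ℕ) (c (Fin.rev 0)) = 0 := by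
    rw [Fin.rev_zero, show c (Fin.last (m + 1)) = 0 by simp [c], map_zero]
  rw [h0, smul_zero, zero_add]
  cases m with
  | zero =>
    haveI := isEmpty_bundle hQ hF
    rw [Fin.sum_univ_one]
    refine zsmul_mem ?_ _
    have hb := hfr.pullAdd_mem hX hPs hδ (hcm (Fin.rev (0 : Fin 1).succ))
    have h1 := powHom_one_sub_gys hPs hO h hZ hw (hfr.sec hO) (hfr.sec_ne_zero hO) hb
    rw [show gysAdd hPs hO h s hw _ = 0 from DFunLike.coe_injective (funext fun d => isEmptyElim d),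
      map_zero, sub_zero] at h1
    rw [show k - ((Fin.rev (0 : Fin 1).succ : ℕ) : ℤ) + ((0 : ℕ) : ℤ) - 1 = k - 1 by simp] at h1
    exact h1
  | succ n =>
    have hfr0 := charted_of_isProjBundle hQ hF
    have hO'' := Model.isInvertible_of_rank hQ.invertible
    have hO' := PicClLib.isInvertible_pullback h hO
    have hfrQ : Charted p' ((Scheme.Modules.pullback h).obj O1) n := by
      have := charted_of_iso hQ hF (𝟙 Q) ((Scheme.Modules.pullbackId Q).app O1' ≪≫ e.symm)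
      rwa [Category.id_comp] at this
    have hc' := (hfrQ.isCap_iff hO' hX hQs hδ').1
      (isChernCap_of_iso e.symm hfr0 hfrQ hX hQs hδ' hO'' hO' hγ')
    haveI := hfr.flat
    haveI : Flat (h ≫ p) := hh ▸ hfrQ.flat
    have hleD : ∀ d, δP (h d) ≤ δ (p (h d)) + n := fun d => by
      have := hfrQ.delta_le_add hδ' d
      rw [← hh, Scheme.Hom.comp_apply] at this
      exact this
    have hgen : ∀ η : X, H23.RatSec.cls O1 (hfr.gpt η 0) (O1.presheaf.germ ⊤ (hfr.gpt η 0) trivial s) ≠ 0 := by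
      intro η h0
      have hr : hfr.gpt η 0 ∈ Set.range h := by rw [hZ.1]; exact h0
      obtain ⟨d, hd⟩ := hr
      have h1 := hleD d
      rw [hd, hfr.delta_gpt hPs.2.2 hδ, hfr.p_gpt] at h1
      simp at h1
    have hreg := hfr.injective_smul_germ hO s hgen
    have hpull : ∀ {D : ℤ} {x : AlgebraicCycle X ℤ}, x ∈ Cyc.Zk X δ D →
        gysAdd hPs hO h s hw (hfr.pullAdd hX hPs hδ x) = hfrQ.pullAdd hX hQs hδ' x := fun {D x} hx =>
      DFunLike.coe_injective (funext fun d => by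
        rw [gysAdd_apply, Charted.coe_pullAdd, Charted.coe_pullAdd]
        have h5 := H23.CapFlat.c1CapFun_pull_gysin (r := n) hPs.2.2 hX.2.2 p
          (fun y => by have := hfr.delta_le_add hδ y; exact this) hO hreg h hZ hleD (k := D - 1) (α := ⇑x)
          (fun y hy => hx y (by omega)) w d
        simp only [hh] at h5
        convert h5 using 3
        push_cast
        rfl)
    let Ψ : ℕ → AlgebraicCycle X ℤ →+ AlgebraicCycle P ℤ := fun l =>
      (pushAdd h (fun d => δP (h d)) δP).comp (hfrQ.term hO' hX hQs hδ' l)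
    have hΨ : ∀ (l : ℕ) {D : ℤ} {x : AlgebraicCycle X ℤ}, x ∈ Cyc.Zk X δ D →
        hfr.term hO hX hPs hδ (l + 1) x - Ψ l x ∈ ratSub hPs (D + ((n + 1 : ℕ) : ℤ) - (l + 1 : ℕ)) := by
      intro l D x hx
      let t := hfr.sec hO
      have ht := hfr.sec_ne_zero hO
      have hb := hfr.pullAdd_mem hX hPs hδ hx
      have h1 := powHom_one_sub_gys hPs hO h hZ hw t ht hb
      rw [hpull hx] at h1
      have hzD : hfrQ.pullAdd hX hQs hδ' x ∈ Cyc.Zk Q (fun d => δP (h d)) (D + ((n + 1 : ℕ) : ℤ) - 1) := by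
        have := hfrQ.pullAdd_mem hX hQs hδ' hx
        rwa [show D + ((n + 1 : ℕ) : ℤ) - 1 = D + n by push_cast; ring]
      have h2 := powHom_ratEquiv hPs hO (powHom_mem hO hPs.2.2 t ht hb 1)
        (pushAdd_mem h _ δP hzD) h1 (fun i => ht (1 + i)) ht l
      rw [← powHom_add, ← pushAdd_powHom h hQs.2.2 hPs.2.2 hδh hO t ht, add_comm 1 l] at h2
      have h3 := pushAdd_ratSub h hQs hPs hδh
        (powHom_ratEquiv hQs hO' hzD hzD (by rw [Cyc.RatEquiv, sub_self]; exact (ratSub hQs _).zero_mem)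
          (fun i => H23.C1Pull.vPull_ne_zero hO (ht i)) (hfrQ.sec_ne_zero hO') l)
      rw [map_sub] at h3
      rw [show D + ((n + 1 : ℕ) : ℤ) - 1 - (l : ℤ) = D + ((n + 1 : ℕ) : ℤ) - ((l + 1 : ℕ) : ℤ) by push_cast; ring] at h3
      rw [show D + ((n + 1 : ℕ) : ℤ) - ((1 : ℕ) : ℤ) - (l : ℤ) = D + ((n + 1 : ℕ) : ℤ) - ((l + 1 : ℕ) : ℤ) by push_cast; ring] at h2
      have h4 := add_mem h2 h3
      rw [sub_add_sub_cancel] at h4
      exact h4
    have hP' : -(pushAdd h (fun d => δP (h d)) δP (hfrQ.rel hO' hX hQs hδ' γ')) ∈ ratSub hPs (k - 1) :=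
      neg_mem (pushAdd_ratSub h hQs hPs hδh hc'.rel)
    rw [Charted.rel_apply, map_sum, ← Finset.sum_neg_distrib] at hP'
    have hd : ∑ l : Fin (n + 1 + 1), ((-1 : ℤ) ^ ((l.succ : Fin (n + 1 + 1 + 1)) : ℕ)) •
        hfr.term hO hX hPs hδ ((l.succ : Fin (n + 1 + 1 + 1)) : ℕ) (c (Fin.rev l.succ)) -
        ∑ l : Fin (n + 1 + 1), -(pushAdd h (fun d => δP (h d)) δP)
          (((-1 : ℤ) ^ (l : ℕ)) • hfrQ.term hO' hX hQs hδ' l (γ' (Fin.rev l))) ∈ ratSub hPs (k - 1) := by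
      rw [← Finset.sum_sub_distrib]
      refine sum_mem fun l _ => ?_
      rw [Fin.rev_succ, show c (Fin.rev l).castSucc = γ' (Fin.rev l) by simp [c], Fin.val_succ, zsmul_succ,
        map_zsmul, sub_neg_eq_add, neg_add_eq_sub, ← smul_sub]
      refine zsmul_mem ?_ _
      rw [← neg_mem_iff, neg_sub]
      have h6 := hΨ (l : ℕ) (hc'.mem (Fin.rev l))
      rw [show k - ((Fin.rev l : ℕ) : ℤ) + ((n + 1 : ℕ) : ℤ) - (((l : ℕ) + 1 : ℕ) : ℤ) = k - 1 by
        have := Charted.deg_rev (n := n) k l; push_cast; omega] at h6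
      exact h6
    have h7 := add_mem hd hP'
    rwa [sub_add_cancel] at h7

end Groth.Agent.H9PB
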