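import Groth.Agent.H9PB.Cap
import Groth.Agent.CycLib.P1Deg

/-! In a fibre of a projective bundle every point is rationally equivalent to a multiple of a linear subspace. -/

set_option autoImplicit false
set_option linter.style.haveILetI false
set_option linter.unusedSectionVars false
set_option backward.isDefEq.respectTransparency false
set_option backward.isDefEq.respectTransparency.types false

universe u

open AlgebraicGeometry CategoryTheory CategoryTheory.Limits TopologicalSpace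

namespace Groth.Agent.H9PB

open Groth.Agent H9A1 H23.RatOn

/-- The variables of a stratum. -/
abbrev Lo {n : ℕ} (j : Fin (n + 1)) : Type u := ULift.{u} {l : Fin (n + 1) // j < l}

section Alg

open MvPolynomial

variable {R : Type u} [CommRing R] {n : ℕ} (j : Fin (n + 1))

/-- The projection to the coordinate ring of a stratum. -/
noncomputable def proj : Ch R j →ₐ[R] MvPolynomial (Lo.{u} j) R :=
  aeval fun l => if h : j < l.1 then X ⟨⟨l.1, h⟩⟩ else 0

/-- The section of the projection. -/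
noncomputable def incl : MvPolynomial (Lo.{u} j) R →ₐ[R] Ch R j :=
  rename fun l => ⟨l.down.1, l.down.2.ne'⟩

theorem incl_proj (f : Ch R j) : incl j (proj j f) = kill j j f := by
  refine AlgHom.congr_fun (φ₁ := (incl j).comp (proj j)) (MvPolynomial.algHom_ext fun l => ?_) f
  rcases lt_or_gt_of_ne l.2 with h | h
  · rw [kill_X_of_lt (by exact h), AlgHom.comp_apply, proj, aeval_X, dif_neg (not_lt.2 h.le), map_zero]
  · rw [kill_X_of_le (by exact (Fin.lt_def.1 h).le), AlgHom.comp_apply, proj, aeval_X, dif_pos h, incl, rename_X]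

theorem proj_surjective : Function.Surjective (proj (R := R) j) := fun f =>
  ⟨incl j f, AlgHom.congr_fun (φ₁ := (proj j).comp (incl j)) (φ₂ := AlgHom.id R _)
    (MvPolynomial.algHom_ext fun l => by simp [proj, incl, l.down.2]) f⟩

theorem proj_y_of_lt {l : Fin (n + 1)} (h : (l : ℕ) < j) : proj (R := R) j (y j l) = 0 := by
  rw [y_ne (fun e => by rw [e] at h; omega), proj, aeval_X, dif_neg (not_lt.2 (Fin.le_def.2 h.le))]

theorem ker_proj_le {P : Ideal (Ch R j)} (h : ∀ l : Fin (n + 1), (l : ℕ) < j → y j l ∈ P) :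
    RingHom.ker (proj (R := R) j).toRingHom ≤ P := by
  intro f hf
  have h0 : kill j j f = 0 := by
    rw [← incl_proj, show proj j f = 0 from hf, map_zero]
  have h1 := sub_kill_mem (j : ℕ) j f
  rw [h0, sub_zero] at h1
  refine (Ideal.span_le.2 ?_) h1
  rintro _ ⟨l, hl, rfl⟩
  have := h l.1 hl
  rwa [y_ne l.2] at this

end Alg

theorem zeroOn_finsetSum {W : Scheme.{u}} [IsLocallyNoetherian W] {δ : W → ℤ} (hd : Cyc.IsDimFun W δ) {k : ℤ}
    {T : Set W} {I : Type*} (S : Finset I) (c : I → ℤ) (G : I → W → ℤ) (h : ∀ i ∈ S, ZeroOn δ k T (G i)) :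
    ZeroOn δ k T fun x => ∑ i ∈ S, c i * G i x := by
  classical
  induction S using Finset.induction_on with
  | empty => exact congr (zero T) fun x => by simp
  | insert a S ha ih =>
    exact congr (add hd (h a (Finset.mem_insert_self a S)) (ih fun i hi => h i (Finset.mem_insert_of_mem hi)) (c a) 1)
      fun x => by rw [Finset.sum_insert ha, one_mul]

namespace Frame

variable {X P : Scheme.{u}} {p : P ⟶ X} {O1 : P.Modules} {n : ℕ} {U : X.Opens} (F : Frame p O1 n U)
  [IsLocallyNoetherian P] {δ : X → ℤ} {δP : P → ℤ}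

/-- The embedding of a stratum. -/
noncomputable def stratum (j : Fin (n + 1)) : Spec (CommRingCat.of (MvPolynomial (Lo.{u} j) Γ(X, U))) ⟶ P :=
  Spec.map (CommRingCat.ofHom (proj (R := Γ(X, U)) j).toRingHom) ≫ F.emb j

theorem stratum_comp (j : Fin (n + 1)) :
    F.stratum j ≫ p = Spec.map (CommRingCat.ofHom MvPolynomial.C) ≫ F.affine.fromSpec := by
  rw [stratum, Category.assoc, F.emb_comp, ← Category.assoc, ← Spec.map_comp]
  congr 2
  exact CommRingCat.hom_ext (RingHom.ext fun r => (proj j).commutes r)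

theorem mem_range_stratum {j : Fin (n + 1)} {x : P} :
    x ∈ Set.range (F.stratum j) ↔ F.Van j x ∧ x ∈ Set.range (F.emb j) := by
  constructor
  · rintro ⟨z, rfl⟩
    refine ⟨fun l hl hm => ?_, ⟨_, rfl⟩⟩
    refine (F.mem_range_iff j l (Spec.map (CommRingCat.ofHom (proj (R := Γ(X, U)) j).toRingHom) z)).1 hm ?_
    show proj j (y j l) ∈ (z : PrimeSpectrum (MvPolynomial (Lo.{u} j) Γ(X, U))).asIdeal
    rw [proj_y_of_lt j hl]
    exact zero_mem _
  · rintro ⟨hv, w, rfl⟩
    have hle : RingHom.ker (proj (R := Γ(X, U)) j).toRingHom ≤ (w : PrimeSpectrum (Ch Γ(X, U) j)).asIdeal :=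
      ker_proj_le j fun l hl => not_not.1 fun h => hv l hl ((F.mem_range_iff j l w).2 h)
    obtain ⟨z, hz⟩ : (w : PrimeSpectrum (Ch Γ(X, U) j)) ∈ Set.range (PrimeSpectrum.comap (proj (R := Γ(X, U)) j).toRingHom) := by
      rw [range_comap_of_surjective _ _ (proj_surjective j)]
      exact hle
    exact ⟨z, congrArg (F.emb j) hz⟩

variable [LocallyOfFiniteType p] (hd : Cyc.IsDimFun P δP) (hδ : Cyc.DeltaCompat p δP δ)

include hd hδ in
theorem stratum_core (η : U) {j : Fin (n + 1)} {ξ : P} (hp : p ξ = η) (hξ : ξ ∈ Set.range (F.stratum j))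
    (hlt : δP ξ < δ (η : X) + n - (j : ℕ)) :
    ∃ (ι : Type u) (_ : Finite ι) (ζ : ι → P) (f : (i : ι) → P.residueField (ζ i)),
      (∀ i, δP (ζ i) = δP ξ + 1) ∧ (∀ i, p (ζ i) = η) ∧ (∀ i, F.Van j (ζ i)) ∧ (∀ i, f i ≠ 0) ∧
      ∀ x, p x = η → x ∈ Set.range (F.stratum j) → ∑ᶠ i, Cyc.divFun δP (ζ i) (f i) x = pointCycle ξ x := by
  classical
  obtain ⟨z₀, rfl⟩ := hξ
  let cl := Spec.map (CommRingCat.ofHom (proj (R := Γ(X, U)) j).toRingHom)
  haveI : IsClosedImmersion cl := IsClosedImmersion.spec_of_surjective _ (proj_surjective j)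
  haveI : IsPreimmersion (F.stratum j) := by unfold stratum; infer_instance
  haveI : IsLocallyNoetherian (ChS X U j) := LocallyOfFiniteType.isLocallyNoetherian (F.emb j)
  haveI : IsLocallyNoetherian (Spec (CommRingCat.of (MvPolynomial (Lo.{u} j) Γ(X, U)))) :=
    LocallyOfFiniteType.isLocallyNoetherian cl
  let q : Spec (CommRingCat.of (MvPolynomial (Lo.{u} j) Γ(X, U))) ⟶ Spec Γ(X, U) :=
    Spec.map (CommRingCat.ofHom MvPolynomial.C)
  let δZ := fun z => δP (F.stratum j z)
  let δY := fun y => δ (F.affine.fromSpec y)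
  have hdZ : Cyc.IsDimFun _ δZ := CycLib.isDimFun_closedImmersion cl (CycLib.isDimFun_openImmersion (F.emb j) hd)
  have hq : ∀ z, F.affine.fromSpec (q z) = p (F.stratum j z) := fun z => by
    rw [← Scheme.Hom.comp_apply, ← Scheme.Hom.comp_apply, F.stratum_comp]
  have hmem : ∀ y : Spec Γ(X, U), F.affine.fromSpec y ∈ U := fun y => by
    rw [← SetLike.mem_coe, ← F.affine.range_fromSpec]
    exact ⟨y, rfl⟩
  have hover : (𝔸(Lo.{u} j; Spec Γ(X, U)) ↘ Spec Γ(X, U)) = (AffineSpace.SpecIso (Lo.{u} j) Γ(X, U)).hom ≫ q := by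
    rw [← Iso.inv_comp_eq, AffineSpace.SpecIso_inv_over]
  have hfib : ∀ y, Nonempty (q.fiber y ≅ Aff ((Spec Γ(X, U)).residueField y) (Lo.{u} j)) := fun y =>
    ⟨((AffineSpace.isPullback_map (n := Lo.{u} j) ((Spec Γ(X, U)).fromSpecResidueField y)).of_iso (Iso.refl _)
      (AffineSpace.SpecIso (Lo.{u} j) Γ(X, U)) (Iso.refl _) (Iso.refl _) (fst' := AffineSpace.map (Lo.{u} j)
        ((Spec Γ(X, U)).fromSpecResidueField y) ≫ (AffineSpace.SpecIso (Lo.{u} j) Γ(X, U)).hom)
      (snd' := 𝔸(Lo.{u} j; Spec ((Spec Γ(X, U)).residueField y)) ↘ Spec ((Spec Γ(X, U)).residueField y))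
      (f' := q) (g' := (Spec Γ(X, U)).fromSpecResidueField y)
      (by simp) (by simp) (by simp [hover]) (by simp)).isoPullback.symm ≪≫ AffineSpace.SpecIso _ _⟩
  haveI : ∀ y, Nonempty (q.fiber y) := fun y => ⟨(hfib y).some.inv (genericPoint (Aff _ (Lo.{u} j)))⟩
  have hint : ∀ y, IsIntegral (q.fiber y) := fun y => isIntegral_of_isOpenImmersion (hfib y).some.hom
  have hn : ∀ y, IsLocallyNoetherian (q.fiber y) := fun y => isLocallyNoetherian_of_isOpenImmersion (hfib y).some.hom
  have hgen : ∀ y, haveI := hint y; δZ (q.fiberι y (genericPoint (q.fiber y))) = δY y + ((n : ℤ) - (j : ℕ)) := by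
    intro y
    haveI := hint y
    let g := F.stratum j (q.fiberι y (genericPoint (q.fiber y)))
    have hpg : p g = F.affine.fromSpec y := by
      show p (F.stratum j _) = _
      rw [← hq, FlatDvr.fiberι_apply_eq]
    have h1 : F.gp ⟨_, hmem y⟩ j ⤳ g := F.gp_specializes hpg (F.mem_range_stratum.1 ⟨_, rfl⟩).1
    obtain ⟨z, hz⟩ := F.mem_range_stratum.2 ⟨F.van_gp ⟨_, hmem y⟩ j, F.gp_mem_range _ le_rfl⟩
    have hqz : q z = y := F.affine.fromSpec.isOpenEmbedding.injective (by rw [hq, hz, F.p_gp])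
    obtain ⟨w, hw⟩ : z ∈ Set.range (q.fiberι y) := by rw [Scheme.Hom.range_fiberι]; exact hqz
    have h2 : g ⤳ F.gp ⟨_, hmem y⟩ j := by
      rw [← hz, ← hw]
      exact ((genericPoint_specializes w).map (q.fiberι y).continuous).map (F.stratum j).continuous
    show δP g = _
    rw [(h2.antisymm h1).eq, F.delta_gp hd hδ]
    simp only [δY]
    ring
  have hcore : FibreCore q δZ δY ((n : ℤ) - (j : ℕ)) := fibreCore_of_fiber q hn fun y e hlt' α hα => by
    haveI := hint y
    exact triv_of_iso (hfib y).some.symm (triv_aff _ _) _ (isDimFun_fiber q y hdZ) e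
      (show e < δZ (q.fiberι y (genericPoint (q.fiber y))) by rw [hgen]; exact hlt') α hα
  obtain ⟨ι, hι, ζ, g, hζ, hqζ, hg, hsum⟩ := hcore z₀ (by
    show δP (F.stratum j z₀) < δ (F.affine.fromSpec (q z₀)) + _
    rw [hq, hp]
    omega)
  choose f hf using fun i => (CycLib.residueFieldMap_bijective (F.stratum j) (ζ i)).2 (g i)
  refine ⟨ι, hι, fun i => F.stratum j (ζ i), f, hζ, fun i => by rw [← hq, hqζ, hq, hp],
    fun i => (F.mem_range_stratum.1 ⟨_, rfl⟩).1, fun i h0 => hg i (by rw [← hf i, h0, map_zero]), ?_⟩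
  rintro _ hx ⟨z, rfl⟩
  have hqz : q z = q z₀ := F.affine.fromSpec.isOpenEmbedding.injective (by rw [hq, hq, hp, hx])
  rw [show pointCycle (F.stratum j z₀) (F.stratum j z) = pointCycle z₀ z by
    rw [pointCycle_apply, pointCycle_apply]
    exact if_congr (F.stratum j).isEmbedding.injective.eq_iff rfl rfl, ← hsum z hqz]
  exact finsum_congr fun i => by
    rw [← hf i, CycLib.divFun_preimmersion (F.stratum j) 0 fun z => (add_zero _).symm]

include hd hδ in
/-- A point of a fibre is a multiple of a linear subspace modulo divisors of functions on the fibre. -/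
theorem exists_rel [QuasiCompact p] (η : U) (m : Fin (n + 1)) (j : ℕ) {ξ : P} (hp : p ξ = η) (hv : F.Van j ξ)
    (hξ : δP ξ = δ (η : X) + n - (m : ℕ)) :
    ∃ (c : ℤ) (G : P → ℤ), ZeroOn δP (δ (η : X) + n - (m : ℕ)) {x | p x = η} G ∧
      ∀ x, p x = η → G x = pointCycle ξ x - c * pointCycle (F.gp η m) x := by
  classical
  induction hk : n + 1 - j using Nat.strong_induction_on generalizing j ξ with
  | _ d ih =>
    subst hk
    obtain ⟨i, hi⟩ := F.cover ξ (hp ▸ η.2)
    have hji : j ≤ (i : ℕ) := not_lt.1 fun h => hv i h hi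
    by_cases hv' : F.Van (j + 1) ξ
    · exact ih (n + 1 - (j + 1)) (by omega) (j + 1) hp hv' hξ rfl
    have hjn : j < n + 1 := lt_of_le_of_lt hji i.2
    obtain ⟨jf, rfl⟩ : ∃ jf : Fin (n + 1), (jf : ℕ) = j := ⟨⟨j, hjn⟩, rfl⟩
    have hmem : ξ ∈ Set.range (F.emb jf) := by
      by_contra h
      refine hv' fun l hl => ?_
      rcases Nat.lt_succ_iff_lt_or_eq.1 hl with hl | hl
      · exact hv l hl
      · rwa [show l = jf from Fin.ext hl]
    have hle := CycLib.delta_le hd (F.gp_specializes hp hv)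
    rw [F.delta_gp hd hδ, hξ] at hle
    rcases eq_or_lt_of_le (show (jf : ℕ) ≤ m by omega) with he | he
    · obtain rfl : jf = m := Fin.ext he
      refine ⟨1, fun _ => 0, zero _, fun x _ => ?_⟩
      rw [← F.eq_gp hd hδ hp hv hξ.ge, one_mul, sub_self]
    obtain ⟨ι, hι, ζ, f, hζ, hpζ, hvζ, hf, hsum⟩ :=
      F.stratum_core hd hδ η hp (F.mem_range_stratum.2 ⟨hv, hmem⟩) (by rw [hξ]; omega)
    let G : AlgebraicCycle P ℤ := CycLib.sumDiv hd ζ f hf (locallyFinite_of_finite ζ)
    have hG : ∀ x, G x = ∑ᶠ i, Cyc.divFun δP (ζ i) (f i) x := fun x => CycLib.sumDiv_apply ..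
    have hGz : ZeroOn δP (δ (η : X) + n - (m : ℕ)) {x | p x = η} ⇑G :=
      ⟨ι, ζ, f, fun i => by rw [hζ, hξ], hf, hpζ, locallyFinite_of_finite ζ, hG⟩
    let S := {x : P | p x = η ∧ x ≠ ξ ∧ G x ≠ 0}
    have hS : S.Finite := (finite_support_inter_compact G (p.isCompact_preimage F.affine.isCompact)).subset
      fun x hx => ⟨show p x ∈ U from hx.1 ▸ η.2, hx.2.2⟩
    have hrec : ∀ x : P, ∃ (c : ℤ) (H : P → ℤ), x ∈ S →
        ZeroOn δP (δ (η : X) + n - (m : ℕ)) {x | p x = η} H ∧
          ∀ y, p y = η → H y = pointCycle x y - c * pointCycle (F.gp η m) y := by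
      intro x
      by_cases hx : x ∈ S
      swap
      · exact ⟨0, 0, fun h => absurd h hx⟩
      obtain ⟨hpx, hxξ, hGx⟩ := hx
      obtain ⟨i, hi⟩ : ∃ i, Cyc.divFun δP (ζ i) (f i) x ≠ 0 :=
        not_forall.1 fun h => hGx (by rw [hG, finsum_eq_zero_of_forall_eq_zero h])
      have hvx : F.Van jf x :=
        F.van_of_specializes (hvζ i) (specializes_iff_mem_closure.2 (CycLib.mem_closure_of_divFun_ne_zero hi))
      have hdx : δP x + 1 = δP (ζ i) := not_not.1 fun h => hi (CycLib.divFun_eq_zero_of_delta δP (f i) h)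
      have hvx' : F.Van ((jf : ℕ) + 1) x := fun l hl => by
        rcases Nat.lt_succ_iff_lt_or_eq.1 hl with hl | hl
        · exact hvx l hl
        · rw [show l = jf from Fin.ext hl]
          intro hr
          refine hGx ?_
          rw [hG, hsum x hpx (F.mem_range_stratum.2 ⟨hvx, hr⟩), pointCycle_apply, if_neg hxξ]
      obtain ⟨c, H, h⟩ := ih (n + 1 - ((jf : ℕ) + 1)) (by omega) _ hpx hvx' (by rw [hζ, hξ] at hdx; omega) rfl
      exact ⟨c, H, fun _ => h⟩
    choose c H hH using hrec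
    refine ⟨-∑ x ∈ hS.toFinset, G x * c x, fun y => G y - ∑ x ∈ hS.toFinset, G x * H x y, ?_, fun y hy => ?_⟩
    · exact congr (add hd hGz (zeroOn_finsetSum hd hS.toFinset (fun x => G x) H fun x hx =>
        (hH x (hS.mem_toFinset.1 hx)).1) 1 (-1)) fun y => by ring
    have he1 : ∑ x ∈ hS.toFinset, G x * H x y =
        (∑ x ∈ hS.toFinset, G x * pointCycle x y) - (∑ x ∈ hS.toFinset, G x * c x) * pointCycle (F.gp η m) y := by
      rw [Finset.sum_mul, ← Finset.sum_sub_distrib]
      refine Finset.sum_congr rfl fun x hx => ?_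
      rw [(hH x (hS.mem_toFinset.1 hx)).2 y hy]
      ring
    have he2 : ∑ x ∈ hS.toFinset, G x * pointCycle x y = if y ∈ S then G y else 0 := by
      simp only [pointCycle_apply, mul_ite, mul_one, mul_zero, Finset.sum_ite_eq, Set.Finite.mem_toFinset]
    have he3 : G y - (if y ∈ S then G y else 0) = pointCycle ξ y := by
      rw [pointCycle_apply]
      by_cases hyξ : y = ξ
      · subst hyξ
        rw [if_neg (fun h => h.2.1 rfl), if_pos rfl, sub_zero, hG, hsum y hy (F.mem_range_stratum.2 ⟨hv, hmem⟩),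
          pointCycle_apply, if_pos rfl]
      · rw [if_neg hyξ]
        split_ifs with h
        · exact sub_self _
        · rw [sub_zero]
          exact not_not.1 fun h0 => h ⟨hy, hyξ, h0⟩
    show G y - ∑ x ∈ hS.toFinset, G x * H x y = _
    rw [he1, he2, ← he3]
    ring

end Frame

end Groth.Agent.H9PB
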