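import Groth.Agent.H9PB.Chow
import Groth.Agent.H9PB.Span

/-! The classes `c₁^i ∩ p^* αᵢ` generate the cycles of a projective bundle. -/

set_option autoImplicit false
set_option linter.style.haveILetI false
set_option linter.unusedSectionVars false
set_option backward.isDefEq.respectTransparency false
set_option backward.isDefEq.respectTransparency.types false

universe u

open AlgebraicGeometry CategoryTheory TopologicalSpace

namespace Groth.Agent.H9PB.Charted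

open Groth.Agent H9A1 H23.RatOn

variable {X P : Scheme.{u}} {p : P ⟶ X} {O1 : P.Modules} {n : ℕ} (hfr : Charted p O1 n) [IsProper p]
  (hL : PicF.IsInvertible O1) {δ : X → ℤ} {δP : P → ℤ} (hX : Cyc.IsSetup X δ) (hP : Cyc.IsSetup P δP)
  (hδ : Cyc.DeltaCompat p δP δ) (t : Fin (n + 1) → ℕ → (ξ : P) → Cyc.secFibre O1 ξ) (ht : ∀ i m ξ, t i m ξ ≠ 0)

/-- The combination `∑ c₁^i ∩ p^* αᵢ`. -/
noncomputable def combo : (Fin (n + 1) → AlgebraicCycle X ℤ) →+ AlgebraicCycle P ℤ :=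
  haveI := hP.1
  ∑ l, ((powHom hL hP.2.2 (t l) (ht l) l).comp (hfr.pullAdd hX hP hδ)).comp
    (Pi.evalAddMonoidHom (fun _ => AlgebraicCycle X ℤ) l)

theorem combo_apply (α : Fin (n + 1) → AlgebraicCycle X ℤ) :
    haveI := hP.1
    hfr.combo hL hX hP hδ t ht α = ∑ l, powHom hL hP.2.2 (t l) (ht l) l (hfr.pullAdd hX hP hδ (α l)) := by
  simp [combo]

/-- The cycles equivalent to such a combination. -/
noncomputable def spanned (k : ℤ) : AddSubgroup (AlgebraicCycle P ℤ) :=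
  (AddSubgroup.pi Set.univ fun l : Fin (n + 1) => ChowOps.zk X δ (k + ((l : ℕ) : ℤ))).map
    (hfr.combo hL hX hP hδ t ht) ⊔ ratSub hP (k + n)

include hfr hL hX hP hδ in
theorem mem_spanned_of_sec (k : ℤ) (m : Fin (n + 1)) {α : AlgebraicCycle X ℤ}
    (hα : α ∈ Cyc.Zk X δ (k + ((m : ℕ) : ℤ))) :
    haveI := hP.1
    powHom hL hP.2.2 (hfr.sec hL) (hfr.sec_ne_zero hL) m (hfr.pullAdd hX hP hδ α) ∈
      hfr.spanned hL hX hP hδ t ht k := by
  classical
  haveI := hP.1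
  have hmem : Pi.single m α ∈ AddSubgroup.pi Set.univ fun l : Fin (n + 1) => ChowOps.zk X δ (k + ((l : ℕ) : ℤ)) :=
    (AddSubgroup.mem_pi _).2 fun l _ => by
      rcases eq_or_ne l m with rfl | h
      · rw [Pi.single_eq_same]; exact hα
      · rw [Pi.single_eq_of_ne h]; exact zero_mem _
  have he : hfr.combo hL hX hP hδ t ht (Pi.single m α) = powHom hL hP.2.2 (t m) (ht m) m (hfr.pullAdd hX hP hδ α) := by
    rw [combo_apply, Finset.sum_eq_single m (fun l _ h => by rw [Pi.single_eq_of_ne h, map_zero, map_zero])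
      (fun h => absurd (Finset.mem_univ m) h), Pi.single_eq_same]
  have hk := hfr.pullAdd_mem hX hP hδ hα
  have hrat := powHom_ratEquiv hP hL hk hk (by rw [Cyc.RatEquiv, sub_self]; exact (ratSub hP _).zero_mem)
    (hfr.sec_ne_zero hL) (ht m) (m : ℕ)
  rw [show k + ((m : ℕ) : ℤ) + n - ((m : ℕ) : ℤ) = k + n by ring] at hrat
  exact AddSubgroup.mem_sup.2 ⟨_, AddSubgroup.mem_map.2 ⟨_, hmem, he⟩, _, hrat, add_sub_cancel _ _⟩

include hfr hL hX hP hδ in
/-- One descending step: the points over the points of dimension `k + N`. -/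
theorem span_step (k : ℤ) (N : ℕ) (hN : N ≤ n) (β : AlgebraicCycle P ℤ) (hβ : β ∈ Cyc.Zk P δP (k + n))
    (hle : ∀ x, β x ≠ 0 → δ (p x) ≤ k + N) :
    ∃ β' : AlgebraicCycle P ℤ, β - β' ∈ hfr.spanned hL hX hP hδ t ht k ∧ β' ∈ Cyc.Zk P δP (k + n) ∧
      ∀ x, β' x ≠ 0 → δ (p x) < k + N := by
  classical
  haveI := hX.1
  haveI := hP.1
  let m : Fin (n + 1) := ⟨N, Nat.lt_succ_of_le hN⟩
  let P' := {ξ : P // β ξ ≠ 0 ∧ δ (p ξ) = k + N}
  have hrel : ∀ ξ : P', ∃ (c : ℤ) (G : P → ℤ), ZeroOn δP (k + n) {x | p x = p ξ.1} G ∧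
      ∀ x, p x = p ξ.1 → G x = pointCycle ξ.1 x - c * pointCycle (hfr.gpt (p ξ.1) m) x := fun ξ => by
    have hdeg : δ (p ξ.1) + n - (m : ℕ) = k + n := by
      rw [ξ.2.2]; simp only [m]; ring
    obtain ⟨c, G, hG, h⟩ := (hfr.frame (p ξ.1)).exists_rel hP.2.2 hδ ⟨p ξ.1, hfr.mem_opn _⟩ m 0 (ξ := ξ.1) rfl
      (fun l hl => absurd hl (Nat.not_lt_zero _))
      ((not_not.1 fun h => ξ.2.1 (hβ _ h) : δP ξ.1 = k + n).trans hdeg.symm)
    exact ⟨c, G, hdeg ▸ hG, h⟩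
  choose c G hG hGval using hrel
  have hnear : ∀ y : X, ∃ V : X.Opens, y ∈ V ∧ {ξ : P' | p ξ.1 ∈ V}.Finite := fun y => by
    obtain ⟨V, hV, hyV, -⟩ := exists_isAffineOpen_mem_and_subset (x := y) (U := ⊤) trivial
    refine ⟨V, hyV, ((finite_support_inter_compact β (p.isCompact_preimage hV.isCompact)).preimage
      Subtype.val_injective.injOn).subset fun ξ hξ => ⟨hξ, ξ.2.1⟩⟩
  have hsumZ : ZeroOn δP (k + n) Set.univ fun x => ∑ᶠ ξ : P', β ξ.1 * G ξ x := by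
    refine sum hP.2.2 (fun ξ : P' => β ξ.1) G (fun ξ => {x | p x = p ξ.1}) (fun _ => Set.subset_univ _) hG fun x => ?_
    obtain ⟨V, hxV, hfin⟩ := hnear (p x)
    refine ⟨p ⁻¹' (V : Set X), (p ⁻¹ᵁ V).2, hxV, hfin.subset ?_⟩
    rintro ξ ⟨⟨w, hw, hwV⟩, -⟩
    show p ξ.1 ∈ V
    rw [← show p w = p ξ.1 from hw]
    exact hwV
  obtain ⟨ι, z, g, hz, hg, -, hloc, hval⟩ := hsumZ
  let B := CycLib.sumDiv hP.2.2 z g hg hloc
  have hB : ∀ x, B x = ∑ᶠ ξ : P', β ξ.1 * G ξ x := fun x => by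
    rw [show ∑ᶠ ξ : P', β ξ.1 * G ξ x = _ from hval x]
    exact CycLib.sumDiv_apply ..
  have hBrat : B ∈ ratSub hP (k + n) := ⟨ι, z, g, hz, hg, hloc, fun x => CycLib.sumDiv_apply ..⟩
  let a : X → ℤ := fun η => ∑ᶠ ξ : P', if p ξ.1 = η then β ξ.1 * c ξ else 0
  have ha : ∀ η, a η ≠ 0 → ∃ ξ : P', p ξ.1 = η := fun η h => by
    by_contra hn
    exact h (finsum_eq_zero_of_forall_eq_zero fun ξ => if_neg fun e => hn ⟨ξ, e⟩)
  let α : AlgebraicCycle X ℤ :=
    { toFun := a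
      supportWithinDomain' := fun _ _ => trivial
      supportLocallyFiniteWithinDomain' := fun y _ => by
        obtain ⟨V, hyV, hfin⟩ := hnear y
        refine ⟨V, V.2.mem_nhds hyV, (hfin.image fun ξ => p ξ.1).subset ?_⟩
        rintro η ⟨hηV, hη⟩
        obtain ⟨ξ, rfl⟩ := ha η hη
        exact ⟨ξ, hηV, rfl⟩ }
  have hα : α ∈ Cyc.Zk X δ (k + ((m : ℕ) : ℤ)) := fun η hη => not_not.1 fun h => by
    obtain ⟨ξ, rfl⟩ := ha η h
    exact hη ξ.2.2
  let A := powHom hL hP.2.2 (hfr.sec hL) (hfr.sec_ne_zero hL) m (hfr.pullAdd hX hP hδ α)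
  have hA : ∀ x, A x = Cyc.c1PowFun δP O1 (hfr.sec hL) m (Cyc.pullFun p δP δ n ⇑α) x := fun x => by
    rw [← coe_pullAdd hfr hX hP hδ α, ← coe_powHom hL hP.2.2 (hfr.sec hL) (hfr.sec_ne_zero hL)]
  have hAmem : A ∈ Cyc.Zk P δP (k + n) := by
    have := powHom_mem hL hP.2.2 (hfr.sec hL) (hfr.sec_ne_zero hL) (hfr.pullAdd_mem hX hP hδ hα) (m : ℕ)
    rwa [show k + ((m : ℕ) : ℤ) + n - ((m : ℕ) : ℤ) = k + n by ring] at this
  have hBmem : B ∈ Cyc.Zk P δP (k + n) := fun x hx => by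
    rw [CycLib.sumDiv_apply, finsum_eq_zero_of_forall_eq_zero]
    intro i
    exact CycLib.divFun_eq_zero_of_delta δP (g i) (by rw [hz]; omega)
  refine ⟨β - B - A, ?_, (ChowOps.zk P δP (k + n)).sub_mem ((ChowOps.zk P δP (k + n)).sub_mem hβ hBmem) hAmem,
    fun x hx => ?_⟩
  · rw [show β - (β - B - A) = A + B by abel]
    exact add_mem (hfr.mem_spanned_of_sec hL hX hP hδ t ht k m hα) (AddSubgroup.mem_sup_right hBrat)
  by_contra hlt
  apply hx
  rw [Function.locallyFinsuppWithin.coe_sub, Function.locallyFinsuppWithin.coe_sub, Pi.sub_apply, Pi.sub_apply]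
  have hGs : ∀ ξ : P', G ξ x ≠ 0 → δ (p x) ≤ k + N ∧ (δ (p x) = k + N → p x = p ξ.1) := fun ξ hne => by
    obtain ⟨ι', z', g', -, -, hT, -, hv⟩ := hG ξ
    obtain ⟨i, hi⟩ : ∃ i, Cyc.divFun δP (z' i) (g' i) x ≠ 0 :=
      not_forall.1 fun h => hne ((hv x).trans (finsum_eq_zero_of_forall_eq_zero h))
    have hs : p ξ.1 ⤳ p x := (show p (z' i) = p ξ.1 from hT i) ▸
      (specializes_iff_mem_closure.2 (CycLib.mem_closure_of_divFun_ne_zero hi)).map p.continuous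
    exact ⟨ξ.2.2 ▸ CycLib.delta_le hX.2.2 hs,
      fun e => (CycLib.eq_of_delta_le hX.2.2 hs (by rw [ξ.2.2, e])).symm⟩
  rcases eq_or_ne (δ (p x)) (k + N) with hd | hd
  swap
  · have hβ0 : β x = 0 := not_not.1 fun h => by have := hle x h; omega
    have hB0 : B x = 0 := (hB x).trans (finsum_eq_zero_of_forall_eq_zero fun ξ => by
      rcases eq_or_ne (G ξ x) 0 with h | h
      · rw [h, mul_zero]
      · have := (hGs ξ h).1; omega)
    have hA0 : A x = 0 := by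
      rw [hA]
      by_contra h
      obtain ⟨η, hη, hs⟩ := specializes_of_c1Pow_ne_zero (hfr.sec hL) ⇑α m h
      have h1 := CycLib.delta_le hX.2.2 hs
      have h2 : δ η = k + ((m : ℕ) : ℤ) := not_not.1 fun hh => hη (hα η hh)
      simp only [m] at h2
      omega
    rw [hβ0, hB0, hA0, sub_self, sub_zero]
  have hA1 : A x = if x = hfr.gpt (p x) m then a (p x) else 0 := by
    rw [hA]
    exact hfr.c1Pow_sec_eq hL hP.2.2 hX.2.2 hδ (k := k + ((m : ℕ) : ℤ)) (α := ⇑α) hα m x hd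
  obtain ⟨V, hxV, hfin⟩ := hnear (p x)
  let S : Finset P' := hfin.toFinset.filter fun ξ => p ξ.1 = p x
  have hS : ∀ ξ : P', p ξ.1 = p x → ξ ∈ S := fun ξ e =>
    Finset.mem_filter.2 ⟨hfin.mem_toFinset.2 (show p ξ.1 ∈ V from e ▸ hxV), e⟩
  have ha1 : a (p x) = ∑ ξ ∈ S, β ξ.1 * c ξ := by
    show ∑ᶠ ξ : P', (if p ξ.1 = p x then β ξ.1 * c ξ else 0) = _
    rw [finsum_eq_sum_of_support_subset (s := S) _ fun ξ hξ => hS ξ (of_not_not fun h => hξ (if_neg h))]
    exact Finset.sum_congr rfl fun ξ hξ => if_pos (Finset.mem_filter.1 hξ).2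
  have hB1 : B x = ∑ ξ ∈ S, β ξ.1 * pointCycle ξ.1 x - a (p x) * pointCycle (hfr.gpt (p x) m) x := by
    rw [hB, finsum_eq_sum_of_support_subset (s := S) _ fun ξ hξ => hS ξ
      ((hGs ξ (right_ne_zero_of_mul hξ)).2 hd).symm, ha1, Finset.sum_mul, ← Finset.sum_sub_distrib]
    refine Finset.sum_congr rfl fun ξ hξ => ?_
    rw [hGval ξ x (Finset.mem_filter.1 hξ).2.symm, (Finset.mem_filter.1 hξ).2]
    ring
  have hB2 : ∑ ξ ∈ S, β ξ.1 * pointCycle ξ.1 x = β x := by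
    by_cases hx0 : β x = 0
    · rw [hx0]
      refine Finset.sum_eq_zero fun ξ _ => ?_
      rw [pointCycle_apply, if_neg fun e => ξ.2.1 (by rw [← e]; exact hx0), mul_zero]
    · rw [Finset.sum_eq_single (⟨x, hx0, hd⟩ : P') (fun ξ _ hne => by
          rw [pointCycle_apply, if_neg fun e => hne (Subtype.ext e.symm), mul_zero])
        (fun h => absurd (hS _ rfl) h), pointCycle_apply, if_pos rfl, mul_one]
  rw [hB1, hB2, hA1, pointCycle_apply]
  split_ifs <;> ring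

include hfr hL hX hP hδ in
theorem mem_spanned (k : ℤ) (β : AlgebraicCycle P ℤ) (hβ : β ∈ Cyc.Zk P δP (k + n)) :
    β ∈ hfr.spanned hL hX hP hδ t ht k := by
  suffices H : ∀ N ≤ n + 1, ∀ γ : AlgebraicCycle P ℤ, γ ∈ Cyc.Zk P δP (k + n) →
      (∀ x, γ x ≠ 0 → δ (p x) < k + N) → γ ∈ hfr.spanned hL hX hP hδ t ht k from
    H (n + 1) le_rfl β hβ fun x hx => by
      have h1 : δP x = k + n := not_not.1 fun h => hx (hβ x h)
      have h2 := CycLib.le_of_deltaCompat p hδ x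
      push_cast
      omega
  intro N
  induction N with
  | zero =>
    intro _ γ hγ hlt
    rw [show γ = 0 from DFunLike.coe_injective (funext fun x => not_not.1 fun hx => by
      have h1 : δP x = k + n := not_not.1 fun h => hx (hγ x h)
      have h2 := (hfr.frame (p x)).delta_le_add hδ (hfr.mem_opn (p x))
      have h3 := hlt x hx
      omega)]
    exact zero_mem _
  | succ N ih =>
    intro hN γ hγ hlt
    obtain ⟨γ', hsub, hγ', hlt'⟩ := hfr.span_step hL hX hP hδ t ht k N (by omega) γ hγ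
      fun x hx => by have := hlt x hx; push_cast at this; omega
    rw [← sub_add_cancel γ γ']
    exact add_mem hsub (ih (by omega) γ' hγ' hlt')

include hfr hL hX hP hδ in
/-- Every cycle is equivalent to a combination `∑ c₁^i ∩ p^* αᵢ`. -/
theorem exists_combo (k : ℤ) (β : AlgebraicCycle P ℤ) (hβ : β ∈ Cyc.Zk P δP (k + n)) :
    ∃ α : Fin (n + 1) → AlgebraicCycle X ℤ, (∀ i : Fin (n + 1), α i ∈ Cyc.Zk X δ (k + ((i : ℕ) : ℤ))) ∧
      Cyc.RatEquiv δP (k + n) β (hfr.combo hL hX hP hδ t ht α) := by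
  obtain ⟨_, hm, r, hr, he⟩ := AddSubgroup.mem_sup.1 (hfr.mem_spanned hL hX hP hδ t ht k β hβ)
  obtain ⟨α, hα, rfl⟩ := AddSubgroup.mem_map.1 hm
  refine ⟨α, fun i => (AddSubgroup.mem_pi _).1 hα i trivial, ?_⟩
  rw [Cyc.RatEquiv, show β - hfr.combo hL hX hP hδ t ht α = r by rw [← he, add_sub_cancel_left]]
  exact hr

end Groth.Agent.H9PB.Charted
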