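import Mathlib.RingTheory.Polynomial.Basic
import Mathlib.RingTheory.Spectrum.Prime.Basic

/-! The primes of the linear subspaces in the standard charts of projective space over a ring. -/

set_option autoImplicit false

universe u

open MvPolynomial

namespace Groth.Agent.H9PB

variable {R : Type u} [CommRing R] {n : ℕ}

/-- The coordinate ring of the `i`-th standard chart of projective `n`-space. -/
abbrev Ch (R : Type u) [CommRing R] {n : ℕ} (i : Fin (n + 1)) : Type u :=
  MvPolynomial {l : Fin (n + 1) // l ≠ i} R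

/-- The ratio of the `l`-th to the `i`-th coordinate. -/
noncomputable def y (i l : Fin (n + 1)) : Ch R i := if h : l = i then 1 else X ⟨l, h⟩

@[simp] theorem y_self (i : Fin (n + 1)) : (y i i : Ch R i) = 1 := dif_pos rfl

theorem y_ne {i l : Fin (n + 1)} (h : l ≠ i) : (y i l : Ch R i) = X ⟨l, h⟩ := dif_neg h

/-- Setting the first `j` coordinates to zero. -/
noncomputable def kill (j : ℕ) (i : Fin (n + 1)) : Ch R i →ₐ[R] Ch R i :=
  aeval fun l => if (l.1 : ℕ) < j then 0 else X l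

theorem kill_X_of_lt {j : ℕ} {i : Fin (n + 1)} {l : {l : Fin (n + 1) // l ≠ i}} (h : (l.1 : ℕ) < j) :
    kill (R := R) j i (X l) = 0 := by simp [kill, h]

theorem kill_X_of_le {j : ℕ} {i : Fin (n + 1)} {l : {l : Fin (n + 1) // l ≠ i}} (h : j ≤ (l.1 : ℕ)) :
    kill (R := R) j i (X l) = X l := by simp [kill, not_lt.2 h]

/-- The prime of the linear subspace cut by the first `j` coordinates over the prime `q`. -/
noncomputable def lin (q : Ideal R) (j : ℕ) (i : Fin (n + 1)) : Ideal (Ch R i) :=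
  RingHom.ker (((MvPolynomial.map (Ideal.Quotient.mk q)).comp (kill j i).toRingHom))

instance lin_isPrime (q : Ideal R) [q.IsPrime] (j : ℕ) (i : Fin (n + 1)) : (lin q j i).IsPrime :=
  RingHom.ker_isPrime _

theorem C_mem_lin {q : Ideal R} {j : ℕ} {i : Fin (n + 1)} {r : R} :
    (C r : Ch R i) ∈ lin q j i ↔ r ∈ q := by
  simp [lin, RingHom.mem_ker, kill, Ideal.Quotient.eq_zero_iff_mem]

theorem comap_C_lin (q : Ideal R) (j : ℕ) (i : Fin (n + 1)) : (lin q j i).comap C = q :=
  Ideal.ext fun _ => C_mem_lin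

theorem X_mem_lin {q : Ideal R} [q.IsPrime] {j : ℕ} {i : Fin (n + 1)} {l : {l : Fin (n + 1) // l ≠ i}} :
    (X l : Ch R i) ∈ lin q j i ↔ (l.1 : ℕ) < j := by
  constructor
  · intro h
    by_contra hl
    rw [lin, RingHom.mem_ker] at h
    simp [kill_X_of_le (not_lt.1 hl)] at h
  · intro h
    simp [lin, RingHom.mem_ker, kill_X_of_lt h]

theorem y_mem_lin {q : Ideal R} [q.IsPrime] {j : ℕ} {i l : Fin (n + 1)} :
    (y i l : Ch R i) ∈ lin q j i ↔ l ≠ i ∧ (l : ℕ) < j := by
  by_cases h : l = i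
  · subst h
    simp [(inferInstance : (lin q j l).IsPrime).ne_top, ← Ideal.eq_top_iff_one]
  · rw [y_ne h, X_mem_lin]
    simp [h]

theorem sub_kill_mem (j : ℕ) (i : Fin (n + 1)) (f : Ch R i) :
    f - kill j i f ∈ Ideal.span (X '' {l : {l : Fin (n + 1) // l ≠ i} | (l.1 : ℕ) < j}) := by
  induction f using MvPolynomial.induction_on with
  | C r => simp [kill]
  | add f g hf hg => rw [map_add]; convert Ideal.add_mem _ hf hg using 1; ring
  | mul_X f l hf =>
    rw [map_mul]
    by_cases h : (l.1 : ℕ) < j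
    · rw [kill_X_of_lt h, mul_zero, sub_zero]
      exact Ideal.mul_mem_left _ _ (Ideal.subset_span ⟨l, h, rfl⟩)
    · rw [kill_X_of_le (not_lt.1 h), ← sub_mul]
      exact Ideal.mul_mem_right _ _ hf

theorem lin_eq (q : Ideal R) [q.IsPrime] (j : ℕ) (i : Fin (n + 1)) :
    lin q j i = q.map C ⊔ Ideal.span (X '' {l : {l : Fin (n + 1) // l ≠ i} | (l.1 : ℕ) < j}) := by
  refine le_antisymm (fun f hf => ?_) (sup_le (Ideal.map_le_iff_le_comap.2 fun r hr => C_mem_lin.2 hr)
    (Ideal.span_le.2 ?_))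
  · rw [show f = kill j i f + (f - kill j i f) by ring]
    refine Ideal.add_mem _ (Ideal.mem_sup_left ?_) (Ideal.mem_sup_right (sub_kill_mem j i f))
    conv_lhs => rw [show q = RingHom.ker (Ideal.Quotient.mk q) from Ideal.mk_ker.symm]
    rw [← MvPolynomial.ker_map]
    exact hf
  · rintro _ ⟨l, hl, rfl⟩
    exact X_mem_lin.2 hl

theorem lin_zero (q : Ideal R) [q.IsPrime] (i : Fin (n + 1)) : lin q 0 i = q.map C := by simp [lin_eq]

theorem lin_succ (q : Ideal R) [q.IsPrime] {j : Fin (n + 1)} {i : Fin (n + 1)} (h : j ≠ i) :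
    lin q ((j : ℕ) + 1) i = lin q j i ⊔ Ideal.span {y i j} := by
  rw [lin_eq, lin_eq, sup_assoc, ← Ideal.span_union, y_ne h]
  congr 2
  ext f
  simp only [Set.mem_image, Set.mem_setOf_eq, Set.mem_union, Set.mem_singleton_iff]
  constructor
  · rintro ⟨l, hl, rfl⟩
    rcases Nat.lt_succ_iff_lt_or_eq.1 hl with hl | hl
    · exact Or.inl ⟨l, hl, rfl⟩
    · exact Or.inr (congrArg X (Subtype.ext (Fin.ext hl)))
  · rintro (⟨l, hl, rfl⟩ | rfl)
    · exact ⟨l, Nat.lt_succ_of_lt hl, rfl⟩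
    · exact ⟨⟨j, h⟩, Nat.lt_succ_self _, rfl⟩

/-- A prime over `q` containing the first `j` coordinates contains the prime of the linear subspace. -/
theorem lin_le {q : Ideal R} [q.IsPrime] {j : ℕ} {i : Fin (n + 1)} {P : Ideal (Ch R i)}
    (hq : P.comap C = q) (h : ∀ l : Fin (n + 1), (l : ℕ) < j → y i l ∈ P) : lin q j i ≤ P := by
  rw [lin_eq]
  refine sup_le (Ideal.map_le_iff_le_comap.2 hq.ge) (Ideal.span_le.2 ?_)
  rintro _ ⟨l, hl, rfl⟩
  have := h l.1 hl
  rwa [y_ne l.2] at this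

end Groth.Agent.H9PB
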