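import Groth.Agent.AssPtX.Noeth
import Groth.Agent.InvX.GenLocus
import Groth.Agent.InvX.Tensor
import Groth.Agent.H23.InvStalk
import Groth.Agent.AmpleVan.Criterion
import Mathlib.GroupTheory.CosetCover

/-!
# A combination of generating sections regular on finitely many coherent modules
-/

set_option autoImplicit false
set_option linter.style.haveILetI false
set_option backward.isDefEq.respectTransparency false
set_option backward.isDefEq.respectTransparency.types false
set_option maxHeartbeats 1000000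

universe u

open CategoryTheory CategoryTheory.Limits AlgebraicGeometry TopologicalSpace Opposite

noncomputable section

namespace Groth.Agent.H9PB

open Groth.Agent Groth.Agent.AModX

/-- A finite module over a local ring with infinite residue field is not a finite union of proper submodules. -/
theorem exists_forall_notMem_submodule {A : Type*} [CommRing A] [IsLocalRing A] [Infinite (IsLocalRing.ResidueField A)]
    {M : Type*} [AddCommGroup M] [Module A M] {ι : Type*} (S : Finset ι) (p : ι → Submodule A M)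
    (hp : ∀ i ∈ S, p i ≠ ⊤) : ∃ m : M, ∀ i ∈ S, m ∉ p i := by
  classical
  by_contra! hc
  obtain ⟨i, hi, hfi⟩ := Submodule.exists_finiteIndex_of_cover (p := p) (s := S)
    (Set.eq_univ_of_forall fun m => by
      obtain ⟨i, hi, hm⟩ := hc m
      exact Set.mem_iUnion₂.2 ⟨i, hi, hm⟩)
  haveI : Finite (M ⧸ p i) := AddSubgroup.finite_quotient_of_finiteIndex
  haveI : Nontrivial (M ⧸ p i) := Submodule.Quotient.nontrivial_iff.mpr (hp i hi)
  obtain ⟨q, hq⟩ := exists_ne (0 : M ⧸ p i)
  have hle : LinearMap.ker (LinearMap.toSpanSingleton A _ q) ≤ IsLocalRing.maximalIdeal A :=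
    IsLocalRing.le_maximalIdeal fun h => hq (by
      have h1 : (1 : A) ∈ LinearMap.ker (LinearMap.toSpanSingleton A _ q) := h ▸ Submodule.mem_top
      simpa using h1)
  haveI : Finite (A ⧸ LinearMap.ker (LinearMap.toSpanSingleton A _ q)) :=
    Finite.of_equiv _ (LinearMap.quotKerEquivRange (LinearMap.toSpanSingleton A _ q)).symm.toEquiv
  haveI : Finite (IsLocalRing.ResidueField A) :=
    Finite.of_surjective (Ideal.Quotient.factor hle) (Ideal.Quotient.factor_surjective hle)
  exact not_finite (IsLocalRing.ResidueField A)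

variable {X : Scheme.{u}}

/-- The stalk map of a section of a module at a point of its generating locus is surjective. -/
theorem surjective_stalk_of_mem_genLocus {L : X.Modules} (τ : Coh.structureModule X ⟶ L) {x : X}
    (hx : x ∈ CohB1.genLocus L τ) : Function.Surjective ((DerSch.stalkFunctor X x).map τ) := by
  obtain ⟨U, hxU, hU⟩ := InvX.mem_genLocus hx
  intro m
  obtain ⟨V, hxV, t, rfl⟩ := L.presheaf.germ_exist m
  obtain ⟨r, hr⟩ := hU.exists_coord (inf_le_right : V ⊓ U ≤ U) (res L (inf_le_left : V ⊓ U ≤ V) t)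
  rw [res_res] at hr
  refine ⟨(Coh.structureModule X).presheaf.germ (V ⊓ U) x ⟨hxV, hxU⟩ r, ?_⟩
  refine (DerSch.stalkFunctor_map_germ x τ (V ⊓ U) ⟨hxV, hxU⟩ r).trans ?_
  refine (congrArg _ ((InvX.app_eq_smul τ r).trans hr.symm)).trans ?_
  exact L.presheaf.germ_res_apply (homOfLE inf_le_left) x ⟨hxV, hxU⟩ t

/-- Tensoring with a section generating at all associated points gives a monomorphism. -/
theorem mono_tensor_of_assPoints {L F : X.Modules} (hL : PicF.IsInvertible L) (hF : Coh.IsQCoh F)
    (τ : Coh.structureModule X ⟶ L) (h : ∀ x, Curv2.IsWeakAssPoint F x → x ∈ CohB1.genLocus L τ) :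
    Mono (((DCoh.tensorBi (X := X)).obj F).map τ) := by
  have hFu : Coh.IsQCoh ((DCoh.tensorBi.obj F).obj (Coh.structureModule X)) :=
    (QCoh.isQCoh_iff_iso (KFlatLib.tensorUnitIso F)).2 hF
  refine AssPtX.mono_of_stalk _ hFu fun x => ?_
  by_cases hxa : Curv2.IsWeakAssPoint ((DCoh.tensorBi.obj F).obj (Coh.structureModule X)) x
  swap
  · exact Or.inr hxa
  refine Or.inl ?_
  have hxF : Curv2.IsWeakAssPoint F x := by
    rw [AssPtX.isWeakAssPoint_iff] at hxa ⊢
    exact (AssPtX.mem_weakAss_equiv (RingEquiv.refl _)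
      ((DerSch.stalkFunctor X x).mapIso (KFlatLib.tensorUnitIso F)).toLinearEquiv.toAddEquiv
      (fun r m => map_smul ((DerSch.stalkFunctor X x).mapIso (KFlatLib.tensorUnitIso F)).toLinearEquiv r m) _).2 hxa
  haveI : IsIso ((DerSch.stalkFunctor X x).map τ) := by
    rw [ConcreteCategory.isIso_iff_bijective]
    obtain ⟨e⟩ := H23.InvStalk.exists_stalk_equiv hL x
    obtain ⟨e₀⟩ := H23.InvStalk.exists_stalk_equiv (H23.InvStalk.isInvertible_structureModule (X := X)) x
    exact H23.InvStalk.bijective_of_surjective e₀ e ((DerSch.stalkFunctor X x).map τ).hom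
      (surjective_stalk_of_mem_genLocus τ (h x hxF))
  haveI : IsIso ((DerSch.stalkFunctor X x).map (((DCoh.tensorBi (X := X)).obj F).map τ)) := by
    refine (NatIso.isIso_map_iff (KFlatLib.stalkTensorLeftIso F x) τ).2 ?_
    show IsIso ((MonoidalCategory.tensorLeft _).map ((DerSch.stalkFunctor X x).map τ))
    infer_instance
  exact (ConcreteCategory.bijective_of_isIso ((DerSch.stalkFunctor X x).map (((DCoh.tensorBi (X := X)).obj F).map τ))).1

theorem exists_regular_combination {A : Type u} [CommRing A] [IsLocalRing A] [Infinite (IsLocalRing.ResidueField A)]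
    [IsNoetherian X] (φ : A →+* Γ(X, ⊤)) (L : X.Modules) (hL : PicF.IsInvertible L)
    {N : ℕ} (σ : Fin (N + 1) → (Coh.structureModule X ⟶ L)) (hgen : ∀ x : X, ∃ i, x ∈ CohB1.genLocus L (σ i))
    {m : ℕ} (F : Fin m → X.Modules) (hF : ∀ j, Coh.IsCoh (F j)) :
    ∃ (τ : Coh.structureModule X ⟶ L) (a : Fin (N + 1) → A),
      InvX.one τ = ∑ i, φ (a i) • InvX.one (σ i) ∧ ∀ j, Mono (((DCoh.tensorBi (X := X)).obj (F j)).map τ) := by
  classical
  let P : Set X := ⋃ j, {x : X | Curv2.IsWeakAssPoint (F j) x}
  have hP : P.Finite := Set.finite_iUnion fun j =>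
    ((AssPtX.finite_assPoints (hF j) (U := (⊤ : X.Opens)) isCompact_univ).subset fun x hx =>
      ⟨trivial, AssPtX.isAssPoint_iff.2 hx⟩)
  choose U hxU e he using fun x => InvX.exists_frame hL x
  have hc := fun x i => (he x).exists_coord le_rfl (res L (le_top : U x ≤ ⊤) (InvX.one (σ i)))
  choose g hg using hc
  simp only [res_self] at hg
  let comb : (x : X) → (Fin (N + 1) → A) → X.residueField x := fun x a =>
    ∑ i, (X.presheaf.germ ⊤ x trivial ≫ X.residue x).hom (φ (a i)) *
      (X.presheaf.germ (U x) x (hxU x) ≫ X.residue x).hom (g x i)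
  let K : X → Submodule A (Fin (N + 1) → A) := fun x =>
    { carrier := {a | comb x a = 0}
      zero_mem' := by simp [comb]
      add_mem' := fun {a b} ha hb => by
        show comb x (a + b) = 0
        simp only [comb, Pi.add_apply, map_add, add_mul, Finset.sum_add_distrib] at ha hb ⊢
        rw [show _ + _ = (0 : X.residueField x) + 0 from congrArg₂ (· + ·) ha hb, add_zero]
      smul_mem' := fun c a ha => by
        show comb x (c • a) = 0
        simp only [comb, Pi.smul_apply, smul_eq_mul, map_mul, mul_assoc, ← Finset.mul_sum] at ha ⊢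
        rw [show ∑ i, _ = (0 : X.residueField x) from ha, mul_zero] }
  have hres : ∀ (x : X) (r : Γ(X, U x)),
      (X.presheaf.germ (U x) x (hxU x) ≫ X.residue x).hom r ≠ 0 ↔ x ∈ X.basicOpen r := fun x r => by
    rw [X.mem_basicOpen r x (hxU x), show (X.presheaf.germ (U x) x (hxU x) ≫ X.residue x).hom r =
      IsLocalRing.residue _ ((X.presheaf.germ (U x) x (hxU x)).hom r) from rfl, Ne, IsLocalRing.residue_eq_zero_iff,
      IsLocalRing.notMem_maximalIdeal]
  have hK : ∀ x ∈ hP.toFinset, K x ≠ ⊤ := fun x _ htop => by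
    obtain ⟨i, hi⟩ := hgen x
    have h1 : x ∈ X.basicOpen (g x i) := by
      rw [← InvX.genLocus_inf (σ i) (he x) (hg x i)]
      exact ⟨hi, hxU x⟩
    refine (hres x (g x i)).2 h1 ?_
    have h2 : comb x (Pi.single i 1) = 0 := (htop ▸ Submodule.mem_top : Pi.single i (1 : A) ∈ K x)
    simp only [comb] at h2
    rw [Finset.sum_eq_single i (fun j _ hj => by rw [Pi.single_eq_of_ne hj, map_zero, map_zero, zero_mul])
      (fun h => absurd (Finset.mem_univ i) h), Pi.single_eq_same, map_one, map_one, one_mul] at h2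
    exact h2
  obtain ⟨a, ha⟩ := exists_forall_notMem_submodule hP.toFinset K hK
  let τ : Coh.structureModule X ⟶ L := InvX.ofSect (∑ i, φ (a i) • InvX.one (σ i))
  have hτ : InvX.one τ = ∑ i, φ (a i) • InvX.one (σ i) := InvX.one_ofSect _
  refine ⟨τ, a, hτ, fun j => mono_tensor_of_assPoints hL (hF j).1 τ fun x hx => ?_⟩
  have hgx : res L (le_top : U x ≤ ⊤) (InvX.one τ) = (∑ i, resR (le_top : U x ≤ ⊤) (φ (a i)) * g x i) • e x := by
    rw [hτ, map_sum, Finset.sum_smul]
    exact Finset.sum_congr rfl fun i _ => by rw [res_smul, mul_smul, hg x i]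
  have hmem : x ∈ X.basicOpen (∑ i, resR (le_top : U x ≤ ⊤) (φ (a i)) * g x i) := by
    rw [← hres, map_sum]
    have hne : comb x a ≠ 0 := ha x (hP.mem_toFinset.2 (Set.mem_iUnion.2 ⟨j, hx⟩))
    intro h0
    refine hne ((Finset.sum_congr rfl fun i _ => ?_).trans h0)
    rw [map_mul]
    exact congrArg (· * _) (congrArg (X.residue x).hom
      (X.presheaf.germ_res_apply (homOfLE le_top) x (hxU x) (φ (a i))).symm)
  rw [← InvX.genLocus_inf τ (he x) hgx] at hmem
  exact hmem.1

end Groth.Agent.H9PB

end
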