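import Groth.Agent.H9PB.CapR
import Groth.Agent.RelQuot.Projective
import Groth.Agent.AmpleX.Rel
import Groth.Agent.AmpleX.RelAffine

/-! A projective bundle is projective over quasi-compact quasi-separated opens of the base. -/

set_option autoImplicit false
set_option linter.style.haveILetI false
set_option linter.unusedSectionVars false
set_option backward.isDefEq.respectTransparency false
set_option backward.isDefEq.respectTransparency.types false
set_option maxHeartbeats 800000

universe u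

open AlgebraicGeometry CategoryTheory CategoryTheory.Limits TopologicalSpace

namespace Groth.Agent.H9PB

open Groth.Agent
open Groth.Agent.H23.PicMul

variable {X P : Scheme.{u}} {p : P ⟶ X} {O1 : P.Modules} {n : ℕ}

/-- A standard section generates exactly on its chart. -/
theorem Frame.locus_σ (hL : PicF.IsInvertible O1) {U : X.Opens} (F : Frame p O1 n U) (i : Fin (n + 1)) :
    AmpleX.locus (F.σ i) = (F.emb i).opensRange := by
  have hbij : ∀ {x : P} {t : O1.presheaf.stalk x}, Submodule.span (P.presheaf.stalk x) {t} = ⊤ →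
      H23.RatSec.IsGen t := fun h => (H23.RatSec.isGen_of_span hL h).1
  refine le_antisymm (fun x hx => ?_) ?_
  · have hxU : p x ∈ U := AmpleX.locus_le (F.σ i) hx
    obtain ⟨l, z, rfl⟩ := F.cover x hxU
    show F.emb l z ∈ Set.range (F.emb i)
    rw [F.mem_range_iff]
    intro hy
    obtain ⟨a, ha, hσ⟩ := F.coord l i z hxU
    have hgl := hbij (F.gen l z hxU)
    have hgi := H23.RatSec.isGen_germ (AmpleX.isFrame_res_locus (F.σ i)) _ hx
    rw [show (O1.presheaf.germ _ _ hx).hom (AModX.res O1 (AmpleX.locus_le (F.σ i)) (F.σ i)) =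
        O1.presheaf.germ (p ⁻¹ᵁ U) _ hxU (F.σ i) from
      O1.presheaf.germ_res_apply (homOfLE (AmpleX.locus_le (F.σ i))) _ hx (F.σ i)] at hgi
    obtain ⟨c, hc⟩ := Submodule.mem_span_singleton.1 (hgi.1.ge (Submodule.mem_top :
      (show O1.presheaf.stalk (F.emb l z) from O1.presheaf.germ (p ⁻¹ᵁ U) (F.emb l z) hxU (F.σ l)) ∈ ⊤))
    have he : F.el l z (y l i) = a := F.stalkMap_injective l z (by rw [F.stalkMap_el]; exact ha.symm)
    rw [hσ, smul_smul] at hc
    have h1 : (c * a) • (show O1.presheaf.stalk (F.emb l z) from O1.presheaf.germ (p ⁻¹ᵁ U) (F.emb l z) hxU (F.σ l)) =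
        (1 : P.presheaf.stalk (F.emb l z)) • _ := hc.trans (one_smul _ _).symm
    have h2 := sub_eq_zero.1 (hgl.2 (c * a - 1) ((sub_smul _ _ _).trans (sub_eq_zero.2 h1)))
    exact F.isUnit_el.1 (he ▸ IsUnit.of_mul_eq_one_right c h2) hy
  · have hle : (F.emb i).opensRange ≤ p ⁻¹ᵁ U := fun x ⟨z, hz⟩ => hz ▸ F.p_emb_mem i z
    refine AmpleX.le_locus _ hle (InvX.isFrame_of_germ fun x hx => ?_)
    obtain ⟨z, rfl⟩ := hx
    rw [show O1.presheaf.germ (F.emb i).opensRange (F.emb i z) ⟨z, rfl⟩ (AModX.res O1 hle (F.σ i)) =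
        O1.presheaf.germ (p ⁻¹ᵁ U) _ (F.p_emb_mem i z) (F.σ i) from
      O1.presheaf.germ_res_apply (homOfLE hle) _ _ (F.σ i)]
    have hg := hbij (F.gen i z (F.p_emb_mem i z))
    refine ⟨fun c₁ c₂ h => sub_eq_zero.1 (hg.2 (c₁ - c₂) ((sub_smul _ _ _).trans (sub_eq_zero.2 h))), fun m => ?_⟩
    obtain ⟨c, hc⟩ := Submodule.mem_span_singleton.1 (hg.1.ge (Submodule.mem_top : m ∈ ⊤))
    exact ⟨c, hc⟩

namespace Charted

variable (hfr : Charted p O1 n) (hL : PicF.IsInvertible O1) [IsProper p]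

include hfr hL in
/-- The twisting sheaf is relatively ample. -/
theorem isRelAmple : RelAmple.IsRelAmple p O1 := by
  refine AmpleX.isRelAmple_of_ampleOn fun x => ?_
  let η := p x
  let U := hfr.opn η
  let F := hfr.frame η
  refine ⟨U, _, (p ⁻¹ᵁ U).ι, inferInstance, hfr.mem_opn η, by rw [Scheme.Opens.opensRange_ι], ?_⟩
  refine AmpleX.isAmple_preimage_of_local hL F.affine fun y hy => ?_
  obtain ⟨i, z, rfl⟩ := F.cover y hy
  obtain ⟨a, ha⟩ : ∃ a : Γ(CohB1.tensorPow O1 1, p ⁻¹ᵁ X.basicOpen (1 : Γ(X, U))),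
      AmpleX.locus a = (F.emb i).opensRange := by
    obtain ⟨e⟩ : Nonempty (O1 ≅ CohB1.tensorPow O1 1) :=
      H23.PicMul.cl_eq_iff.1 (by rw [H23.PicMul.cl_tensorPow, pow_one])
    refine ⟨e.hom.app _ (AModX.res O1 (p.preimage_mono (X.basicOpen_le _)) (F.σ i)), ?_⟩
    rw [AmpleX.locus_iso, AmpleX.locus_res, F.locus_σ hL, inf_eq_left]
    rintro w ⟨z', rfl⟩
    rw [X.basicOpen_of_isUnit isUnit_one]
    exact F.p_emb_mem i z'
  refine ⟨1, 1, Nat.one_pos, a, ?_, ?_⟩
  · rw [ha]; exact ⟨z, rfl⟩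
  · rw [ha]
    exact AlgebraicGeometry.isAffineOpen_opensRange (F.emb i)

include hfr hL in
/-- Over a quasi-compact quasi-separated base the bundle is projective. -/
theorem isProjective [CompactSpace X] [QuasiSeparatedSpace X] : RelProj.IsProjective p :=
  RelQuot.isProjective_of_isQuasiProjective ⟨inferInstance, inferInstance, O1, hfr.isRelAmple hL⟩

end Charted

end Groth.Agent.H9PB
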