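import Groth.Agent.H9PB.Cap
import Groth.Agent.CycLib.DivPushAll

/-! The basic relations between pull-back, caps with the fundamental module and push-forward. -/

set_option autoImplicit false
set_option linter.style.haveILetI false
set_option linter.unusedSectionVars false
set_option backward.isDefEq.respectTransparency false
set_option backward.isDefEq.respectTransparency.types false

universe u

open AlgebraicGeometry CategoryTheory TopologicalSpace Opposite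

namespace Groth.Agent.H9PB

open Groth.Agent H23.RatSec

section Rat

variable {X : Scheme.{u}} {δ : X → ℤ}

/-- The cycles rationally equivalent to zero in a degree. -/
def ratSub (hX : Cyc.IsSetup X δ) (k : ℤ) : AddSubgroup (AlgebraicCycle X ℤ) where
  carrier := {α | Cyc.RatEquivZero δ k α}
  zero_mem' := H23.RatOn.ratEquivZero (H23.RatOn.congr (H23.RatOn.zero Set.univ) fun _ => rfl)
  add_mem' {a b} ha hb := by
    haveI := hX.1
    exact H23.RatOn.ratEquivZero (H23.RatOn.congr (H23.RatOn.add hX.2.2 (H23.RatOn.of_ratEquivZero ha)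
      (H23.RatOn.of_ratEquivZero hb) 1 1) fun x => by simp)
  neg_mem' {a} ha := by
    haveI := hX.1
    exact H23.RatOn.ratEquivZero (H23.RatOn.congr (H23.RatOn.add hX.2.2 (H23.RatOn.of_ratEquivZero ha)
      (H23.RatOn.zero Set.univ) (-1) 1) fun x => by simp)

theorem mem_ratSub {hX : Cyc.IsSetup X δ} {k : ℤ} {α : AlgebraicCycle X ℤ} :
    α ∈ ratSub hX k ↔ Cyc.RatEquivZero δ k α := Iff.rfl

theorem ratEquiv_of_cl_eq (hX : Cyc.IsSetup X δ) {k : ℤ} {α β : AlgebraicCycle X ℤ} {hα : α ∈ Cyc.Zk X δ k}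
    {hβ : β ∈ Cyc.Zk X δ k} (h : ChowOps.cl α hα = ChowOps.cl β hβ) : Cyc.RatEquiv δ k α β := by
  have h0 : ChowOps.clHom X δ k (⟨α, hα⟩ - ⟨β, hβ⟩ : ↥(ChowOps.zk X δ k)) = 0 := by
    rw [map_sub, sub_eq_zero]; exact h
  have h1 : ((⟨α, hα⟩ - ⟨β, hβ⟩ : ↥(ChowOps.zk X δ k))) ∈ ChowOps.ratTriv X δ k :=
    (QuotientAddGroup.eq_zero_iff _).1 h0
  exact ((AddSubgroup.closure_le ((ratSub hX k).comap (ChowOps.zk X δ k).subtype)).2 fun a ha => ha) h1

variable {L : X.Modules}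

theorem cap_ratEquiv (hX : Cyc.IsSetup X δ) (hL : PicF.IsInvertible L) {k : ℤ} {α α' : AlgebraicCycle X ℤ}
    (hα : α ∈ Cyc.Zk X δ k) (hα' : α' ∈ Cyc.Zk X δ k) (h : Cyc.RatEquiv δ k α α')
    {v v' : (ξ : X) → Cyc.secFibre L ξ} (hv : ∀ ξ, v ξ ≠ 0) (hv' : ∀ ξ, v' ξ ≠ 0) :
    haveI := hX.1
    Cyc.RatEquiv δ (k - 1) (H23.RatSec.c1CapCycle hL hX.2.2 α v hv) (H23.RatSec.c1CapCycle hL hX.2.2 α' v' hv') := by
  haveI := hX.1
  refine ratEquiv_of_cl_eq hX (hα := H23.C1Class.capCycle_mem hL hX.2.2 hα v hv)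
    (hβ := H23.C1Class.capCycle_mem hL hX.2.2 hα' v' hv') ?_
  rw [← H23.C1Class.capCH_cl hX hL hα hv (H23.RatSec.coe_c1CapCycle hL hX.2.2 α v hv),
    ← H23.C1Class.capCH_cl hX hL hα' hv' (H23.RatSec.coe_c1CapCycle hL hX.2.2 α' v' hv'),
    H23.ChowDesc.cl_eq_of_ratEquiv hα hα' h]

variable [IsLocallyNoetherian X] (hL : PicF.IsInvertible L) (hd : Cyc.IsDimFun X δ)
  (t : ℕ → (ξ : X) → Cyc.secFibre L ξ) (ht : ∀ m ξ, t m ξ ≠ 0)

/-- The cap as a homomorphism. -/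
noncomputable def capAdd (m : ℕ) : AlgebraicCycle X ℤ →+ AlgebraicCycle X ℤ :=
  AddMonoidHom.mk' (fun a => H23.RatSec.c1CapCycle hL hd a (t m) (ht m)) fun a b => DFunLike.coe_injective (by
    rw [Function.locallyFinsuppWithin.coe_add, H23.RatSec.coe_c1CapCycle, H23.RatSec.coe_c1CapCycle,
      H23.RatSec.coe_c1CapCycle, Function.locallyFinsuppWithin.coe_add]
    exact Bivar.c1CapFun_add δ L a b (t m))

/-- Iterated caps as a homomorphism. -/
noncomputable def powHom : ℕ → (AlgebraicCycle X ℤ →+ AlgebraicCycle X ℤ)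
  | 0 => AddMonoidHom.id _
  | m + 1 => (capAdd hL hd t ht m).comp (powHom m)

theorem coe_powHom (m : ℕ) (α : AlgebraicCycle X ℤ) : ⇑(powHom hL hd t ht m α) = Cyc.c1PowFun δ L t m ⇑α := by
  induction m with
  | zero => rfl
  | succ m ih =>
    show ⇑(H23.RatSec.c1CapCycle hL hd (powHom hL hd t ht m α) (t m) (ht m)) = _
    rw [H23.RatSec.coe_c1CapCycle, ih]
    rfl

theorem powHom_mem {k : ℤ} {α : AlgebraicCycle X ℤ} (hα : α ∈ Cyc.Zk X δ k) (m : ℕ) :
    powHom hL hd t ht m α ∈ Cyc.Zk X δ (k - m) := by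
  induction m with
  | zero => simpa [powHom] using hα
  | succ m ih =>
    rw [Nat.cast_succ, ← sub_sub]
    exact H23.C1Class.capCycle_mem hL hd ih (t m) (ht m)

end Rat

theorem powHom_ratEquiv {X : Scheme.{u}} {δ : X → ℤ} {L : X.Modules} (hX : Cyc.IsSetup X δ)
    (hL : PicF.IsInvertible L) {k : ℤ} {α α' : AlgebraicCycle X ℤ} (hα : α ∈ Cyc.Zk X δ k) (hα' : α' ∈ Cyc.Zk X δ k)
    (h : Cyc.RatEquiv δ k α α') {t t' : ℕ → (ξ : X) → Cyc.secFibre L ξ} (ht : ∀ m ξ, t m ξ ≠ 0)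
    (ht' : ∀ m ξ, t' m ξ ≠ 0) (m : ℕ) :
    haveI := hX.1
    Cyc.RatEquiv δ (k - m) (powHom hL hX.2.2 t ht m α) (powHom hL hX.2.2 t' ht' m α') := by
  haveI := hX.1
  induction m with
  | zero => simpa [powHom] using h
  | succ m ih =>
    rw [Nat.cast_succ, ← sub_sub]
    exact cap_ratEquiv hX hL (powHom_mem hL hX.2.2 t ht hα m) (powHom_mem hL hX.2.2 t' ht' hα' m) ih (ht m) (ht' m)

theorem c1PowFun_add {X : Scheme.{u}} (δ : X → ℤ) (L : X.Modules) (t : ℕ → (ξ : X) → Cyc.secFibre L ξ) (a b : ℕ)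
    (α : X → ℤ) :
    Cyc.c1PowFun δ L t (b + a) α = Cyc.c1PowFun δ L (fun m => t (b + m)) a (Cyc.c1PowFun δ L t b α) := by
  induction a with
  | zero => rfl
  | succ a ih =>
    show Cyc.c1CapFun δ L (Cyc.c1PowFun δ L t (b + a) α) (t (b + a)) = _
    rw [ih]
    rfl

theorem c1PowFun_congr {X : Scheme.{u}} (δ : X → ℤ) (L : X.Modules) {t t' : ℕ → (ξ : X) → Cyc.secFibre L ξ}
    (m : ℕ) (h : ∀ i < m, t i = t' i) (α : X → ℤ) : Cyc.c1PowFun δ L t m α = Cyc.c1PowFun δ L t' m α := by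
  induction m with
  | zero => rfl
  | succ m ih =>
    show Cyc.c1CapFun δ L (Cyc.c1PowFun δ L t m α) (t m) = Cyc.c1CapFun δ L (Cyc.c1PowFun δ L t' m α) (t' m)
    rw [ih fun i hi => h i (by omega), h m (by omega)]

theorem exists_eq_c1Pow {X : Scheme.{u}} {δ : X → ℤ} {L : X.Modules} (t : ℕ → (ξ : X) → Cyc.secFibre L ξ)
    (γ : ℕ → X → ℤ) (h : ∀ m, γ (m + 1) = Cyc.c1CapFun δ L (γ m) (t m)) (m : ℕ) :
    γ m = Cyc.c1PowFun δ L t m (γ 0) := by
  induction m with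
  | zero => rfl
  | succ m ih => rw [h, ih]; rfl

namespace Charted

variable {X P : Scheme.{u}} {p : P ⟶ X} {O1 : P.Modules} {n : ℕ} (hfr : Charted p O1 n) [IsProper p]
  (hL : PicF.IsInvertible O1) {δ : X → ℤ} {δP : P → ℤ} (hX : Cyc.IsSetup X δ) (hP : Cyc.IsSetup P δP)
  (hδ : Cyc.DeltaCompat p δP δ)

/-- Flat pull-back as a homomorphism of cycles. -/
noncomputable def pullAdd : AlgebraicCycle X ℤ →+ AlgebraicCycle P ℤ :=
  haveI := hX.1
  haveI := hP.1
  haveI := hfr.flat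
  AddMonoidHom.mk' (fun a => H23.FlatClass.pullCycle (hfr.hasShift hP.2.2 hδ) hP.2.2 a) fun a b =>
    DFunLike.coe_injective (by
      rw [Function.locallyFinsuppWithin.coe_add]
      exact Bivar.pullFun_add p δP δ n ⇑a ⇑b)

theorem coe_pullAdd (α : AlgebraicCycle X ℤ) : ⇑(hfr.pullAdd hX hP hδ α) = Cyc.pullFun p δP δ n ⇑α := rfl

theorem pullAdd_mem {k : ℤ} {α : AlgebraicCycle X ℤ} (hα : α ∈ Cyc.Zk X δ k) :
    hfr.pullAdd hX hP hδ α ∈ Cyc.Zk P δP (k + n) := by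
  haveI := hX.1
  haveI := hP.1
  haveI := hfr.flat
  exact H23.FlatClass.pullCycle_mem (hfr.hasShift hP.2.2 hδ) hP.2.2 hα rfl

omit hfr in
theorem mapCoeff_ne_zero {x : P} (h : (AlgebraicCycle.mapCoeff p δP δ x : ℤ) ≠ 0) : δP x = δ (p x) := by
  by_contra hn
  exact h (by simp [AlgebraicCycle.mapCoeff, hn])

include hX hP in
theorem map_pow_eq_zero {k : ℤ} {α : AlgebraicCycle X ℤ} (hα : α ∈ Cyc.Zk X δ k)
    (t : ℕ → (ξ : P) → Cyc.secFibre O1 ξ) (m : ℕ) (hm : m < n) (β : AlgebraicCycle P ℤ)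
    (hβ : ⇑β = Cyc.c1PowFun δP O1 t m (Cyc.pullFun p δP δ n ⇑α)) (hβ' : β ∈ Cyc.Zk P δP (k + n - m)) :
    AlgebraicCycle.map p δP δ β = 0 := by
  haveI := hP.1
  ext y
  rw [CycLib.map_apply', Function.locallyFinsuppWithin.coe_zero, Pi.zero_apply]
  refine finsum_mem_eq_zero_of_forall_eq_zero fun x hx => ?_
  by_contra h
  obtain ⟨η, hη, hs⟩ := specializes_of_c1Pow_ne_zero t ⇑α m (δ := δ) (n := n) (x := x)
    (by rw [← hβ]; exact left_ne_zero_of_mul h)
  have h1 := CycLib.delta_le hX.2.2 hs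
  have h2 : δ η = k := not_not.1 fun hh => hη (hα η hh)
  have h3 := mapCoeff_ne_zero (right_ne_zero_of_mul h)
  have h4 : δP x = k + n - m := not_not.1 fun hh => left_ne_zero_of_mul h (hβ' x hh)
  omega

include hX hP hδ in
theorem map_pow_sec {k : ℤ} {α : AlgebraicCycle X ℤ} (hα : α ∈ Cyc.Zk X δ k) (β : AlgebraicCycle P ℤ)
    (hβ : ⇑β = Cyc.c1PowFun δP O1 (hfr.sec hL) n (Cyc.pullFun p δP δ n ⇑α)) (hβ' : β ∈ Cyc.Zk P δP k) :
    AlgebraicCycle.map p δP δ β = α := by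
  classical
  haveI := hP.1
  ext y
  rw [CycLib.map_apply']
  by_cases hy : δ y = k
  swap
  · rw [hα y hy]
    refine finsum_mem_eq_zero_of_forall_eq_zero fun x hx => ?_
    by_contra h
    have h3 := mapCoeff_ne_zero (right_ne_zero_of_mul h)
    have h4 : δP x = k := not_not.1 fun hh => left_ne_zero_of_mul h (hβ' x hh)
    rw [show p x = y from hx] at h3
    omega
  have hval : ∀ x, p x = y → β x = if x = hfr.gpt y (Fin.last n) then α y else 0 := fun x hx => by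
    have h := hfr.c1Pow_sec_eq hL hP.2.2 hX.2.2 hδ (α := ⇑α) (fun η hη => hα η hη) (Fin.last n) x (by rw [hx]; exact hy)
    rw [Fin.val_last] at h
    rw [hβ, h, hx]
  rw [finsum_mem_def, finsum_eq_single _ (hfr.gpt y (Fin.last n))]
  · rw [Set.indicator_of_mem (show hfr.gpt y (Fin.last n) ∈ p ⁻¹' {y} from hfr.p_gpt y _),
      hval _ (hfr.p_gpt y _), if_pos rfl, AlgebraicCycle.mapCoeff, if_pos]
    · rw [show p.residueDegree (hfr.gpt y (Fin.last n)) = 1 from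
        (hfr.frame y).residueDegree_gp_last ⟨y, hfr.mem_opn y⟩]
      simp
    · show δP (hfr.gpt y (Fin.last n)) = δ (p (hfr.gpt y (Fin.last n)))
      rw [hfr.delta_gpt hP.2.2 hδ, hfr.p_gpt]
      simp
  · intro x hne
    by_cases hx : p x = y
    · rw [Set.indicator_of_mem (show x ∈ p ⁻¹' {y} from hx), hval x hx, if_neg hne, zero_mul]
    · exact Set.indicator_of_notMem (show x ∉ p ⁻¹' {y} from hx) _

include hfr hL hX hP hδ in
theorem map_pow_ratEquiv {k : ℤ} {α : AlgebraicCycle X ℤ} (hα : α ∈ Cyc.Zk X δ k)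
    (t : ℕ → (ξ : P) → Cyc.secFibre O1 ξ) (ht : ∀ m ξ, t m ξ ≠ 0) (β : AlgebraicCycle P ℤ)
    (hβ : ⇑β = Cyc.c1PowFun δP O1 t n (Cyc.pullFun p δP δ n ⇑α)) (hβ' : β ∈ Cyc.Zk P δP k) :
    Cyc.RatEquiv δ k (AlgebraicCycle.map p δP δ β) α := by
  haveI := hP.1
  let β₀ := powHom hL hP.2.2 (hfr.sec hL) (hfr.sec_ne_zero hL) n (hfr.pullAdd hX hP hδ α)
  have hmem := hfr.pullAdd_mem hX hP hδ hα
  have h1 : Cyc.RatEquiv δP (k + n - n) β β₀ := by
    rw [show β = powHom hL hP.2.2 t ht n (hfr.pullAdd hX hP hδ α) from DFunLike.coe_injective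
      (by rw [coe_powHom, coe_pullAdd]; exact hβ)]
    exact powHom_ratEquiv hP hL hmem hmem (by rw [Cyc.RatEquiv, sub_self]; exact (ratSub hP _).zero_mem) ht _ n
  rw [add_sub_cancel_right] at h1
  have h2 := CycLib.ratEquiv_map p hP hX hδ h1
  rwa [hfr.map_pow_sec hL hX hP hδ hα β₀ (by rw [coe_powHom, coe_pullAdd])
    (by simpa using powHom_mem hL hP.2.2 (hfr.sec hL) (hfr.sec_ne_zero hL) hmem n)] at h2

include hfr in
/-- Independence of the classes `c₁^i ∩ p^* αᵢ`. -/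
theorem independent (k : ℤ) (α : Fin (n + 1) → AlgebraicCycle X ℤ)
    (hα : ∀ i : Fin (n + 1), α i ∈ Cyc.Zk X δ (k + ((i : ℕ) : ℤ))) (hX : Cyc.IsSetup X δ) (hP : Cyc.IsSetup P δP)
    (hδ : Cyc.DeltaCompat p δP δ) (hL : PicF.IsInvertible O1)
    (t : Fin (n + 1) → ℕ → (ξ : P) → Cyc.secFibre O1 ξ) (ht : ∀ i m ξ, t i m ξ ≠ 0) (β : AlgebraicCycle P ℤ)
    (hβ : ∀ x, β x = ∑ i : Fin (n + 1), Cyc.c1PowFun δP O1 (t i) i (Cyc.pullFun p δP δ n ⇑(α i)) x)
    (h0 : Cyc.RatEquivZero δP (k + n) β) (i : Fin (n + 1)) :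
    Cyc.RatEquivZero δ (k + ((i : ℕ) : ℤ)) (α i) := by
  classical
  haveI := hP.1
  let pull := hfr.pullAdd hX hP hδ
  let G : ∀ l : Fin (n + 1), AlgebraicCycle X ℤ →+ AlgebraicCycle P ℤ := fun l =>
    (powHom hL hP.2.2 (t l) (ht l) l).comp pull
  have hG : ∀ (l : Fin (n + 1)) (a : AlgebraicCycle X ℤ) (D : ℤ), a ∈ Cyc.Zk X δ D →
      G l a ∈ Cyc.Zk P δP (D + n - ((l : ℕ) : ℤ)) := fun l a D ha =>
    powHom_mem hL hP.2.2 (t l) (ht l) (hfr.pullAdd_mem hX hP hδ ha) l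
  have hβG : β = ∑ l, G l (α l) := by
    ext x
    rw [hβ, Function.locallyFinsuppWithin.coe_sum, Finset.sum_apply]
    refine Finset.sum_congr rfl fun l _ => ?_
    exact (congrFun (coe_powHom hL hP.2.2 (t l) (ht l) l (pull (α l))) x).symm
  have hβmem : β ∈ Cyc.Zk P δP (k + n) := by
    rw [hβG]
    refine (ChowOps.zk P δP (k + n)).sum_mem fun l _ => ?_
    have := hG l _ _ (hα l)
    rwa [show k + ((l : ℕ) : ℤ) + n - ((l : ℕ) : ℤ) = k + n by ring] at this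
  induction hd : n - (i : ℕ) using Nat.strong_induction_on generalizing i with
  | _ d ih =>
    subst hd
    let s := n - (i : ℕ)
    have hi : (i : ℕ) ≤ n := Nat.lt_succ_iff.1 i.2
    let H : AlgebraicCycle P ℤ →+ AlgebraicCycle P ℤ := powHom hL hP.2.2 (hfr.sec hL) (hfr.sec_ne_zero hL) s
    let M : AlgebraicCycle P ℤ →+ AlgebraicCycle X ℤ :=
      AddMonoidHom.mk' (AlgebraicCycle.map p δP δ) (Bivar.cycMap_add p δP δ)
    have hdeg : k + n - (s : ℤ) = k + ((i : ℕ) : ℤ) := by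
      simp only [s]; rw [Nat.cast_sub hi]; ring
    have hz : ∀ γ : AlgebraicCycle P ℤ, γ ∈ Cyc.Zk P δP (k + n) → Cyc.RatEquivZero δP (k + n) γ →
        Cyc.RatEquivZero δ (k + ((i : ℕ) : ℤ)) (M (H γ)) := fun γ hγ hγ0 => by
      have h1 := powHom_ratEquiv hP hL hγ ((ChowOps.zk P δP (k + n)).zero_mem)
        (by rw [Cyc.RatEquiv, sub_zero]; exact hγ0) (hfr.sec_ne_zero hL) (hfr.sec_ne_zero hL) s
      rw [hdeg, map_zero, Cyc.RatEquiv, sub_zero] at h1
      exact CycLib.ratEquivZero_map p hP hX hδ h1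
    have hterm : ∀ l : Fin (n + 1), l ≠ i → M (H (G l (α l))) ∈ ratSub hX (k + ((i : ℕ) : ℤ)) := by
      intro l hl
      have hmem := hG l _ _ (hα l)
      rw [show k + ((l : ℕ) : ℤ) + n - ((l : ℕ) : ℤ) = k + n by ring] at hmem
      rcases lt_or_gt_of_ne hl with h | h
      · let t' : ℕ → (ξ : P) → Cyc.secFibre O1 ξ := fun m =>
          if m < (l : ℕ) then t l m else hfr.sec hL (m - (l : ℕ))
        have he : ⇑(H (G l (α l))) = Cyc.c1PowFun δP O1 t' ((l : ℕ) + s) (Cyc.pullFun p δP δ n ⇑(α l)) := by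
          rw [c1PowFun_add, c1PowFun_congr δP O1 (t' := t l) (l : ℕ) fun m hm => if_pos hm]
          rw [coe_powHom]
          show Cyc.c1PowFun δP O1 (hfr.sec hL) s ⇑(powHom hL hP.2.2 (t l) (ht l) l (pull (α l))) = _
          rw [coe_powHom]
          congr 1
          funext m
          simp [t']
        have hz0 : M (H (G l (α l))) = 0 := by
          refine map_pow_eq_zero hX hP (hα l) t' ((l : ℕ) + s) (by
            have : (l : ℕ) < i := h
            omega) _ he ?_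
          have := powHom_mem hL hP.2.2 (hfr.sec hL) (hfr.sec_ne_zero hL) hmem s
          rwa [show k + ((l : ℕ) : ℤ) + n - (((l : ℕ) + s : ℕ) : ℤ) = k + n - (s : ℤ) by push_cast; ring]
        rw [hz0]
        exact zero_mem _
      · have hl0 : Cyc.RatEquivZero δ (k + ((l : ℕ) : ℤ)) (α l) := ih (n - (l : ℕ)) (by
          have : (i : ℕ) < l := h
          have := Nat.lt_succ_iff.1 l.2
          omega) l rfl
        refine hz _ hmem ?_
        haveI := hX.1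
        haveI := hfr.flat
        have h1 : Cyc.RatEquivZero δP (k + ((l : ℕ) : ℤ) + n) (pull (α l)) :=
          H23.DivPull.ratEquivZero_pull p (hfr.hasShift hP.2.2 hδ) hX.2.2 hP.2.2 hl0 _ rfl
        have h2 := powHom_ratEquiv hP hL (hfr.pullAdd_mem hX hP hδ (hα l)) ((ChowOps.zk P δP _).zero_mem)
          (by rw [Cyc.RatEquiv, sub_zero]; exact h1) (ht l) (ht l) l
        rw [map_zero, Cyc.RatEquiv, sub_zero, show k + ((l : ℕ) : ℤ) + n - ((l : ℕ) : ℤ) = k + n by ring] at h2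
        exact h2
    have hall : M (H β) ∈ ratSub hX (k + ((i : ℕ) : ℤ)) := hz β hβmem h0
    rw [hβG, map_sum, map_sum, ← Finset.add_sum_erase _ _ (Finset.mem_univ i)] at hall
    have hrest : ∑ l ∈ Finset.univ.erase i, M (H (G l (α l))) ∈ ratSub hX (k + ((i : ℕ) : ℤ)) :=
      sum_mem fun l hl => hterm l (Finset.ne_of_mem_erase hl)
    have hi0 : M (H (G i (α i))) ∈ ratSub hX (k + ((i : ℕ) : ℤ)) := (add_mem_cancel_right hrest).1 hall
    let t' : ℕ → (ξ : P) → Cyc.secFibre O1 ξ := fun m => if m < (i : ℕ) then t i m else hfr.sec hL (m - (i : ℕ))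
    have ht' : ∀ m ξ, t' m ξ ≠ 0 := fun m ξ => by
      simp only [t']; split_ifs
      · exact ht i m ξ
      · exact hfr.sec_ne_zero hL _ ξ
    have he : ⇑(H (G i (α i))) = Cyc.c1PowFun δP O1 t' n (Cyc.pullFun p δP δ n ⇑(α i)) := by
      conv_rhs => rw [show n = (i : ℕ) + s by omega]
      rw [c1PowFun_add, c1PowFun_congr δP O1 (t' := t i) (i : ℕ) fun m hm => if_pos hm]
      rw [coe_powHom]
      show Cyc.c1PowFun δP O1 (hfr.sec hL) s ⇑(powHom hL hP.2.2 (t i) (ht i) i (pull (α i))) = _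
      rw [coe_powHom, coe_pullAdd, show ((i : ℕ) + s : ℕ) = n by omega]
      congr 1
      funext m
      simp [t']
    have hmem' : H (G i (α i)) ∈ Cyc.Zk P δP (k + ((i : ℕ) : ℤ)) := by
      have hmem := hG i _ _ (hα i)
      rw [show k + ((i : ℕ) : ℤ) + n - ((i : ℕ) : ℤ) = k + n by ring] at hmem
      exact hdeg ▸ powHom_mem hL hP.2.2 (hfr.sec hL) (hfr.sec_ne_zero hL) hmem s
    have h3 := hfr.map_pow_ratEquiv hL hX hP hδ (hα i) t' ht' _ he hmem'
    have h4 := sub_mem hi0 (show M (H (G i (α i))) - α i ∈ ratSub hX (k + ((i : ℕ) : ℤ)) from h3)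
    rwa [sub_sub_cancel] at h4

end Charted

end Groth.Agent.H9PB
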