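import Groth.Agent.H23.C1Class
import Groth.Agent.H23.C1Glue
import Groth.Agent.H9PB.Chow
import Groth.Agent.AlgSpPts.Dim

/-! Capping with a first Chern class lowers the dimension of the support on the base. -/

set_option autoImplicit false
set_option linter.style.haveILetI false
set_option linter.unusedSectionVars false
set_option backward.isDefEq.respectTransparency false
set_option backward.isDefEq.respectTransparency.types false
set_option maxHeartbeats 800000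

universe u

open CategoryTheory AlgebraicGeometry TopologicalSpace

noncomputable section

namespace Groth.Agent.H9PB

open Groth.Agent

/-- The divisor of a generator vanishes. -/
theorem secDivFun_gen {Y : Scheme.{u}} [IsLocallyNoetherian Y] {δ : Y → ℤ} (hd : Cyc.IsDimFun Y δ) {M : Y.Modules}
    (hM : PicF.IsInvertible M) {x ξ : Y} (h : ξ ⤳ x) {t : M.presheaf.stalk x} (ht : H23.RatSec.IsGen t) :
    Cyc.secDivFun δ M ξ (H23.RatSec.cls M ξ (M.presheaf.stalkSpecializes h t)) x = 0 := by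
  rw [H23.RatSec.secDivFun_eq hM hd h ht.1 (φ := 1) (one_smul _ _).symm (by simp), map_one,
    ← zpow_zero (1 : Y.residueField ξ), H23.RatSec.divFun_zpow hd one_ne_zero, zero_mul]

variable {X : Scheme.{u}} [IsLocallyNoetherian X] [CompactSpace X]

/-- A closed set has a smaller closed subset off which an invertible module is trivialised by disjoint frames. -/
theorem exists_disjoint_frames {L : X.Modules} (hL : PicF.IsInvertible L) {Z : Set X} (hZ : IsClosed Z) :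
    ∃ (F : Set X) (W : F → X.Opens) (e : (η : F) → Γ(L, W η)), F ⊆ Z ∧ (∀ η, InvX.IsFrame (e η)) ∧
      (∀ η : F, (η : X) ∈ W η) ∧ (∀ z ∈ Z, ∃ η ∈ F, η ⤳ z) ∧
      ∀ (z : X) (η η' : F), z ∈ Z → z ∈ W η → z ∈ W η' → η = η' := by
  classical
  haveI : IsNoetherian X := ⟨⟩
  obtain ⟨S, hSf, hSc, hSi, hS⟩ := NoetherianSpace.exists_finite_set_isClosed_irreducible hZ
  let g : S → X := fun T => Classical.choose (QuasiSober.sober (hSi T T.2) (hSc T T.2))
  have hg : ∀ T : S, IsGenericPoint (g T) (T : Set X) := fun T =>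
    Classical.choose_spec (QuasiSober.sober (hSi T T.2) (hSc T T.2))
  haveI := hSf.to_subtype
  let F₀ : Set X := Set.range g
  let F : Set X := {η ∈ F₀ | ∀ w ∈ F₀, w ⤳ η → w = η}
  have hF : F.Finite := (Set.finite_range g).subset fun _ h => h.1
  have hF₀Z : F₀ ⊆ Z := by
    rintro _ ⟨T, rfl⟩
    rw [hS]
    exact ⟨T, T.2, (hg T).mem⟩
  have hcov : ∀ z ∈ Z, ∃ η ∈ F, η ⤳ z := by
    intro z hz
    rw [hS] at hz
    obtain ⟨T, hT, hzT⟩ := hz
    have h0 : g ⟨T, hT⟩ ∈ F₀ := ⟨_, rfl⟩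
    obtain ⟨η, hle, hmax⟩ := ((Set.finite_range g).subset
      (fun w (hw : w ∈ {w ∈ F₀ | w ⤳ g ⟨T, hT⟩}) => hw.1)).exists_le_maximal
      (show g ⟨T, hT⟩ ∈ {w ∈ F₀ | w ⤳ g ⟨T, hT⟩} from ⟨h0, specializes_rfl⟩)
    refine ⟨η, ⟨hmax.1.1, fun w hw hwη => (hwη.antisymm (hmax.2 ⟨hw, hwη.trans hmax.1.2⟩ hwη)).eq⟩,
      hmax.1.2.trans ((hg ⟨T, hT⟩).specializes hzT)⟩
  choose U hU e he using fun η : F => InvX.exists_frame hL (η : X)
  let C : F → Set X := fun η => ⋃ w ∈ F \ {(η : X)}, closure {w}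
  have hC : ∀ η, IsClosed (C η) := fun η => hF.diff.isClosed_biUnion fun _ _ => isClosed_closure
  let W : F → X.Opens := fun η => U η ⊓ ⟨(C η)ᶜ, (hC η).isOpen_compl⟩
  refine ⟨F, W, fun η => AModX.res L inf_le_left (e η), fun η h => hF₀Z h.1, fun η => (he η).res inf_le_left,
    fun η => ⟨hU η, fun hmem => ?_⟩, hcov, fun z η η' hz h1 h2 => ?_⟩
  · obtain ⟨w, hw, hwη⟩ := Set.mem_iUnion₂.1 hmem
    exact hw.2 (η.2.2 w hw.1.1 (specializes_iff_mem_closure.2 hwη))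
  · by_contra hne
    obtain ⟨w, hw, hwz⟩ := hcov z hz
    by_cases hwη : w = η
    · exact h2.2 (Set.mem_iUnion₂.2 ⟨w, ⟨hw, fun h => hne (Subtype.ext (hwη.symm.trans h))⟩, hwz.mem_closure⟩)
    · exact h1.2 (Set.mem_iUnion₂.2 ⟨w, ⟨hw, hwη⟩, hwz.mem_closure⟩)

/-- Capping with a first Chern class moves the support into a smaller closed subset of the base. -/
theorem exists_smaller_support {δX : X → ℤ} (hX : Cyc.IsSetup X δX) {L : X.Modules} {c : Bivar.OpCl 1 X δX}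
    (hc : Bivar.IsC1Class L c) {Z : Set X} (hZ : IsClosed Z) :
    ∃ Z' : Set X, IsClosed Z' ∧ Z' ⊆ Z ∧ (∀ z ∈ Z', ∃ η ∈ Z, z < η) ∧
      ∀ (s : Bivar.OSq X δX) (k : ℤ) (α : AlgebraicCycle s.Y ℤ) (hα : α ∈ Cyc.Zk s.Y s.δ k),
        (∀ ξ, α ξ ≠ 0 → s.g ξ ∈ Z) →
        ∃ (γ : AlgebraicCycle s.Y ℤ) (hγ : γ ∈ Cyc.Zk s.Y s.δ (k - 1)),
          c.op s k (ChowOps.cl α hα) = ChowOps.cl γ hγ ∧ ∀ x, γ x ≠ 0 → s.g x ∈ Z' := by
  classical
  obtain ⟨F, W, e, hFZ, he, hmem, hcov, hdisj⟩ := exists_disjoint_frames hc.1 hZ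
  refine ⟨Z ∩ (⋃ η, (W η : Set X))ᶜ, hZ.inter (isOpen_iUnion fun η => (W η).2).isClosed_compl,
    Set.inter_subset_left, fun z hz => ?_, fun s k α hα hsupp => ?_⟩
  · obtain ⟨η, hη, hsp⟩ := hcov z hz.1
    have hle : z ≤ η := hsp
    refine ⟨η, hFZ hη, lt_of_le_not_ge hle fun hge => ?_⟩
    have heq : η = z := (hsp.antisymm (Scheme.le_iff_specializes.1 hge)).eq
    subst heq
    exact hz.2 (Set.mem_iUnion.2 ⟨⟨η, hη⟩, hmem _⟩)
  haveI hY := H23.ChowDesc.isSetup_osq hX s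
  haveI := hY.1
  have hM := PicClLib.isInvertible_pullback s.g hc.1
  obtain ⟨v₀, hv₀⟩ := H23.RatSec.exists_sections hM
  let M := (Scheme.Modules.pullback s.g).obj L
  let v : (ξ : s.Y) → Cyc.secFibre M ξ := fun ξ =>
    if h : ∃ η, s.g ξ ∈ W η then
      H23.RatSec.cls M ξ (H23.C1Pull.pm s.g L ξ (L.presheaf.germ (W h.choose) (s.g ξ) h.choose_spec (e h.choose)))
    else v₀ ξ
  have hv : ∀ ξ, v ξ ≠ 0 := fun ξ => by
    by_cases h : ∃ η, s.g ξ ∈ W η
    · simp only [v, dif_pos h]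
      have hg := H23.C1Pull.isGen_pm (p := s.g) (H23.RatSec.isGen_germ (he h.choose) _ h.choose_spec)
      have h2 := (H23.RatSec.residue_ne_zero hg (φ := 1)).1 (by simp)
      rwa [one_smul] at h2
    · simp only [v, dif_neg h]
      exact hv₀ ξ
  let γ := H23.RatSec.c1CapCycle hM hY.2.2 α v hv
  have hγ : γ ∈ Cyc.Zk s.Y s.δ (k - 1) := H23.C1Class.capCycle_mem hM hY.2.2 hα v hv
  refine ⟨γ, hγ, hc.2 s k α hα v hv γ rfl hγ, fun x hx => ?_⟩
  obtain ⟨ξ, hξ⟩ : ∃ ξ, α ξ * Cyc.secDivFun s.δ M ξ (v ξ) x ≠ 0 := by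
    by_contra hn
    push Not at hn
    exact hx (finsum_eq_zero_of_forall_eq_zero hn)
  have h : ξ ⤳ x := by
    by_contra hn
    exact hξ (by simp [Cyc.secDivFun, hn])
  have hsp : s.g ξ ⤳ s.g x := h.map s.g.continuous
  have hZξ := hsupp ξ (left_ne_zero_of_mul hξ)
  have hZx : s.g x ∈ Z := hsp.mem_closed hZ hZξ
  refine ⟨hZx, fun hW => right_ne_zero_of_mul hξ ?_⟩
  obtain ⟨η, hη⟩ := Set.mem_iUnion.1 hW
  have hη' : s.g ξ ∈ W η := hsp.mem_open (W η).2 hη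
  have hex : ∃ η, s.g ξ ∈ W η := ⟨η, hη'⟩
  have hveq : v ξ = H23.RatSec.cls M ξ (M.presheaf.stalkSpecializes h
      (H23.C1Pull.pm s.g L x (L.presheaf.germ (W η) (s.g x) hη (e η)))) := by
    simp only [v, dif_pos hex]
    obtain rfl : η = hex.choose := hdisj _ _ _ hZξ hη' hex.choose_spec
    rw [← H23.C1Pull.pm_stalkSpecializes, TopCat.Presheaf.germ_stalkSpecializes_apply]
  rw [hveq]
  exact secDivFun_gen hY.2.2 hM h (H23.C1Pull.isGen_pm (H23.RatSec.isGen_germ (he η) _ hη))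

/-- A chain of `d + 1` first Chern classes kills every class when the base has dimension at most `d`. -/
theorem chain_eq_zero {δX : X → ℤ} (hX : Cyc.IsSetup X δX) {d : ℕ} (hd : topologicalKrullDim X ≤ (d : WithBot ℕ∞))
    {L : ℕ → X.Modules} {c : ℕ → Bivar.OpCl 1 X δX} (hc : ∀ j, j ≤ d → Bivar.IsC1Class (L j) (c j))
    (s : Bivar.OSq X δX) (k : ℤ) (x : (j : ℕ) → ChowOps.CH s.Y s.δ (k - (j : ℤ)))
    (hx : ∀ j, j ≤ d → (c j).op s (k - (j : ℤ)) (x j) = Bivar.chCast s.Y s.δ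
      (((congrArg (fun t : ℤ => k - t) (Nat.cast_succ j)).trans (sub_sub k (j : ℤ) 1).symm)) (x (j + 1))) :
    x (d + 1) = 0 := by
  have key : ∀ j, j ≤ d + 1 → ∃ Z : Set X, IsClosed Z ∧ (∀ z ∈ Z, (j : ℕ∞) ≤ Order.coheight z) ∧
      ∃ (α : AlgebraicCycle s.Y ℤ) (hα : α ∈ Cyc.Zk s.Y s.δ (k - (j : ℤ))),
        x j = ChowOps.cl α hα ∧ ∀ ξ, α ξ ≠ 0 → s.g ξ ∈ Z := by
    intro j
    induction j with
    | zero =>
      intro _
      obtain ⟨α, hα, e⟩ := Bivar.exists_rep (x 0)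
      exact ⟨Set.univ, isClosed_univ, fun z _ => by simp, α, hα, e.symm, fun _ _ => trivial⟩
    | succ j ih =>
      intro hj
      obtain ⟨Z, hZ, hco, α, hα, e, hsupp⟩ := ih (by omega)
      obtain ⟨Z', hZ', -, hlt, hcap⟩ := exists_smaller_support hX (hc j (by omega)) hZ
      obtain ⟨γ, hγ, eγ, hγs⟩ := hcap s _ α hα hsupp
      refine ⟨Z', hZ', fun z hz => ?_, γ, by push_cast; rwa [← sub_sub], ?_, hγs⟩
      · obtain ⟨η, hη, hzη⟩ := hlt z hz
        push_cast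
        exact (add_le_add (hco η hη) le_rfl).trans (Order.coheight_add_one_le hzη)
      · have h := hx j (by omega)
        rw [e, eγ] at h
        apply (Bivar.chCast s.Y s.δ _).injective
        rw [← h, Bivar.chCast_cl]
  obtain ⟨Z, -, hco, α, hα, e, hsupp⟩ := key (d + 1) le_rfl
  rw [e]
  refine (Bivar.cl_congr ?_ hα ((ChowOps.zk _ _ _).zero_mem)).trans Bivar.cl_zero
  refine DFunLike.coe_injective (funext fun ξ => by_contra fun hξ => ?_)
  have h1 := hco _ (hsupp ξ hξ)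
  rw [AlgSpPts.topologicalKrullDim_eq_krullDim] at hd
  have h2 := (Order.coheight_le_krullDim (s.g ξ)).trans hd
  have h3 : ((d + 1 : ℕ) : ℕ∞) ≤ (d : ℕ∞) := h1.trans (by exact_mod_cast h2)
  have h4 : d + 1 ≤ d := by exact_mod_cast h3
  omega

end Groth.Agent.H9PB

end
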