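import Groth.Agent.H9PB.ChernComm
import Groth.Agent.H23.GysinSq
import Groth.Agent.H23.GysinClass

/-! Chern caps commute with the Gysin map of an effective Cartier divisor. -/

set_option autoImplicit false
set_option linter.style.haveILetI false
set_option linter.unusedSectionVars false
set_option backward.isDefEq.respectTransparency false
set_option backward.isDefEq.respectTransparency.types false
set_option maxHeartbeats 800000

universe u

open AlgebraicGeometry CategoryTheory CategoryTheory.Limits TopologicalSpace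

namespace Groth.Agent.H9PB

open Groth.Agent

section Gys

variable {X D : Scheme.{u}} {δ : X → ℤ} {L N : X.Modules} (hX : Cyc.IsSetup X δ) (hL : PicF.IsInvertible L)
  (i : D ⟶ X) [IsClosedImmersion i] (s : L.presheaf.obj (Opposite.op ⊤))
  {w : (ξ : X) → Cyc.secFibre L ξ} (hw : ∀ ξ, w ξ ≠ 0)

/-- The Gysin map on cycles. -/
noncomputable def gysAdd : AlgebraicCycle X ℤ →+ AlgebraicCycle D ℤ :=
  haveI := hX.1
  AddMonoidHom.mk' (fun a => H23.GysinLib.gysinCycle hL hX.2.2 i s a hw) fun a b => by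
    ext d
    show Cyc.c1CapFun δ L ⇑(a + b) (Cyc.gysinChoice L s w) (i d) =
      Cyc.c1CapFun δ L ⇑a (Cyc.gysinChoice L s w) (i d) + Cyc.c1CapFun δ L ⇑b (Cyc.gysinChoice L s w) (i d)
    rw [Function.locallyFinsuppWithin.coe_add, Bivar.c1CapFun_add]
    rfl

theorem gysAdd_apply (a : AlgebraicCycle X ℤ) (d : D) :
    gysAdd hX hL i s hw a d = Cyc.c1CapFun δ L ⇑a (Cyc.gysinChoice L s w) (i d) := rfl

theorem gysAdd_mem {k : ℤ} {a : AlgebraicCycle X ℤ} (ha : a ∈ Cyc.Zk X δ k) :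
    gysAdd hX hL i s hw a ∈ Cyc.Zk D (fun d => δ (i d)) (k - 1) :=
  haveI := hX.1
  H23.GysinClass.gysinCycle_mem hL hX.2.2 rfl ha hw

theorem gysAdd_ratSub (hD : Cyc.IsZeroSchemeOf i L s) (hDs : Cyc.IsSetup D (fun d => δ (i d))) {k : ℤ}
    {a : AlgebraicCycle X ℤ} (ha : a ∈ Cyc.Zk X δ k) (h : a ∈ ratSub hX k) :
    gysAdd hX hL i s hw a ∈ ratSub hDs (k - 1) := by
  haveI := hX.1
  have h1 := H23.GysinClass.gysinHom_eq_zero hL hX.2.2 hD (δD := fun d => δ (i d)) rfl hw ⟨a, ha⟩ h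
  have h2 := ratEquiv_of_cl_eq hDs (hα := gysAdd_mem hX hL i s hw ha)
    (hβ := (ChowOps.zk D _ (k - 1)).zero_mem) (h1.trans Bivar.cl_zero.symm)
  rw [Cyc.RatEquiv, sub_zero] at h2
  exact h2

/-- The Gysin map commutes with iterated caps. -/
theorem gysAdd_powHom (hN : PicF.IsInvertible N) (hD : Cyc.IsZeroSchemeOf i L s)
    (hDs : Cyc.IsSetup D (fun d => δ (i d))) (t : ℕ → (ξ : X) → Cyc.secFibre N ξ) (ht : ∀ m ξ, t m ξ ≠ 0)
    (t' : ℕ → (d : D) → Cyc.secFibre ((Scheme.Modules.pullback i).obj N) d) (ht' : ∀ m d, t' m d ≠ 0)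
    {k : ℤ} {a : AlgebraicCycle X ℤ} (ha : a ∈ Cyc.Zk X δ k) (m : ℕ) :
    haveI := hX.1
    haveI := hDs.1
    gysAdd hX hL i s hw (powHom hN hX.2.2 t ht m a) -
      powHom (PicClLib.isInvertible_pullback i hN) hDs.2.2 t' ht' m (gysAdd hX hL i s hw a) ∈
        ratSub hDs (k - (m : ℕ) - 1) := by
  haveI := hX.1
  haveI := hDs.1
  let hN' := PicClLib.isInvertible_pullback i hN
  induction m with
  | zero => simp [powHom]
  | succ m ih =>
    let b := powHom hN hX.2.2 t ht m a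
    have hb : b ∈ Cyc.Zk X δ (k - m) := powHom_mem hN hX.2.2 t ht ha m
    let C := cap1 hN' hDs.2.2 (t' m) (ht' m)
    have h1 : gysAdd hX hL i s hw (cap1 hN hX.2.2 (t m) (ht m) b) - C (gysAdd hX hL i s hw b) ∈
        ratSub hDs (k - m - 2) :=
      H23.GysinLib.gysin_c1Cap hL hX.2.2 hD b (by rwa [show k - (m : ℤ) - 2 + 2 = k - m by ring]) hw hN (ht m)
        (coe_cap1 hN hX.2.2 (t m) (ht m) b) (fun d => gysAdd_apply hX hL i s hw b d) (ht' m)
        (fun d => gysAdd_apply hX hL i s hw _ d) (coe_cap1 hN' hDs.2.2 (t' m) (ht' m) _)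
    have hm : powHom hN' hDs.2.2 t' ht' m (gysAdd hX hL i s hw a) ∈ Cyc.Zk D (fun d => δ (i d)) (k - m - 1) := by
      have := powHom_mem hN' hDs.2.2 t' ht' (gysAdd_mem hX hL i s hw ha) m
      rwa [show k - 1 - (m : ℤ) = k - m - 1 by ring] at this
    have h2 := cap1_ratSub hDs hN' (t' m) (ht' m) ((ChowOps.zk D _ _).sub_mem (gysAdd_mem hX hL i s hw hb) hm) ih
    rw [map_sub] at h2
    rw [show k - (m : ℤ) - 1 - 1 = k - ((m + 1 : ℕ) : ℤ) - 1 by push_cast; ring] at h2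
    rw [show k - (m : ℤ) - 2 = k - ((m + 1 : ℕ) : ℤ) - 1 by push_cast; ring] at h1
    show gysAdd hX hL i s hw (cap1 hN hX.2.2 (t m) (ht m) b) -
      C (powHom hN' hDs.2.2 t' ht' m (gysAdd hX hL i s hw a)) ∈ _
    have h3 := add_mem h1 h2
    rwa [sub_add_sub_cancel] at h3

end Gys

theorem deltaCompat_base {X P D PD : Scheme.{u}} {p : P ⟶ X} [LocallyOfFiniteType p] {i : D ⟶ X}
    [IsClosedImmersion i] {pD : PD ⟶ D} {i' : PD ⟶ P} (hsq : IsPullback i' pD p i) {δ : X → ℤ} {δP : P → ℤ}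
    (hδ : Cyc.DeltaCompat p δP δ) : Cyc.DeltaCompat pD (fun y => δP (i' y)) (fun d => δ (i d)) := by
  haveI : IsClosedImmersion i' := MorphismProperty.of_isPullback hsq.flip ‹_›
  haveI : LocallyOfFiniteType pD := MorphismProperty.of_isPullback hsq ‹_›
  intro y
  refine ⟨FibDim.rd pD y, (VarDim.rdeg.eq_def pD y).symm.trans (FibDim.rd_eq_rdeg pD y).symm, ?_⟩
  have h1 := CycLib.deltaCompat_eq (i' ≫ p) (CycLib.deltaCompat_closedImmersion_comp i' p hδ) y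
  have h2 := CycLib.deltaCompat_eq i (H23.GysinLib.deltaCompat_closedImmersion i δ) (pD y)
  have h4 : FibDim.rd (i' ≫ p) y = FibDim.rd (pD ≫ i) y := by rw [hsq.w]
  rw [FibDim.rd_comp pD i] at h4
  have h5 : (i' ≫ p) y = i (pD y) := by rw [hsq.w, Scheme.Hom.comp_apply]
  rw [h5] at h1
  simp only at h1 h2 ⊢
  omega

namespace Charted

variable {X P D PD : Scheme.{u}} {p : P ⟶ X} {O1 : P.Modules} {n : ℕ} (hfr : Charted p O1 n) [IsProper p]
  {pD : PD ⟶ D} {i : D ⟶ X} [IsClosedImmersion i] {i' : PD ⟶ P} [IsClosedImmersion i'] [IsProper pD]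
  (hfr' : Charted pD ((Scheme.Modules.pullback i').obj O1) n) (hO : PicF.IsInvertible O1) {δ : X → ℤ} {δP : P → ℤ}
  (hX : Cyc.IsSetup X δ) (hP : Cyc.IsSetup P δP) (hD : Cyc.IsSetup D (fun d => δ (i d)))
  (hPD : Cyc.IsSetup PD (fun y => δP (i' y))) (hδ : Cyc.DeltaCompat p δP δ)
  (hδ' : Cyc.DeltaCompat pD (fun y => δP (i' y)) (fun d => δ (i d))) (hsq : IsPullback i' pD p i)
  {L : X.Modules} (hL : PicF.IsInvertible L) {s : L.presheaf.obj (Opposite.op ⊤)} (hZ : Cyc.IsZeroSchemeOf i L s)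
  {w : (ξ : X) → Cyc.secFibre L ξ} (hw : ∀ ξ, w ξ ≠ 0)

include hsq hZ in
/-- The Gysin map commutes with the relation. -/
theorem gysAdd_rel {k : ℤ} {γ : Fin (n + 2) → AlgebraicCycle X ℤ}
    (hm : ∀ j : Fin (n + 2), γ j ∈ Cyc.Zk X δ (k - ((j : ℕ) : ℤ)))
    (h : hfr.rel hO hX hP hδ γ ∈ ratSub hP (k - 1)) :
    hfr'.rel (PicClLib.isInvertible_pullback i' hO) hD hPD hδ' (fun j => gysAdd hX hL i s hw (γ j)) ∈
      ratSub hPD (k - 1 - 1) := by
  haveI := hX.1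
  haveI := hP.1
  haveI := hD.1
  haveI := hPD.1
  haveI := hfr.flat
  have hO' := PicClLib.isInvertible_pullback i' hO
  have hpL := PicClLib.isInvertible_pullback p hL
  have hZ' := H23.GysinSq.isZeroSchemeOf_pb hsq hL hZ
  have hv : ∀ ξ, H23.C1Pull.vPull p L w ξ ≠ 0 := H23.C1Pull.vPull_ne_zero hL hw
  let G := gysAdd hP hpL i' (KFlatLib.pb p (U := ⊤) s) hv
  have hrelmem : hfr.rel hO hX hP hδ γ ∈ Cyc.Zk P δP (k - 1) := by
    rw [rel_apply]
    refine (ChowOps.zk P δP _).sum_mem fun l _ => (ChowOps.zk P δP _).zsmul_mem ?_ _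
    have := hfr.term_mem hO hX hP hδ (hm (Fin.rev l)) l
    rwa [deg_rev] at this
  have h1 : G (hfr.rel hO hX hP hδ γ) ∈ ratSub hPD (k - 1 - 1) :=
    gysAdd_ratSub hP hpL i' _ hv hZ' hPD hrelmem h
  have h2 : G (hfr.rel hO hX hP hδ γ) - hfr'.rel hO' hD hPD hδ' (fun j => gysAdd hX hL i s hw (γ j)) ∈
      ratSub hPD (k - 1 - 1) := by
    rw [rel_apply, rel_apply, map_sum, ← Finset.sum_sub_distrib]
    refine sum_mem fun l _ => ?_
    rw [map_zsmul, ← smul_sub]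
    refine zsmul_mem ?_ _
    let c := γ (Fin.rev l)
    have hc := hm (Fin.rev l)
    let b := hfr.pullAdd hX hP hδ c
    have hb := hfr.pullAdd_mem hX hP hδ hc
    have h3 := gysAdd_powHom hP hpL i' (KFlatLib.pb p (U := ⊤) s) hv hO hZ' hPD (hfr.sec hO) (hfr.sec_ne_zero hO)
      (hfr'.sec hO') (hfr'.sec_ne_zero hO') hb (l : ℕ)
    rw [deg_rev] at h3
    have h4 : G b - hfr'.pullAdd hD hPD hδ' (gysAdd hX hL i s hw c) ∈
        ratSub hPD (k - ((Fin.rev l : ℕ) : ℤ) - 1 + n) :=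
      H23.GysinSq.ratEquiv_gysin_pull hsq (hfr.hasShift hP.2.2 hδ) hX.2.2 hP.2.2 hL hZ hZ' c
        (by rwa [show k - ((Fin.rev l : ℕ) : ℤ) - 1 + 1 = k - ((Fin.rev l : ℕ) : ℤ) by ring]) hw hv
        (fun z => by rw [gysAdd_apply, coe_pullAdd]) (by rw [coe_pullAdd]; rfl)
    have hGb : G b ∈ Cyc.Zk PD (fun y => δP (i' y)) (k - ((Fin.rev l : ℕ) : ℤ) - 1 + n) := by
      have := gysAdd_mem hP hpL i' (KFlatLib.pb p (U := ⊤) s) hv hb
      rwa [show k - ((Fin.rev l : ℕ) : ℤ) + n - 1 = k - ((Fin.rev l : ℕ) : ℤ) - 1 + n by ring] at this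
    have hq : hfr'.pullAdd hD hPD hδ' (gysAdd hX hL i s hw c) ∈
        Cyc.Zk PD (fun y => δP (i' y)) (k - ((Fin.rev l : ℕ) : ℤ) - 1 + n) :=
      hfr'.pullAdd_mem hD hPD hδ' (gysAdd_mem hX hL i s hw hc)
    have h5 := powHom_ratEquiv hPD hO' hGb hq h4 (hfr'.sec_ne_zero hO') (hfr'.sec_ne_zero hO') (l : ℕ)
    rw [show k - ((Fin.rev l : ℕ) : ℤ) - 1 + n - ((l : ℕ) : ℤ) = k - 1 - 1 by have := deg_rev (n := n) k l; omega] at h5
    have h6 := add_mem h3 (h5 : _ ∈ ratSub hPD _)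
    rwa [sub_add_sub_cancel] at h6
  have h7 := sub_mem h1 h2
  rwa [sub_sub_cancel] at h7

end Charted

end Groth.Agent.H9PB
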