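import Groth.Agent.H9PB.ZeroSection
import Groth.Agent.H9PB.ChernGysin
import Groth.Agent.H9PB.ChernSub
import Groth.Agent.H23.C1Class

/-! The first Chern class of the normal bundle of a zero scheme as a self-intersection. -/

set_option autoImplicit false
set_option linter.style.haveILetI false
set_option linter.unusedSectionVars false
set_option backward.isDefEq.respectTransparency false
set_option backward.isDefEq.respectTransparency.types false
set_option maxHeartbeats 800000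

universe u

open CategoryTheory AlgebraicGeometry

noncomputable section

namespace Groth.Agent.H9PB

open Groth.Agent

variable {Y P : Scheme.{u}} {δ : Y → ℤ} {δP : P → ℤ} (hY : Cyc.IsSetup Y δ) (hP : Cyc.IsSetup P δP)
  {Q : P.Modules} (hQ : PicF.IsInvertible Q) (i : Y ⟶ P) [IsClosedImmersion i] (hδi : δ = fun y => δP (i y))
  {σ : Q.presheaf.obj (Opposite.op ⊤)} {w : (ξ : P) → Cyc.secFibre Q ξ} (hw : ∀ ξ, w ξ ≠ 0)

include hδi in
theorem gysAdd_mem' {k : ℤ} {a : AlgebraicCycle P ℤ} (ha : a ∈ Cyc.Zk P δP k) :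
    gysAdd hP hQ i σ hw a ∈ Cyc.Zk Y δ (k - 1) :=
  hδi ▸ gysAdd_mem hP hQ i σ hw ha

include hY hδi in
/-- The Gysin map descends to classes. -/
theorem cl_gys_congr (hD : Cyc.IsZeroSchemeOf i Q σ) {k l : ℤ} (hl : k - 1 = l) {a a' : AlgebraicCycle P ℤ}
    {ha : a ∈ Cyc.Zk P δP k} {ha' : a' ∈ Cyc.Zk P δP k} (h : ChowOps.cl a ha = ChowOps.cl a' ha')
    (h₁ : gysAdd hP hQ i σ hw a ∈ Cyc.Zk Y δ l) (h₂ : gysAdd hP hQ i σ hw a' ∈ Cyc.Zk Y δ l) :
    ChowOps.cl (gysAdd hP hQ i σ hw a) h₁ = ChowOps.cl (gysAdd hP hQ i σ hw a') h₂ := by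
  subst hl hδi
  refine H23.ChowDesc.cl_eq_of_ratEquiv _ _ ?_
  have h3 := gysAdd_ratSub hP hQ i σ hw hD hY ((ChowOps.zk P δP k).sub_mem ha ha')
    (ratEquiv_of_cl_eq hP h)
  rw [map_sub] at h3
  exact h3

include hY hδi in
/-- Pushing forward and pulling back is capping with the normal class. -/
theorem c1_eq_cl_gys_push {X : Scheme.{u}} {δX : X → ℤ} {L : X.Modules} {c : Bivar.OpCl 1 X δX}
    (hc : Bivar.IsC1Class L c) (g : Y ⟶ X) (hlft : LocallyOfFiniteType g) (hg : Cyc.DeltaCompat g δ δX)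
    (e : (Scheme.Modules.pullback i).obj Q ≅ (Scheme.Modules.pullback g).obj L) {k : ℤ}
    {a : AlgebraicCycle Y ℤ} (ha : a ∈ Cyc.Zk Y δ k)
    (h : gysAdd hP hQ i σ hw (AlgebraicCycle.map i δ δP a) ∈ Cyc.Zk Y δ (k - 1)) :
    c.op ⟨Y, g, hlft, δ, hg⟩ k (ChowOps.cl a ha) =
      ChowOps.cl (gysAdd hP hQ i σ hw (AlgebraicCycle.map i δ δP a)) h := by
  subst hδi
  haveI := hP.1
  haveI := hY.1
  have hM := PicClLib.isInvertible_pullback g hc.1
  have hQi := PicClLib.isInvertible_pullback i hQ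
  have hg' := H23.GysinLib.gysinChoice_ne_zero (L := Q) σ hw
  have hu := H23.C1Pull.vPull_ne_zero (p := i) hQ hg'
  refine hc.2 ⟨Y, g, hlft, _, hg⟩ k a ha _ (H23.RatSec.mapSec_ne_zero e hu) _ ?_ h
  rw [H23.RatSec.c1CapFun_mapSec e hQi hM hY.2.2 _ hu]
  funext d
  rw [gysAdd_apply, ← congrFun (H23.C1Push.map_c1Cap hQ hY.2.2 hP.2.2 (H23.GysinLib.deltaCompat_closedImmersion i δP)
    a hg') (i d), CycLib.map_preimmersion_apply]
  rfl

end Groth.Agent.H9PB

end
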