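import Groth.Agent.H9PB.Frame
import Groth.Agent.H23.C1Class
import Groth.Agent.H23.C1Cycle
import Groth.Agent.H23.FlatClass

/-! Caps of the fundamental module with the pull-back of a cycle, computed with coordinate sections. -/

set_option autoImplicit false
set_option linter.style.haveILetI false
set_option linter.unusedSectionVars false
set_option backward.isDefEq.respectTransparency false
set_option backward.isDefEq.respectTransparency.types false

universe u

open AlgebraicGeometry CategoryTheory TopologicalSpace Opposite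

namespace Groth.Agent.H9PB

open Groth.Agent H9A1 H23.RatSec

variable {X P : Scheme.{u}} {p : P ⟶ X} {O1 : P.Modules} {n : ℕ}

theorem germ_app_congr {Y Z : Scheme.{u}} {f g : Y ⟶ Z} (e : f = g) (U : Z.Opens) (z : Y) (h : f z ∈ U)
    (h' : g z ∈ U) (r : Γ(Z, U)) :
    (Y.presheaf.germ (f ⁻¹ᵁ U) z h).hom ((f.app U).hom r) = (Y.presheaf.germ (g ⁻¹ᵁ U) z h').hom ((g.app U).hom r) := by
  subst e
  rfl

namespace Frame

variable {U : X.Opens} (F : Frame p O1 n U)

theorem el_C (i : Fin (n + 1)) (z : ChS X U i) (r : Γ(X, U)) :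
    F.el i z (MvPolynomial.C r) = p.stalkMap (F.emb i z) (X.presheaf.germ U _ (F.p_emb_mem i z) r) := by
  apply F.stalkMap_injective i z
  rw [stalkMap_el, Scheme.Hom.germ_stalkMap_apply]
  refine Eq.symm (((Scheme.Hom.germ_stalkMap_apply (F.emb i) (p ⁻¹ᵁ U) z (F.p_emb_mem i z) (p.app U r))).trans ?_)
  have hz : (Spec.map (CommRingCat.ofHom (MvPolynomial.C : Γ(X, U) →+* Ch Γ(X, U) i)) ≫ F.affine.fromSpec) z ∈ U := by
    rw [← F.emb_comp, Scheme.Hom.comp_apply]; exact F.p_emb_mem i z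
  refine (germ_app_congr (F.emb_comp i) U z (F.p_emb_mem i z) hz r).trans ?_
  set φ := CommRingCat.ofHom (MvPolynomial.C : Γ(X, U) →+* Ch Γ(X, U) i)
  rw [Scheme.Hom.comp_app, F.affine.fromSpec_app_self, CommRingCat.hom_comp, RingHom.comp_apply,
    CommRingCat.hom_comp, RingHom.comp_apply]
  have hnat := congrArg (fun q => q.hom ((Scheme.ΓSpecIso Γ(X, U)).inv.hom r))
    ((Spec.map φ).naturality (eqToHom F.affine.fromSpec_preimage_self).op)
  simp only [CommRingCat.hom_comp, RingHom.comp_apply] at hnat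
  erw [hnat, TopCat.Presheaf.germ_res_apply]
  have := RingHom.congr_fun (congrArg CommRingCat.Hom.hom (Scheme.ΓSpecIso_inv_naturality φ)) r
  exact congrArg ((ChS X U i).presheaf.germ ⊤ z trivial).hom this.symm

/-- The class of a coordinate in a fibre. -/
noncomputable def secAt (l : Fin (n + 1)) (x : P) (h : p x ∈ U) : Cyc.secFibre O1 x :=
  cls O1 x (O1.presheaf.germ (p ⁻¹ᵁ U) x h (F.σ l))

theorem span_gen {l : Fin (n + 1)} {x : P} (hl : x ∈ Set.range (F.emb l)) (h : p x ∈ U) :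
    Submodule.span (P.presheaf.stalk x)
      {(show O1.presheaf.stalk x from O1.presheaf.germ (p ⁻¹ᵁ U) x h (F.σ l))} = ⊤ := by
  obtain ⟨z, rfl⟩ := hl
  exact F.gen l z h

theorem secAt_ne_zero (hL : PicF.IsInvertible O1) {l : Fin (n + 1)} {x : P} (hl : x ∈ Set.range (F.emb l))
    (h : p x ∈ U) : F.secAt l x h ≠ 0 := by
  have := (residue_ne_zero (isGen_of_span hL (F.span_gen hl h)).1 (φ := 1)).1 (by rw [map_one]; exact one_ne_zero)
  rwa [one_smul] at this

theorem spec_germ {l : Fin (n + 1)} {x ξ : P} (h : ξ ⤳ x) (hx : p x ∈ U) (hξ : p ξ ∈ U) :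
    (O1.presheaf.stalkSpecializes h (O1.presheaf.germ (p ⁻¹ᵁ U) x hx (F.σ l)) : O1.presheaf.stalk ξ) =
      O1.presheaf.germ (p ⁻¹ᵁ U) ξ hξ (F.σ l) :=
  TopCat.Presheaf.germ_stalkSpecializes_apply _ _ _ _

variable [IsLocallyNoetherian P] {δ : X → ℤ} {δP : P → ℤ}

theorem secDiv_congr {l : Fin (n + 1)} {ξ ξ' x : P} (e : ξ = ξ') (h : p ξ ∈ U) (h' : p ξ' ∈ U) :
    Cyc.secDivFun δP O1 ξ (F.secAt l ξ h) x = Cyc.secDivFun δP O1 ξ' (F.secAt l ξ' h') x := by
  subst e
  rfl

theorem secDiv_zero_of_range (hL : PicF.IsInvertible O1) (hd : Cyc.IsDimFun P δP) {l : Fin (n + 1)} {x ξ : P}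
    (h : ξ ⤳ x) (hx1 : δP x + 1 = δP ξ) (hl : x ∈ Set.range (F.emb l)) (hx : p x ∈ U) (hξ : p ξ ∈ U) :
    Cyc.secDivFun δP O1 ξ (F.secAt l ξ hξ) x = 0 := by
  have hs : F.secAt l ξ hξ = (1 : P.presheaf.stalk ξ) •
      cls O1 ξ (O1.presheaf.stalkSpecializes h (O1.presheaf.germ (p ⁻¹ᵁ U) x hx (F.σ l))) := by
    rw [one_smul, F.spec_germ h hx hξ]
    rfl
  rw [secDivFun_eq hL hd h (F.span_gen hl hx) hs (by rw [map_one]; exact one_ne_zero), map_one,
    CycLib.divFun_eq δP _ h hx1, CycLib.ordAt_one hd h hx1]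

theorem ordAt_el (hd : Cyc.IsDimFun P δP) {i : Fin (n + 1)} {z w : ChS X U i} (h : F.emb i w ⤳ F.emb i z)
    (hwz : w ⤳ z) (hx : δP (F.emb i z) + 1 = δP (F.emb i w)) {f : Ch Γ(X, U) i}
    (hf : f ∉ (w : PrimeSpectrum (Ch Γ(X, U) i)).asIdeal)
    (hmax : (z : PrimeSpectrum (Ch Γ(X, U) i)).asIdeal =
      (w : PrimeSpectrum (Ch Γ(X, U) i)).asIdeal ⊔ Ideal.span {f}) :
    Cyc.ordAt (F.emb i z) (F.emb i w) h (P.residue _ (F.el i w f)) = 1 := by
  rw [← F.specMap_el hwz h, ← CycLib.algebraMap_locQuot_mk]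
  have hne : Ideal.Quotient.mk (RingHom.ker (Cyc.specMap (F.emb i z) (F.emb i w) h)) (F.el i z f) ≠ 0 := by
    rw [Ne, Ideal.Quotient.eq_zero_iff_mem, RingHom.mem_ker, F.specMap_el hwz h]
    exact fun h0 => hf (F.residue_el.1 h0)
  rw [CycLib.ordAt_algebraMap hd h hx hne]
  have hbot : ((w : PrimeSpectrum (Ch Γ(X, U) i)).asIdeal.map (F.el i z)).map
      (Ideal.Quotient.mk (RingHom.ker (Cyc.specMap (F.emb i z) (F.emb i w) h))) = ⊥ := by
    rw [Ideal.map_eq_bot_iff_le_ker, Ideal.mk_ker]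
    refine Ideal.map_le_iff_le_comap.2 fun a ha => ?_
    rw [Ideal.mem_comap, RingHom.mem_ker, F.specMap_el hwz h]
    exact F.residue_el.2 ha
  have hspan : Ideal.span {Ideal.Quotient.mk (RingHom.ker (Cyc.specMap (F.emb i z) (F.emb i w) h)) (F.el i z f)} =
      IsLocalRing.maximalIdeal (Cyc.LocQuot (F.emb i z) (F.emb i w) h) := by
    rw [← IsLocalRing.map_maximalIdeal_of_surjective _ Ideal.Quotient.mk_surjective, F.maximalIdeal_eq_map, hmax,
      Ideal.map_sup, Ideal.map_sup, hbot, bot_sup_eq, Ideal.map_span, Ideal.map_span, Set.image_singleton,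
      Set.image_singleton]
  haveI : IsSimpleModule (Cyc.LocQuot (F.emb i z) (F.emb i w) h) (Cyc.LocQuot (F.emb i z) (F.emb i w) h ⧸
      Ideal.span {Ideal.Quotient.mk (RingHom.ker (Cyc.specMap (F.emb i z) (F.emb i w) h)) (F.el i z f)}) :=
    isSimpleModule_iff_isCoatom.2 (Ideal.isMaximal_def.1 (hspan ▸ IsLocalRing.maximalIdeal.isMaximal _))
  rw [Ring.ord, Module.length_eq_one]
  rfl

theorem secDiv_chart (hL : PicF.IsInvertible O1) (hd : Cyc.IsDimFun P δP) {i l : Fin (n + 1)} {z w : ChS X U i}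
    (hwz : w ⤳ z) (hx : δP (F.emb i z) + 1 = δP (F.emb i w))
    (hnot : y i l ∉ (w : PrimeSpectrum (Ch Γ(X, U) i)).asIdeal)
    (hmax : (z : PrimeSpectrum (Ch Γ(X, U) i)).asIdeal =
      (w : PrimeSpectrum (Ch Γ(X, U) i)).asIdeal ⊔ Ideal.span {y i l})
    (hwU : p (F.emb i w) ∈ U) (hzU : p (F.emb i z) ∈ U) :
    Cyc.secDivFun δP O1 (F.emb i w) (F.secAt l (F.emb i w) hwU) (F.emb i z) = 1 := by
  have hsp : F.emb i w ⤳ F.emb i z := hwz.map (F.emb i).continuous
  obtain ⟨a, ha1, ha2⟩ := F.coord i l z hzU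
  have ha : a = F.el i z (y i l) := F.stalkMap_injective i z (ha1.trans (F.stalkMap_el i z _).symm)
  subst ha
  have hres : P.residue _ (F.el i w (y i l)) ≠ 0 := fun h0 => hnot (F.residue_el.1 h0)
  have hsec : F.secAt l (F.emb i w) hwU = F.el i w (y i l) •
      cls O1 (F.emb i w) (O1.presheaf.stalkSpecializes hsp (O1.presheaf.germ (p ⁻¹ᵁ U) _ hzU (F.σ i))) := by
    rw [secAt, ← F.spec_germ hsp hzU hwU, ha2, H23.ZeroSec.stalkSpecializes_smul, cls_smul, F.spec_el hwz hsp]
  rw [secDivFun_eq hL hd hsp (F.gen i z hzU) hsec hres, CycLib.divFun_eq δP _ hsp hx,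
    F.ordAt_el hd hsp hwz hx hnot hmax]

theorem secDiv_succ [LocallyOfFiniteType p] (hL : PicF.IsInvertible O1) (hd : Cyc.IsDimFun P δP)
    (hδ : Cyc.DeltaCompat p δP δ) (η : U) (j : Fin n) (h : p (F.gp η j.castSucc) ∈ U) :
    Cyc.secDivFun δP O1 (F.gp η j.castSucc) (F.secAt j.castSucc (F.gp η j.castSucc) h) (F.gp η j.succ) = 1 := by
  have hle : j.castSucc ≤ j.succ := (Fin.castSucc_lt_succ (i := j)).le
  have hw := F.gp_eq η hle
  have h1 := F.delta_gp hd hδ η j.castSucc
  have h2 := F.delta_gp hd hδ η j.succ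
  rw [hw] at h1
  rw [F.secDiv_congr hw h (F.p_emb_mem _ _)]
  have hx : δP (F.emb j.succ (F.linPt η (j.succ : Fin (n + 1)) j.succ)) + 1 =
      δP (F.emb j.succ (F.linPt η (j.castSucc : Fin (n + 1)) j.succ)) := by
    rw [h1]
    change δP (F.gp η j.succ) + 1 = _
    rw [h2]
    simp only [Fin.val_castSucc, Fin.val_succ]
    omega
  refine F.secDiv_chart hL hd (z := F.linPt η (j.succ : Fin (n + 1)) j.succ)
    (F.linPt_specializes (F.p_linPt η _ _) (F.van_mono (by simp) (F.van_linPt η (le_refl _)))) hx ?_ ?_ _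
    (F.p_emb_mem _ _)
  · rw [linPt_asIdeal, y_mem_lin]
    exact fun hh => lt_irrefl _ hh.2
  · rw [linPt_asIdeal, linPt_asIdeal]
    exact lin_succ _ (j := j.castSucc) (Fin.castSucc_lt_succ (i := j)).ne

open scoped Classical in
theorem secDiv_gp [LocallyOfFiniteType p] (hL : PicF.IsInvertible O1) (hd : Cyc.IsDimFun P δP)
    (hδ : Cyc.DeltaCompat p δP δ) (η : U) (j : Fin n) {x : P} (hp : p x = η)
    (h : p (F.gp η j.castSucc) ∈ U) :
    Cyc.secDivFun δP O1 (F.gp η j.castSucc) (F.secAt j.castSucc (F.gp η j.castSucc) h) x =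
      if x = F.gp η j.succ then 1 else 0 := by
  split_ifs with he
  · subst he
    exact F.secDiv_succ hL hd hδ η j h
  have h1 := F.delta_gp hd hδ η j.castSucc
  simp only [Fin.val_castSucc] at h1
  by_cases hc : F.gp η j.castSucc ⤳ x ∧ δP x + 1 = δP (F.gp η j.castSucc)
  swap
  · exact dif_neg hc
  obtain ⟨hs, hx1⟩ := hc
  have hxU : p x ∈ U := hp ▸ η.2
  by_cases hl : x ∈ Set.range (F.emb j.castSucc)
  · exact F.secDiv_zero_of_range hL hd hs hx1 hl hxU h
  have hv : F.Van (j.succ : Fin (n + 1)) x := fun l hl' => by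
    rcases Nat.lt_succ_iff_lt_or_eq.1 (by simpa using hl' : (l : ℕ) < (j : ℕ) + 1) with h' | h'
    · exact F.van_of_specializes (F.van_gp η j.castSucc) hs l h'
    · rwa [show l = j.castSucc from Fin.ext h']
  exact absurd (F.eq_gp hd hδ hp hv (by simp; omega)) he

theorem length_gp_zero (η : U) :
    Module.length (P.presheaf.stalk (F.gp η 0)) (P.presheaf.stalk (F.gp η 0) ⧸ Ideal.map
      (p.stalkMap (F.gp η 0)).hom (IsLocalRing.maximalIdeal (X.presheaf.stalk (p (F.gp η 0))))) = 1 := by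
  let z := F.linPt η ((0 : Fin (n + 1)) : ℕ) 0
  show Module.length (P.presheaf.stalk (F.emb 0 z)) (P.presheaf.stalk (F.emb 0 z) ⧸ Ideal.map
      (p.stalkMap (F.emb 0 z)).hom (IsLocalRing.maximalIdeal (X.presheaf.stalk (p (F.emb 0 z))))) = 1
  have he : Ideal.map (p.stalkMap (F.emb 0 z)).hom (IsLocalRing.maximalIdeal (X.presheaf.stalk (p (F.emb 0 z)))) =
      IsLocalRing.maximalIdeal (P.presheaf.stalk (F.emb 0 z)) := by
    refine le_antisymm (Ideal.map_le_iff_le_comap.2 fun a ha => ?_) ?_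
    · rw [IsLocalRing.mem_maximalIdeal, mem_nonunits_iff] at ha
      rw [Ideal.mem_comap, IsLocalRing.mem_maximalIdeal, mem_nonunits_iff]
      exact fun h => ha (IsLocalHom.map_nonunit (f := (p.stalkMap (F.emb 0 z)).hom) a h)
    · rw [F.maximalIdeal_eq_map, linPt_asIdeal, Fin.val_zero, lin_zero, Ideal.map_map, Ideal.map_le_iff_le_comap]
      intro r hr
      rw [Ideal.mem_comap, RingHom.comp_apply, F.el_C]
      refine Ideal.mem_map_of_mem _ ?_
      rw [IsLocalRing.mem_maximalIdeal, mem_nonunits_iff]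
      have hloc := F.affine.isLocalization_stalk ⟨p (F.emb 0 z), F.p_emb_mem 0 z⟩
      letI := X.presheaf.algebra_section_stalk ⟨p (F.emb 0 z), F.p_emb_mem 0 z⟩
      refine fun hu => (IsLocalization.AtPrime.isUnit_to_map_iff (X.presheaf.stalk (p (F.emb 0 z)))
        (F.affine.primeIdealOf ⟨p (F.emb 0 z), F.p_emb_mem 0 z⟩).asIdeal r).1 hu ?_
      have e : (⟨p (F.emb 0 z), F.p_emb_mem 0 z⟩ : U) = η := Subtype.ext (F.p_linPt η _ _)
      rw [e]
      exact hr
  haveI : (Ideal.map (p.stalkMap (F.emb 0 z)).hom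
      (IsLocalRing.maximalIdeal (X.presheaf.stalk (p (F.emb 0 z))))).IsMaximal :=
    he ▸ IsLocalRing.maximalIdeal.isMaximal _
  haveI : IsSimpleModule (P.presheaf.stalk (F.emb 0 z)) (P.presheaf.stalk (F.emb 0 z) ⧸ Ideal.map
      (p.stalkMap (F.emb 0 z)).hom (IsLocalRing.maximalIdeal (X.presheaf.stalk (p (F.emb 0 z))))) :=
    isSimpleModule_iff_isCoatom.2 (Ideal.isMaximal_def.1 ‹_›)
  exact Module.length_eq_one _ _

theorem residueDegree_gp_last (η : U) : p.residueDegree (F.gp η (Fin.last n)) = 1 := by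
  let R := Γ(X, U)
  let s : Spec R ⟶ ChS X U (Fin.last n) :=
    Spec.map (CommRingCat.ofHom (MvPolynomial.eval₂Hom (RingHom.id R) fun _ => (0 : R)))
  have hs : s ≫ (F.emb (Fin.last n) ≫ p) = F.affine.fromSpec := by
    rw [F.emb_comp, ← Category.assoc, ← Spec.map_comp, ← CommRingCat.ofHom_comp,
      show (MvPolynomial.eval₂Hom (RingHom.id R) fun _ => (0 : R)).comp MvPolynomial.C = RingHom.id R from
        RingHom.ext fun r => MvPolynomial.eval₂Hom_C _ _ _, CommRingCat.ofHom_id, Spec.map_id, Category.id_comp]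
  have hpt : F.gp η (Fin.last n) = (s ≫ F.emb (Fin.last n)) (F.affine.primeIdealOf η) := by
    rw [Scheme.Hom.comp_apply]
    refine congrArg (F.emb (Fin.last n)) (PrimeSpectrum.ext ?_)
    ext f
    show f ∈ lin _ _ _ ↔ MvPolynomial.eval₂Hom (RingHom.id R) (fun _ => (0 : R)) f ∈
      (F.affine.primeIdealOf η).asIdeal
    have hk : kill ((Fin.last n : Fin (n + 1)) : ℕ) (Fin.last n) f =
        MvPolynomial.C (MvPolynomial.eval₂Hom (RingHom.id R) (fun _ => (0 : R)) f) := by
      induction f using MvPolynomial.induction_on with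
      | C r => rw [MvPolynomial.eval₂Hom_C, RingHom.id_apply]; exact MvPolynomial.algHom_C _ r
      | add f g hf hg => rw [map_add, map_add, hf, hg, map_add]
      | mul_X f l hf =>
        rw [map_mul, map_mul, kill_X_of_lt]
        · simp
        · have := Fin.val_lt_last l.2
          simpa using this
    rw [lin, RingHom.mem_ker]
    show MvPolynomial.map _ (kill _ _ f) = 0 ↔ _
    rw [hk, MvPolynomial.map_C, MvPolynomial.C_eq_zero, Ideal.Quotient.eq_zero_iff_mem]
  have hdeg : ∀ {A B : Scheme.{u}} (f : A ⟶ B) [IsOpenImmersion f] (a : A), f.residueDegree a = 1 := by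
    intro A B f _ a
    letI := (f.residueFieldMap a).hom.toAlgebra
    let e := (RingEquiv.ofBijective (f.residueFieldMap a).hom (CycLib.residueFieldMap_bijective f a))
    exact ((AlgEquiv.ofRingEquiv (f := e) fun _ => rfl :
      B.residueField (f a) ≃ₐ[B.residueField (f a)] A.residueField a).toLinearEquiv.finrank_eq).symm.trans
        (Module.finrank_self _)
  have h1 : ((s ≫ F.emb (Fin.last n)) ≫ p).residueDegree (F.affine.primeIdealOf η) = 1 := by
    rw [Category.assoc, hs]; exact hdeg _ _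
  rw [CycLib.residueDegree_comp, ← hpt] at h1
  exact Nat.eq_one_of_mul_eq_one_right h1

end Frame

/-- Every point of the base has a neighbourhood with standard charts. -/
def Charted (p : P ⟶ X) (O1 : P.Modules) (n : ℕ) : Prop :=
  ∀ η : X, ∃ U : X.Opens, η ∈ U ∧ Nonempty (Frame p O1 n U)

namespace Charted

variable (hfr : Charted p O1 n)

/-- The chosen open at a point. -/
noncomputable def opn (η : X) : X.Opens := (hfr η).choose

theorem mem_opn (η : X) : η ∈ hfr.opn η := (hfr η).choose_spec.1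

/-- The chosen charts at a point. -/
noncomputable def frame (η : X) : Frame p O1 n (hfr.opn η) := (hfr η).choose_spec.2.some

/-- The generic point of a linear subspace of a fibre. -/
noncomputable def gpt (η : X) (j : Fin (n + 1)) : P := (hfr.frame η).gp ⟨η, hfr.mem_opn η⟩ j

theorem p_gpt (η : X) (j : Fin (n + 1)) : p (hfr.gpt η j) = η := (hfr.frame η).p_gp _ j

open scoped Classical in
/-- The coordinate sections, with a fallback where they vanish. -/
noncomputable def sec (hL : PicF.IsInvertible O1) (m : ℕ) (x : P) : Cyc.secFibre O1 x :=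
  if h : m < n + 1 then
    (let s := (hfr.frame (p x)).secAt ⟨m, h⟩ x (hfr.mem_opn (p x))
     if s ≠ 0 then s else (exists_sections hL).choose x)
  else (exists_sections hL).choose x

theorem sec_ne_zero (hL : PicF.IsInvertible O1) (m : ℕ) (x : P) : hfr.sec hL m x ≠ 0 := by
  unfold sec
  split_ifs with h
  · dsimp only
    split_ifs with h'
    · exact h'
    · exact (exists_sections hL).choose_spec x
  · exact (exists_sections hL).choose_spec x

theorem sec_gpt (hL : PicF.IsInvertible O1) (η : X) (j : Fin (n + 1))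
    (h : p (hfr.gpt η j) ∈ hfr.opn η) :
    hfr.sec hL j (hfr.gpt η j) = (hfr.frame η).secAt j (hfr.gpt η j) h := by
  suffices H : ∀ (x : P) (η : X) (e : p x = η) (hx : p x ∈ hfr.opn η),
      (hfr.frame η).secAt j x hx ≠ 0 → hfr.sec hL j x = (hfr.frame η).secAt j x hx from
    H _ η (hfr.p_gpt η j) h ((hfr.frame η).secAt_ne_zero hL ((hfr.frame η).gp_mem_range _ le_rfl) h)
  rintro x η rfl hx hne
  rw [sec, dif_pos j.2]
  exact if_pos hne

variable {δ : X → ℤ} {δP : P → ℤ} [LocallyOfFiniteType p]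

include hfr in
theorem delta_le_add (hδ : Cyc.DeltaCompat p δP δ) (x : P) : δP x ≤ δ (p x) + n :=
  (hfr.frame (p x)).delta_le_add hδ (hfr.mem_opn _)

theorem delta_gpt (hd : Cyc.IsDimFun P δP) (hδ : Cyc.DeltaCompat p δP δ) (η : X) (j : Fin (n + 1)) :
    δP (hfr.gpt η j) = δ η + n - (j : ℕ) := (hfr.frame η).delta_gp hd hδ _ j

theorem eq_gpt_zero (hd : Cyc.IsDimFun P δP) (hδ : Cyc.DeltaCompat p δP δ) {η : X} {x : P} (hp : p x = η)
    (hx : δ η + n ≤ δP x) : x = hfr.gpt η 0 :=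
  (hfr.frame η).eq_gp (η := ⟨η, hfr.mem_opn η⟩) hd hδ hp (fun l hl => absurd hl (Nat.not_lt_zero _)) (by simpa using hx)

include hfr in
theorem hasShift (hd : Cyc.IsDimFun P δP) (hδ : Cyc.DeltaCompat p δP δ) : H23.FlatShift.HasShift p δP δ n := by
  intro x hx
  have h := hx _ (hfr.p_gpt (p x) 0) ((hfr.frame (p x)).gp_zero_specializes rfl)
  rw [← h, hfr.delta_gpt hd hδ, hfr.p_gpt]
  simp

include hfr in
theorem flat : Flat p := by
  rw [Flat.iff_flat_stalkMap]
  intro x
  suffices H : ∀ η : X, p x = η → (p.stalkMap x).hom.Flat from H _ rfl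
  intro η hη
  obtain ⟨i, z, rfl⟩ := (hfr.frame η).cover x (hη ▸ hfr.mem_opn η)
  haveI hfl : Flat (Spec.map (CommRingCat.ofHom (MvPolynomial.C :
      Γ(X, hfr.opn η) →+* Ch Γ(X, hfr.opn η) i))) := by
    rw [HasRingHomProperty.Spec_iff (P := @Flat)]
    exact RingHom.flat_algebraMap_iff.2 (inferInstance : Module.Flat _ (Ch Γ(X, hfr.opn η) i))
  haveI : Flat ((hfr.frame η).emb i ≫ p) := by
    rw [(hfr.frame η).emb_comp]
    infer_instance
  have h := Flat.stalkMap ((hfr.frame η).emb i ≫ p) z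
  rw [Scheme.Hom.stalkMap_comp] at h
  exact (RingHom.Flat.respectsIso.cancel_right_isIso (p.stalkMap ((hfr.frame η).emb i z))
    (((hfr.frame η).emb i).stalkMap z)).1 h

variable [IsLocallyNoetherian P] (hL : PicF.IsInvertible O1)

theorem pullFun_eq (hd : Cyc.IsDimFun P δP) (hδ : Cyc.DeltaCompat p δP δ) (α : X → ℤ) (x : P) :
    Cyc.pullFun p δP δ n α x = open scoped Classical in if x = hfr.gpt (p x) 0 then α (p x) else 0 := by
  classical
  by_cases hx : δP x = δ (p x) + n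
  · have e := hfr.eq_gpt_zero hd hδ (x := x) rfl hx.ge
    rw [if_pos e, Cyc.pullFun, if_pos hx]
    have hlen : Module.length (P.presheaf.stalk x) (P.presheaf.stalk x ⧸ Ideal.map (p.stalkMap x).hom
        (IsLocalRing.maximalIdeal (X.presheaf.stalk (p x)))) = 1 := by
      have h := (hfr.frame (p x)).length_gp_zero ⟨p x, hfr.mem_opn _⟩
      rwa [show (hfr.frame (p x)).gp ⟨p x, hfr.mem_opn _⟩ 0 = x from e.symm] at h
    rw [hlen]
    simp
  · rw [Cyc.pullFun, if_neg hx, if_neg]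
    intro e
    apply hx
    rw [e, hfr.delta_gpt hd hδ, hfr.p_gpt]
    simp

theorem specializes_of_c1Pow_ne_zero (t : ℕ → (ξ : P) → Cyc.secFibre O1 ξ) (α : X → ℤ) (m : ℕ) {x : P}
    (h : Cyc.c1PowFun δP O1 t m (Cyc.pullFun p δP δ n α) x ≠ 0) : ∃ η, α η ≠ 0 ∧ η ⤳ p x := by
  induction m generalizing x with
  | zero =>
    refine ⟨p x, fun h0 => h ?_, specializes_rfl⟩
    simp [Cyc.c1PowFun, Cyc.pullFun, h0]
  | succ m ih =>
    obtain ⟨ξ, hξ⟩ : ∃ ξ, Cyc.c1PowFun δP O1 t m (Cyc.pullFun p δP δ n α) ξ *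
        Cyc.secDivFun δP O1 ξ (t m ξ) x ≠ 0 := by
      by_contra hn
      push Not at hn
      exact h (finsum_eq_zero_of_forall_eq_zero hn)
    obtain ⟨η, hη, hs⟩ := ih (left_ne_zero_of_mul hξ)
    have hξx : ξ ⤳ x := by
      by_contra hn
      exact right_ne_zero_of_mul hξ (dif_neg fun h' => hn h'.1)
    exact ⟨η, hη, hs.trans (hξx.map p.continuous)⟩

include hL in
theorem c1Pow_sec_eq (hd : Cyc.IsDimFun P δP) (hdX : Cyc.IsDimFun X δ) (hδ : Cyc.DeltaCompat p δP δ) {k : ℤ}
    {α : X → ℤ} (hα : ∀ η, δ η ≠ k → α η = 0) (m : Fin (n + 1)) (x : P) (hx : δ (p x) = k) :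
    Cyc.c1PowFun δP O1 (hfr.sec hL) m (Cyc.pullFun p δP δ n α) x =
      open scoped Classical in if x = hfr.gpt (p x) m then α (p x) else 0 := by
  classical
  induction m using Fin.induction generalizing x with
  | zero => exact hfr.pullFun_eq hd hδ α x
  | succ m ih =>
    let γ := Cyc.c1PowFun δP O1 (hfr.sec hL) (m.castSucc : Fin (n + 1)) (Cyc.pullFun p δP δ n α)
    show Cyc.c1CapFun δP O1 γ (hfr.sec hL (m.castSucc : Fin (n + 1))) x = _
    rw [Cyc.c1CapFun, finsum_eq_single _ (hfr.gpt (p x) m.castSucc) fun ξ hne => ?_]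
    · have hU : p (hfr.gpt (p x) m.castSucc) ∈ hfr.opn (p x) := by rw [hfr.p_gpt]; exact hfr.mem_opn _
      have hval : γ (hfr.gpt (p x) m.castSucc) = α (p x) := by
        refine (ih _ (by rw [hfr.p_gpt]; exact hx)).trans ?_
        rw [hfr.p_gpt, if_pos rfl]
      rw [hval, hfr.sec_gpt hL (p x) m.castSucc hU]
      have := (hfr.frame (p x)).secDiv_gp (δ := δ) hL hd hδ ⟨p x, hfr.mem_opn _⟩ m (x := x) rfl hU
      rw [show Cyc.secDivFun δP O1 (hfr.gpt (p x) m.castSucc)
          ((hfr.frame (p x)).secAt m.castSucc (hfr.gpt (p x) m.castSucc) hU) x =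
          if x = hfr.gpt (p x) m.succ then 1 else 0 from this]
      split_ifs <;> simp
    · by_contra h
      have hξx : ξ ⤳ x := by
        by_contra hn
        exact right_ne_zero_of_mul h (dif_neg fun h' => hn h'.1)
      obtain ⟨η, hη, hs⟩ := specializes_of_c1Pow_ne_zero (hfr.sec hL) α _ (left_ne_zero_of_mul h)
      have hηk : δ η = k := not_not.1 fun hh => hη (hα η hh)
      have h1 := CycLib.delta_le hdX hs
      have h2 := CycLib.delta_le hdX (hξx.map p.continuous)
      have hpe : p ξ = p x := CycLib.eq_of_delta_le hdX (hξx.map p.continuous) (by omega)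
      have hξk : δ (p ξ) = k := by rw [hpe]; exact hx
      have hne0 := left_ne_zero_of_mul h
      rw [show γ ξ = _ from ih ξ hξk] at hne0
      split_ifs at hne0 with he
      · exact hne (he.trans (by rw [hpe]))
      · exact hne0 rfl

end Charted

end Groth.Agent.H9PB
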