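import Groth.Agent.H9PB.CapR

/-! Chern caps of a module filtered with invertible quotients. -/

set_option autoImplicit false
set_option linter.style.haveILetI false
set_option linter.unusedSectionVars false
set_option backward.isDefEq.respectTransparency false
set_option backward.isDefEq.respectTransparency.types false
set_option maxHeartbeats 800000

universe u

open AlgebraicGeometry CategoryTheory CategoryTheory.Limits TopologicalSpace

namespace Groth.Agent.H9PB

open Groth.Agent

section Filtered

variable {X : Scheme.{u}} {r : ℕ} {E : X.Modules} {M : Fin (r + 1) → X.Modules} (e : M (Fin.last r) ≅ E)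
  {L : Fin r → X.Modules} (a : ∀ i : Fin r, M (Fin.castSucc i) ⟶ M (Fin.succ i))
  {b : ∀ i : Fin r, M (Fin.succ i) ⟶ L i} {hab : ∀ i, a i ≫ b i = 0}

/-- A step of the filtration mapped to the module. -/
noncomputable def filIncl (i : Fin (r + 1)) : M i ⟶ E :=
  Fin.reverseInduction (motive := fun i => M i ⟶ E) e.hom (fun i ci => a i ≫ ci) i

theorem filIncl_last : filIncl e a (Fin.last r) = e.hom := Fin.reverseInduction_last ..

theorem filIncl_castSucc (i : Fin r) : filIncl e a i.castSucc = a i ≫ filIncl e a i.succ :=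
  Fin.reverseInduction_castSucc ..

theorem mono_filIncl (hex : ∀ i, (ShortComplex.mk (a i) (b i) (hab i)).ShortExact) (i : Fin (r + 1)) :
    Mono (filIncl e a i) := by
  induction i using Fin.reverseInduction with
  | last => rw [filIncl_last]; infer_instance
  | cast i ih =>
    rw [filIncl_castSucc]
    haveI : Mono (a i) := (hex i).mono_f
    exact mono_comp _ _

variable (hex : ∀ i, (ShortComplex.mk (a i) (b i) (hab i)).ShortExact) (hL : ∀ i, PicF.IsInvertible (L i))

include hex in
theorem exists_step (i : Fin r) :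
    ∃ (l : L i ⟶ cokernel (filIncl e a i.castSucc)) (g : cokernel (filIncl e a i.castSucc) ⟶ cokernel (filIncl e a i.succ))
      (h : l ≫ g = 0), (ShortComplex.mk l g h).ShortExact := by
  haveI := mono_filIncl e a hex i.succ
  rw [filIncl_castSucc]
  exact exists_cokernel_sequence (a i) (b i) (hab i) (hex i) _

include hex hL in
theorem rank_quot : ∀ (d : ℕ) (i : Fin (r + 1)), (i : ℕ) + d = r →
    FlatMod.IsFinLocFreeOfRank d (cokernel (filIncl e a i))
  | 0, i, h => by
    obtain rfl : i = Fin.last r := Fin.ext (by simpa using h)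
    refine isFinLocFreeOfRank_zero_of_isZero ?_
    haveI : Epi (filIncl e a (Fin.last r)) := by rw [filIncl_last]; infer_instance
    exact isZero_cokernel_of_epi _
  | d + 1, i, h => by
    obtain ⟨j, rfl⟩ : ∃ j : Fin r, j.castSucc = i := ⟨⟨i, by omega⟩, rfl⟩
    obtain ⟨l, g, hg, hse⟩ := exists_step e a hex j
    rw [Fin.val_castSucc] at h
    have := isFinLocFreeOfRank_extension hse (InvEnd.isFinLocFreeOfRank_one (hL j))
      (rank_quot d j.succ (by rw [Fin.val_succ]; omega))
    rwa [add_comm 1 d] at this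

include e hex hL in
/-- Chern caps of a filtered module. -/
theorem capR_filtered (h0 : IsZero (M 0)) {δ : X → ℤ} (hX : Cyc.IsSetup X δ) {k : ℤ} {α : AlgebraicCycle X ℤ}
    (hα : α ∈ Cyc.Zk X δ k) {γ : Fin (r + 1) → AlgebraicCycle X ℤ} (hγ : IsCapR E r δ k α γ)
    (t : (i : Fin r) → (ξ : X) → Cyc.secFibre (L i) ξ) (ht : ∀ i ξ, t i ξ ≠ 0)
    (κ : Finset (Fin r) → AlgebraicCycle X ℤ) (hκ0 : κ ∅ = α)
    (hκ : ∀ (I : Finset (Fin r)) (i : Fin r), (∀ i' ∈ I, i' < i) →
      ⇑(κ (insert i I)) = Cyc.c1CapFun δ (L i) ⇑(κ I) (t i)) (n : Fin (r + 1)) :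
    γ n - ∑ I ∈ Finset.powersetCard n Finset.univ, κ I ∈ ratSub hX (k - ((n : ℕ) : ℤ)) := by
  classical
  haveI := hX.1
  have hκ1 : ∀ (I : Finset (Fin r)) (i : Fin r), (∀ i' ∈ I, i' < i) →
      κ (insert i I) = cap1 (hL i) hX.2.2 (t i) (ht i) (κ I) := fun I i h =>
    DFunLike.coe_injective (by rw [coe_cap1]; exact hκ I i h)
  have hmem : ∀ I : Finset (Fin r), κ I ∈ Cyc.Zk X δ (k - (I.card : ℤ)) := by
    intro I
    induction I using Finset.induction_on_max with
    | empty => simpa [hκ0] using hα
    | insert i I hi ih =>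
      rw [hκ1 I i hi, Finset.card_insert_of_notMem fun h => lt_irrefl i (hi i h), Nat.cast_succ, ← sub_sub]
      exact cap1_mem (hL i) hX.2.2 (t i) (ht i) ih
  let A : ℕ → Finset (Fin r) := fun i => Finset.univ.filter fun x : Fin r => i ≤ (x : ℕ)
  have main : ∀ (d : ℕ) (i : Fin (r + 1)), (i : ℕ) + d = r → ∀ (I : Finset (Fin r)),
      (∀ x ∈ I, (x : ℕ) < i) → ∀ γ : Fin (d + 1) → AlgebraicCycle X ℤ,
      IsCapR (cokernel (filIncl e a i)) d δ (k - (I.card : ℤ)) (κ I) γ → ∀ m : Fin (d + 1),
      γ m - ∑ J ∈ Finset.powersetCard m (A i), κ (I ∪ J) ∈ ratSub hX (k - (I.card : ℤ) - ((m : ℕ) : ℤ)) := by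
    intro d
    induction d with
    | zero =>
      intro i h I _ γ hγ m
      obtain rfl : m = 0 := Fin.ext (Nat.lt_one_iff.1 m.2)
      simp [hγ.zero (rank_quot e a hex hL 0 i h) hX]
    | succ d ih =>
      intro i h I hI γ hγ m
      obtain ⟨j, rfl⟩ : ∃ j : Fin r, j.castSucc = i := ⟨⟨i, by omega⟩, rfl⟩
      rw [Fin.val_castSucc] at h hI ⊢
      have hj : ((j.succ : Fin (r + 1)) : ℕ) + d = r := by rw [Fin.val_succ]; omega
      have hrk := rank_quot e a hex hL d j.succ hj
      have hrk' := rank_quot e a hex hL (d + 1) j.castSucc (by rw [Fin.val_castSucc]; omega)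
      have hjI : j ∉ I := fun hh => lt_irrefl _ (hI j hh)
      induction m using Fin.cases with
      | zero => simp [hγ.zero hrk' hX]
      | succ l =>
        obtain ⟨f, g, hg, hse⟩ := exists_step e a hex j
        obtain ⟨γ', hγ'⟩ := IsCapR.exists' hrk hX (hmem I)
        have hγ'' : IsCapR (cokernel (filIncl e a j.succ)) d δ (k - ((insert j I).card : ℤ)) (κ (insert j I))
            (fun x => cap1 (hL j) hX.2.2 (t j) (ht j) (γ' x)) := by
          rw [hκ1 I j fun x hx => hI x hx, Finset.card_insert_of_notMem hjI, Nat.cast_succ, ← sub_sub]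
          exact hγ'.cap1 hrk hX (hL j) (t j) (ht j)
        have h1 := IsCapR.extend hX hrk' hrk (hL j) f g hg hse (t j) (ht j) hγ hγ' l.succ
        have h2 := ih j.succ hj I (fun x hx => by rw [Fin.val_succ]; exact (hI x hx).trans (Nat.lt_succ_self _)) γ' hγ'
        have h3 := ih j.succ hj (insert j I) (fun x hx => by
          rw [Fin.val_succ]
          rcases Finset.mem_insert.1 hx with rfl | hx
          · exact Nat.lt_succ_self _
          · exact (hI x hx).trans (Nat.lt_succ_self _)) _ hγ'' l
        have hA : A (j : ℕ) = insert j (A ((j.succ : Fin (r + 1)) : ℕ)) := by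
          ext x
          simp only [A, Finset.mem_insert, Finset.mem_filter, Finset.mem_univ, true_and, Fin.val_succ, Fin.ext_iff]
          omega
        have hjA : j ∉ A ((j.succ : Fin (r + 1)) : ℕ) := by simp [A]
        have hcard : (A ((j.succ : Fin (r + 1)) : ℕ)).card = d := by
          have hIoi : A ((j.succ : Fin (r + 1)) : ℕ) = Finset.Ioi j := by
            ext x
            simp only [A, Finset.mem_filter, Finset.mem_univ, true_and, Finset.mem_Ioi, Fin.val_succ, Fin.lt_def]
            omega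
          rw [hIoi, Fin.card_Ioi]
          omega
        rw [Finset.card_insert_of_notMem hjI, Nat.cast_succ,
          show k - ((I.card : ℤ) + 1) - ((l : ℕ) : ℤ) = k - (I.card : ℤ) - (((l : ℕ) + 1 : ℕ) : ℤ) by
            push_cast; ring] at h3
        rw [Fin.val_succ] at h1
        have h4 : Fin.snoc (α := fun _ => AlgebraicCycle X ℤ) γ' 0 l.succ -
            ∑ J ∈ Finset.powersetCard ((l : ℕ) + 1) (A ((j.succ : Fin (r + 1)) : ℕ)), κ (I ∪ J) ∈
              ratSub hX (k - (I.card : ℤ) - (((l : ℕ) + 1 : ℕ) : ℤ)) := by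
          by_cases hl : (l : ℕ) + 1 < d + 1
          · rw [show l.succ = Fin.castSucc (⟨(l : ℕ) + 1, hl⟩ : Fin (d + 1)) from Fin.ext rfl, Fin.snoc_castSucc]
            exact h2 ⟨(l : ℕ) + 1, hl⟩
          · have hl' : l.succ = Fin.last (d + 1) := Fin.ext (by
              have := l.2
              simp only [Fin.val_succ, Fin.val_last]
              omega)
            rw [hl', Fin.snoc_last, Finset.powersetCard_eq_empty.2 (by omega), Finset.sum_empty, sub_zero]
            exact zero_mem _
        have hsum : ∑ J ∈ Finset.powersetCard ((l : ℕ) + 1) (A (j : ℕ)), κ (I ∪ J) =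
            ∑ J ∈ Finset.powersetCard ((l : ℕ) + 1) (A ((j.succ : Fin (r + 1)) : ℕ)), κ (I ∪ J) +
              ∑ J ∈ Finset.powersetCard (l : ℕ) (A ((j.succ : Fin (r + 1)) : ℕ)), κ (insert j I ∪ J) := by
          have hnot : ∀ {m : ℕ} {J : Finset (Fin r)},
              J ∈ Finset.powersetCard m (A ((j.succ : Fin (r + 1)) : ℕ)) → j ∉ J :=
            fun hJ hjJ => hjA ((Finset.mem_powersetCard.1 hJ).1 hjJ)
          rw [hA, Finset.powersetCard_succ_insert hjA, Finset.sum_union (Finset.disjoint_left.2 fun J hJ hJ' => by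
              obtain ⟨J', -, rfl⟩ := Finset.mem_image.1 hJ'
              exact hnot hJ (Finset.mem_insert_self _ _)),
            Finset.sum_image fun J hJ J' hJ' hJJ => by
              rw [← Finset.erase_insert (hnot hJ), hJJ, Finset.erase_insert (hnot hJ')]]
          congr 1
          refine Finset.sum_congr rfl fun J _ => ?_
          rw [Finset.union_insert, Finset.insert_union]
        rw [Fin.val_succ, hsum, ← sub_add_sub_cancel (γ l.succ) (Fin.snoc (α := fun _ => AlgebraicCycle X ℤ) γ' 0 l.succ +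
          Fin.cons (α := fun _ => AlgebraicCycle X ℤ) 0 (fun x => cap1 (hL j) hX.2.2 (t j) (ht j) (γ' x)) l.succ)]
        refine add_mem h1 ?_
        rw [Fin.cons_succ, add_sub_add_comm]
        exact add_mem h4 h3
  obtain ⟨ε, hε⟩ : ∃ ε : E ≅ cokernel (filIncl e a 0), ε.hom = cokernel.π (filIncl e a 0) := by
    haveI : IsIso (cokernel.π (filIncl e a 0)) := by
      rw [show filIncl e a 0 = 0 from h0.eq_of_src _ _]
      infer_instance
    exact ⟨asIso (cokernel.π (filIncl e a 0)), rfl⟩
  have hrk0 := rank_quot e a hex hL r 0 (by simp)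
  have hrkE : FlatMod.IsFinLocFreeOfRank r E := (ConsPropLib.isFinLocFreeOfRank_iso ε.symm).1 hrk0
  have hγ0 : IsCapR (cokernel (filIncl e a 0)) r δ (k - ((∅ : Finset (Fin r)).card : ℤ)) (κ ∅) γ := by
    rw [hκ0, Finset.card_empty, Nat.cast_zero, sub_zero]
    intro P π O1 q hP δP hδP
    haveI : IsIso ε.hom := inferInstance
    exact hγ P π O1 ((Scheme.Modules.pullback π).map ε.hom ≫ q)
      (GrassSch.isGrass_of_iso (Grass.IsGrass.of_isProjBundle hP) ε).isProjBundle δP hδP
  have h := main r 0 (by simp) ∅ (by simp) γ hγ0 n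
  have hA0 : A 0 = Finset.univ := Finset.filter_true_of_mem fun x _ => Nat.zero_le _
  simpa [hA0] using h

end Filtered

end Groth.Agent.H9PB
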