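import Groth.Agent.H9PB.GrassModel
import Groth.Agent.H9PB.Cap
import Groth.Agent.GrassSch.Bundle

/-! The standard charts of a projective bundle given by its universal property. -/

set_option autoImplicit false
set_option linter.style.haveILetI false
set_option linter.unusedSectionVars false
set_option backward.isDefEq.respectTransparency false
set_option backward.isDefEq.respectTransparency.types false
set_option maxHeartbeats 1000000

universe u

open CategoryTheory CategoryTheory.Limits AlgebraicGeometry TopologicalSpace Opposite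

attribute [-instance] CategoryTheory.catToReflQuiver

noncomputable section

namespace Groth.Agent.H9PB

open Groth.Agent Groth.Agent.QuotRep

variable {X P : Scheme.{u}} {p : P ⟶ X} {O1 : P.Modules} {n : ℕ} {U : X.Opens}

/-- Coordinates from an identification with the model. -/
theorem nonempty_frame_of_model (hU : IsAffineOpen U) {M : Type u} [AddCommGroup M] [Module Γ(X, U) M]
    (b : Module.Basis (Fin (n + 1)) Γ(X, U) M) (D : GrPlucker.Rep (Γ(X, U) : Type u) M 1) (ι : D.X.left ⟶ P)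
    [IsOpenImmersion ι] (hι : ι ≫ p = D.X.hom ≫ hU.fromSpec) (hrange : ι.opensRange = p ⁻¹ᵁ U)
    (θ : Gr.Q b D ≅ O1.restrict ι) : Nonempty (Frame p O1 n U) := by
  have hle : p ⁻¹ᵁ U ≤ ι ''ᵁ ⊤ := by rw [Scheme.Hom.image_top_eq_opensRange, hrange]
  let s : Fin (n + 1) → Γ(O1, ι ''ᵁ ⊤) := fun l => θ.hom.app ⊤ (Gr.sig b D l)
  let σ : Fin (n + 1) → Γ(O1, p ⁻¹ᵁ U) := fun l => AModX.res O1 hle (s l)
  let e := fun i => Model.chart b D i ≫ ι
  let V := fun i => (Model.chart b D i).opensRange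
  have hWU : ∀ i, ι ''ᵁ V i ≤ p ⁻¹ᵁ U := fun i => hrange ▸ ι.image_le_opensRange (V i)
  have hmemW : ∀ i z, e i z ∈ ι ''ᵁ V i := fun i z => ⟨Model.chart b D i z, ⟨z, rfl⟩, rfl⟩
  have hσ : ∀ i l, AModX.res O1 (hWU i) (σ l) = AModX.res O1 (ι.image_mono (le_top : V i ≤ ⊤)) (s l) := fun i l => by
    rw [AModX.res_res]
  refine ⟨{ affine := hU
            σ := σ
            emb := e
            openImm := fun i => inferInstance
            emb_comp := fun i => by
              show (Model.chart b D i ≫ ι) ≫ p = _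
              rw [Category.assoc, hι, ← Category.assoc, Model.chart_comp]
            cover := fun x hx => ?_
            mem_range_iff := fun i l z => ?_
            gen := ?_
            coord := ?_ }⟩
  · obtain ⟨w, rfl⟩ : x ∈ ι.opensRange := hrange ▸ hx
    obtain ⟨i, z, rfl⟩ := Model.exists_mem_range b D w
    exact ⟨i, z, rfl⟩
  · refine Iff.trans ?_ (Model.chart_mem_range_iff b D i l z)
    exact ⟨fun ⟨w, hw⟩ => ⟨w, ι.isOpenEmbedding.injective hw⟩, fun ⟨w, hw⟩ => ⟨w, congrArg ι hw⟩⟩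
  · intro i z h
    obtain ⟨c, he, hf, -, -⟩ := Model.exists_coord b D i i
    have h1 := hf.map_iso θ
    rw [AModX.app_res] at h1
    have h2 := (AmpleX.isFrame_restrict_iff ι _).1 h1
    have h3 : InvX.IsFrame (AModX.res O1 (hWU i) (σ i)) := by
      rw [hσ]
      exact h2
    have h4 := (H23.RatSec.isGen_germ h3 _ (hmemW i z)).1
    rw [show (O1.presheaf.germ _ _ (hmemW i z)).hom (AModX.res O1 (hWU i) (σ i)) =
      (O1.presheaf.germ (p ⁻¹ᵁ U) _ h).hom (σ i) from
      O1.presheaf.germ_res_apply (homOfLE (hWU i)) _ (hmemW i z) (σ i)] at h4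
    exact h4
  · intro i l z h
    obtain ⟨c, he, hf, heq, hc⟩ := Model.exists_coord b D i l
    let W := ι ''ᵁ V i
    have h1 := congrArg (θ.hom.app (V i)) heq
    rw [Scheme.Modules.Hom.app_smul, AModX.app_res, AModX.app_res] at h1
    have h2 : AModX.res O1 (ι.image_mono (le_top : V i ≤ ⊤)) (s l) =
        (ι.appIso (V i)).inv c • AModX.res O1 (ι.image_mono (le_top : V i ≤ ⊤)) (s i) := h1
    rw [← hσ, ← hσ] at h2
    refine ⟨(P.presheaf.germ W (e i z) (hmemW i z)).hom ((ι.appIso (V i)).inv c), ?_, ?_⟩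
    · have e1 : V i ≤ ι ⁻¹ᵁ W := (ι.preimage_image_eq (V i)).ge
      have e2 : (⊤ : (ChS X U i).Opens) ≤ e i ⁻¹ᵁ W := fun w _ => hmemW i w
      have h5 : ((e i).appLE W ⊤ e2).hom ((ι.appIso (V i)).inv c) =
          (Scheme.ΓSpecIso (CommRingCat.of (Ch Γ(X, U) i))).inv.hom (y i l) := by
        have key : (e i).appLE W ⊤ e2 = ι.appLE W (V i) e1 ≫ (Model.chart b D i).appLE (V i) ⊤ he := by
          rw [Scheme.Hom.appLE_comp_appLE]
        rw [key, CommRingCat.hom_comp, RingHom.comp_apply]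
        refine (congrArg ((Model.chart b D i).appLE (V i) ⊤ he).hom ?_).trans hc
        refine Eq.trans ?_ (Iso.inv_hom_id_apply (ι.appIso (V i)) c)
        exact (congrArg (fun f => f.hom ((ι.appIso (V i)).inv c)) (ι.appIso_hom' (V i))).symm
      rw [Scheme.Hom.germ_stalkMap_apply]
      have h6 := congrArg ((ChS X U i).presheaf.germ ⊤ z trivial).hom h5
      rw [Scheme.Hom.appLE, CommRingCat.hom_comp, RingHom.comp_apply] at h6
      refine Eq.trans ?_ h6
      exact (TopCat.Presheaf.germ_res_apply _ _ _ _ _).symm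
    · have h7 := congrArg (O1.presheaf.germ W _ (hmemW i z)).hom h2
      erw [QCoh.germ_smul' O1 (hmemW i z)] at h7
      rw [show (O1.presheaf.germ W _ (hmemW i z)).hom (AModX.res O1 (hWU i) (σ l)) = _ from
          O1.presheaf.germ_res_apply (homOfLE (hWU i)) _ (hmemW i z) (σ l),
        show (O1.presheaf.germ W _ (hmemW i z)).hom (AModX.res O1 (hWU i) (σ i)) = _ from
          O1.presheaf.germ_res_apply (homOfLE (hWU i)) _ (hmemW i z) (σ i)] at h7
      exact h7

/-- A scheme isomorphic to a projective bundle has standard charts. -/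
theorem charted_of_iso {E : X.Modules} {q : (Scheme.Modules.pullback p).obj E ⟶ O1}
    (hP : KRR.IsProjBundle p E O1 q) (hE : FlatMod.IsFinLocFreeOfRank (n + 1) E) {P' : Scheme.{u}} (ε' : P' ⟶ P)
    [IsIso ε'] {O1' : P'.Modules} (θ' : (Scheme.Modules.pullback ε').obj O1 ≅ O1') :
    Charted (ε' ≫ p) O1' n := by
  intro η
  obtain ⟨W, hη, ⟨e⟩⟩ := hE η
  obtain ⟨V, hV, hηV, hle⟩ := exists_isAffineOpen_mem_and_subset hη
  let j := hV.fromSpec
  let ε : FlatMod.freeMod (Spec Γ(X, V)) (n + 1) ≅ (Scheme.Modules.pullback j).obj E :=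
    (QCoh.freeChart hV hle e).symm ≪≫ (Scheme.Modules.restrictFunctorIsoPullback j).app E
  obtain ⟨q', hG⟩ := GrassSch.isGrass_baseChange (Grass.IsGrass.of_isProjBundle hP) j
  have hG' := GrassSch.isGrass_of_iso hG ε
  obtain ⟨X', e', he'⟩ := GrassRep.exists_grass (R := Γ(X, V)) (M := Fin (n + 1) → Γ(X, V)) 1
  let D : GrPlucker.Rep (Γ(X, V) : Type u) (Fin (n + 1) → Γ(X, V)) 1 := ⟨X', e', he'⟩
  let b := Pi.basisFun Γ(X, V) (Fin (n + 1))
  obtain ⟨qD, hD⟩ := GrassSch.exists_q_isGrass (S := Spec Γ(X, V)) D.X.hom (Gr.sig b D) Gr.isFinLocFreeOfRank_Q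
    (Gr.epi_secHom_sig b D) fun T s L hL v hv => by haveI := hv; exact Gr.existsUnique_cls (b := b) (D := D) hL v s
  haveI := hG'.epi
  obtain ⟨h, hh, -⟩ := GrassSch.existsUnique_class hD hG'.rank
    ((Scheme.Modules.pullback (pullback.snd p j)).map ε.hom ≫ q')
  haveI := GrassSch.isIso_of_isClass hG' hD hh
  obtain ⟨hcomp, φ, -⟩ := hh
  let a := pullback.fst p j
  let ι₀ : D.X.left ⟶ P := inv h ≫ a
  let ι : D.X.left ⟶ P' := ι₀ ≫ inv ε'
  have hfac : ι ≫ ε' = ι₀ := by rw [Category.assoc, IsIso.inv_hom_id, Category.comp_id]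
  have hι : ι ≫ ε' ≫ p = D.X.hom ≫ j := by
    rw [← Category.assoc, hfac, Category.assoc, pullback.condition, ← hcomp, Category.assoc, IsIso.inv_hom_id_assoc]
  have hrange : ι.opensRange = (ε' ≫ p) ⁻¹ᵁ V := by
    ext x
    show x ∈ Set.range ι ↔ p (ε' x) ∈ V
    have hr0 : ∀ y, y ∈ Set.range ι₀ ↔ p y ∈ V := fun y => by
      rw [show Set.range ι₀ = Set.range a from
        Set.ext fun y => ⟨fun ⟨w, hw⟩ => ⟨(inv h) w, hw⟩, fun ⟨w, hw⟩ => ⟨h w, by
          rw [← Scheme.Hom.comp_apply, IsIso.hom_inv_id_assoc]; exact hw⟩⟩,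
        Scheme.Pullback.range_fst, hV.range_fromSpec]
      rfl
    rw [← hr0]
    exact ⟨fun ⟨w, hw⟩ => ⟨w, by rw [← hfac, Scheme.Hom.comp_apply, hw]⟩, fun ⟨w, hw⟩ =>
      ⟨w, ε'.isOpenEmbedding.injective (by rw [← Scheme.Hom.comp_apply, hfac, hw])⟩⟩
  let θ₀ : Gr.Q b D ≅ (Scheme.Modules.pullback ι₀).obj O1 :=
    ((Scheme.Modules.pullbackId _).app (Gr.Q b D)).symm ≪≫
      (Scheme.Modules.pullbackCongr (IsIso.inv_hom_id h).symm).app (Gr.Q b D) ≪≫
      ((Scheme.Modules.pullbackComp (inv h) h).app (Gr.Q b D)).symm ≪≫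
      (Scheme.Modules.pullback (inv h)).mapIso φ ≪≫ (Scheme.Modules.pullbackComp (inv h) a).app O1
  let θ : Gr.Q b D ≅ O1'.restrict ι :=
    θ₀ ≪≫ (Scheme.Modules.pullbackCongr hfac.symm).app O1 ≪≫
      ((Scheme.Modules.pullbackComp ι ε').app O1).symm ≪≫ (Scheme.Modules.pullback ι).mapIso θ' ≪≫
      ((Scheme.Modules.restrictFunctorIsoPullback ι).app O1').symm
  exact ⟨V, hηV, nonempty_frame_of_model hV b D ι hι hrange θ⟩

/-- A projective bundle of a locally free module of rank `n + 1` has standard charts everywhere. -/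
theorem charted_of_isProjBundle {E : X.Modules} {q : (Scheme.Modules.pullback p).obj E ⟶ O1}
    (hP : KRR.IsProjBundle p E O1 q) (hE : FlatMod.IsFinLocFreeOfRank (n + 1) E) : Charted p O1 n := by
  have h := charted_of_iso hP hE (𝟙 P) ((Scheme.Modules.pullbackId P).app O1)
  rwa [Category.id_comp] at h

/-- The base change of a projective bundle has standard charts. -/
theorem charted_of_isPullback {E : X.Modules} {q : (Scheme.Modules.pullback p).obj E ⟶ O1}
    (hP : KRR.IsProjBundle p E O1 q) (hE : FlatMod.IsFinLocFreeOfRank (n + 1) E) {X' P' : Scheme.{u}} {f : X' ⟶ X}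
    {p' : P' ⟶ X'} {f' : P' ⟶ P} (hsq : IsPullback f' p' p f) :
    Charted p' ((Scheme.Modules.pullback f').obj O1) n := by
  obtain ⟨q', hG⟩ := GrassSch.isGrass_baseChange (Grass.IsGrass.of_isProjBundle hP) f
  have h := charted_of_iso hG.isProjBundle (KRRReg.isFinLocFreeOfRank_pullback f hE) hsq.isoPullback.hom
    ((Scheme.Modules.pullbackComp hsq.isoPullback.hom (pullback.fst p f)).app O1 ≪≫
      (Scheme.Modules.pullbackCongr hsq.isoPullback_hom_fst).app O1)
  rwa [hsq.isoPullback_hom_snd] at h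

end Groth.Agent.H9PB

end
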