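import Groth.Agent.H9PB.ChernGysin
import Groth.Agent.H9PB.GrassFrame
import Groth.Agent.GrassSch.Tower
import Groth.Agent.QuotRep.Frame
import Groth.Agent.H23.C1Class
import Groth.Agent.H23.SetupLFT
import Groth.Agent.ConsPropLib.FibreLocFreeRank

/-! Chern classes of a vector bundle as operational classes. -/

set_option autoImplicit false
set_option linter.style.haveILetI false
set_option linter.unusedSectionVars false
set_option backward.isDefEq.respectTransparency false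
set_option backward.isDefEq.respectTransparency.types false
set_option maxHeartbeats 800000

universe u

open AlgebraicGeometry CategoryTheory CategoryTheory.Limits TopologicalSpace

namespace Groth.Agent.H9PB

open Groth.Agent

section Bundle

variable {X X' P P' : Scheme.{u}} {p : P ⟶ X} {p' : P' ⟶ X'} {E : X.Modules} {E' : X'.Modules} {O1 : P.Modules}
  {O1' : P'.Modules} {q : (Scheme.Modules.pullback p).obj E ⟶ O1} {q' : (Scheme.Modules.pullback p').obj E' ⟶ O1'}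

theorem isProper_of_isProjBundle (hP : KRR.IsProjBundle p E O1 q) {n : ℕ}
    (hE : FlatMod.IsFinLocFreeOfRank (n + 1) E) : IsProper p :=
  (GrassSch.geometry (Grass.IsGrass.of_isProjBundle hP) hE (by omega)).2.1

theorem exists_bundle {n : ℕ} (hE : FlatMod.IsFinLocFreeOfRank n E) :
    ∃ (P : Scheme.{u}) (p : P ⟶ X) (O1 : P.Modules) (q : (Scheme.Modules.pullback p).obj E ⟶ O1),
      KRR.IsProjBundle p E O1 q := by
  obtain ⟨P, p, O1, q, h⟩ := GrassSch.exists_isGrass (GrassSch.qcoh_ft hE).1 (GrassSch.qcoh_ft hE).2 1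
  exact ⟨P, p, O1, q, h.isProjBundle⟩

/-- A bundle of a pulled back module is the base change of the bundle. -/
theorem exists_square (hP : KRR.IsProjBundle p E O1 q) (hP' : KRR.IsProjBundle p' E' O1' q') (g : X' ⟶ X)
    (ε : (Scheme.Modules.pullback g).obj E ≅ E') :
    ∃ f' : P' ⟶ P, IsPullback f' p' p g ∧ Nonempty ((Scheme.Modules.pullback f').obj O1 ≅ O1') := by
  obtain ⟨q₁, h₁⟩ := GrassSch.isGrass_baseChange (Grass.IsGrass.of_isProjBundle hP) g
  have h₂ := GrassSch.isGrass_of_iso h₁ ε.symm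
  have hG' := Grass.IsGrass.of_isProjBundle hP'
  haveI := hP'.epi
  obtain ⟨φ, hφ, -⟩ := GrassSch.existsUnique_class h₂ hP'.invertible q'
  haveI := GrassSch.isIso_of_isClass hG' h₂ hφ
  obtain ⟨hg, e, -⟩ := (GrassSch.isClass_iff _ _).1 hφ
  refine ⟨φ ≫ pullback.fst p g, ?_, ⟨((Scheme.Modules.pullbackComp φ (pullback.fst p g)).app O1).symm ≪≫ e⟩⟩
  exact IsPullback.of_iso_pullback ⟨by rw [Category.assoc, pullback.condition, ← hg, Category.assoc]⟩ (asIso φ)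
    rfl hg

end Bundle

theorem map_id {X : Scheme.{u}} (δ : X → ℤ) (a : AlgebraicCycle X ℤ) : AlgebraicCycle.map (𝟙 X) δ δ a = a :=
  DFunLike.coe_injective (funext fun x => CycLib.map_preimmersion_apply (𝟙 X) δ a x)

section Iso

variable {P : Scheme.{u}} {L L' : P.Modules} (e : L ≅ L') {δP : P → ℤ}

theorem c1PowFun_iso (hP : Cyc.IsSetup P δP) (hL : PicF.IsInvertible L) (hL' : PicF.IsInvertible L')
    (t : ℕ → (ξ : P) → Cyc.secFibre L ξ) (ht : ∀ m ξ, t m ξ ≠ 0) (i : ℕ) (α : AlgebraicCycle P ℤ) :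
    Cyc.c1PowFun δP L' (fun m ξ => H23.RatSec.mapSec e ξ (t m ξ)) i ⇑α = Cyc.c1PowFun δP L t i ⇑α := by
  haveI := hP.1
  induction i with
  | zero => rfl
  | succ i ih =>
    show Cyc.c1CapFun δP L' (Cyc.c1PowFun δP L' _ i ⇑α) (fun ξ => H23.RatSec.mapSec e ξ (t i ξ)) =
      Cyc.c1CapFun δP L (Cyc.c1PowFun δP L t i ⇑α) (t i)
    rw [ih, H23.RatSec.c1CapFun_mapSec e hL hL' hP.2.2 _ (ht i)]


include e in
theorem isChernCap_of_iso {X : Scheme.{u}} {p : P ⟶ X} [IsProper p] {δ : X → ℤ} {n : ℕ} (hfr : Charted p L n)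
    (hfr' : Charted p L' n) (hX : Cyc.IsSetup X δ) (hP : Cyc.IsSetup P δP) (hδ : Cyc.DeltaCompat p δP δ)
    (hL : PicF.IsInvertible L) (hL' : PicF.IsInvertible L') {k : ℤ} {α : AlgebraicCycle X ℤ}
    {γ : Fin (n + 1 + 1) → AlgebraicCycle X ℤ} (h : Cyc.IsChernCap p δ δP L (n + 1) k α γ) :
    Cyc.IsChernCap p δ δP L' (n + 1) k α γ := by
  refine ⟨h.1, h.2.1, fun t ht β hβ => ?_⟩
  refine h.2.2 (fun m ξ => H23.RatSec.mapSec e.symm ξ (t m ξ))
    (fun m => H23.RatSec.mapSec_ne_zero e.symm (ht m)) β fun y => (hβ y).trans (Finset.sum_congr rfl fun i _ => ?_)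
  have hn : ((n + 1 : ℕ) : ℤ) - 1 = n := by push_cast; ring
  haveI := hfr.flat
  rw [hn, show Cyc.pullFun p δP δ (n : ℤ) ⇑(γ (Fin.rev i)) = ⇑(hfr.pullAdd hX hP hδ (γ (Fin.rev i))) from
    (hfr.coe_pullAdd hX hP hδ _).symm, c1PowFun_iso e.symm hP hL' hL t ht]

end Iso

section Functorial

variable {X Y P P' : Scheme.{u}} {p' : P' ⟶ X} {p : P ⟶ Y} {E : Y.Modules} {E' : X.Modules} {O1 : P.Modules}
  {O1' : P'.Modules} {q : (Scheme.Modules.pullback p).obj E ⟶ O1} {q' : (Scheme.Modules.pullback p').obj E' ⟶ O1'}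
  {n : ℕ} (hE : FlatMod.IsFinLocFreeOfRank (n + 1) E) (hP : KRR.IsProjBundle p E O1 q)
  (hP' : KRR.IsProjBundle p' E' O1' q') {δX : X → ℤ} {δY : Y → ℤ} {δP : P → ℤ} {δP' : P' → ℤ}
  (hX : Cyc.IsSetup X δX) (hY : Cyc.IsSetup Y δY) (hπ : Cyc.DeltaCompat p δP δY) (hπ' : Cyc.DeltaCompat p' δP' δX)
  (f : X ⟶ Y) (ε : (Scheme.Modules.pullback f).obj E ≅ E') (hf : Cyc.DeltaCompat f δX δY)

include hE hP hP' hX hY hπ hπ' ε hf

/-- Push-forward of a Chern cap. -/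
theorem isChernCap_push [IsProper f] {k : ℤ} {α : AlgebraicCycle X ℤ} {γ : Fin (n + 1 + 1) → AlgebraicCycle X ℤ}
    (h : Cyc.IsChernCap p' δX δP' O1' (n + 1) k α γ) :
    Cyc.IsChernCap p δY δP O1 (n + 1) k (AlgebraicCycle.map f δX δY α)
      (fun j => AlgebraicCycle.map f δX δY (γ j)) := by
  haveI := isProper_of_isProjBundle hP hE
  obtain ⟨f', hsq, ⟨e⟩⟩ := exists_square hP hP' f ε
  haveI : IsProper p' := MorphismProperty.of_isPullback hsq ‹_›
  have hPs := H23.SetupLFT.isSetup p hY hπ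
  have hPs' := H23.SetupLFT.isSetup p' hX hπ'
  have hfr := charted_of_isProjBundle hP hE
  have hfr' := charted_of_isPullback hP hE hsq
  have hfr'' := charted_of_isProjBundle hP'
    ((ConsPropLib.isFinLocFreeOfRank_iso ε).1 (KRRReg.isFinLocFreeOfRank_pullback f hE))
  have hL := Model.isInvertible_of_rank hP.invertible
  have h' := isChernCap_of_iso e.symm hfr'' hfr' hX hPs' hπ' (Model.isInvertible_of_rank hP'.invertible)
    (PicClLib.isInvertible_pullback f' hL) h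
  have hc := (hfr'.isCap_iff (PicClLib.isInvertible_pullback f' hL) hX hPs' hπ').1 h'
  refine (hfr.isCap_iff hL hY hPs hπ).2 ⟨?_, fun j => Bivar.cycMap_mem_Zk f δX δY _ (hc.mem j),
    hfr.pushAdd_rel hfr' hL hX hY hPs hPs' hπ hπ' hf hsq hc.mem hc.rel⟩
  show AlgebraicCycle.map f δX δY (γ 0) = _
  rw [hc.zero]

/-- Flat pull-back of a Chern cap. -/
theorem isChernCap_pull [Flat f] [LocallyOfFiniteType f] {c : ℕ} (hrel : Cyc.HasRelDim f c) {k : ℤ}
    {α : AlgebraicCycle Y ℤ} {γ : Fin (n + 1 + 1) → AlgebraicCycle Y ℤ}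
    (h : Cyc.IsChernCap p δY δP O1 (n + 1) k α γ) :
    haveI := hX.1
    haveI := hY.1
    Cyc.IsChernCap p' δX δP' O1' (n + 1) (k + c)
      (flatAdd f (H23.FlatShift.hasShift_of_hasRelDim f hrel hf) hX.2.2 α)
      (fun j => flatAdd f (H23.FlatShift.hasShift_of_hasRelDim f hrel hf) hX.2.2 (γ j)) := by
  haveI := hX.1
  haveI := hY.1
  haveI := isProper_of_isProjBundle hP hE
  obtain ⟨f', hsq, ⟨e⟩⟩ := exists_square hP hP' f ε
  haveI : IsProper p' := MorphismProperty.of_isPullback hsq ‹_›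
  have hPs := H23.SetupLFT.isSetup p hY hπ
  have hPs' := H23.SetupLFT.isSetup p' hX hπ'
  have hfr := charted_of_isProjBundle hP hE
  have hfr' := charted_of_isPullback hP hE hsq
  have hfr'' := charted_of_isProjBundle hP'
    ((ConsPropLib.isFinLocFreeOfRank_iso ε).1 (KRRReg.isFinLocFreeOfRank_pullback f hE))
  have hL := Model.isInvertible_of_rank hP.invertible
  have hc := (hfr.isCap_iff hL hY hPs hπ).1 h
  refine isChernCap_of_iso e hfr' hfr'' hX hPs' hπ' (PicClLib.isInvertible_pullback f' hL)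
    (Model.isInvertible_of_rank hP'.invertible)
    ((hfr'.isCap_iff (PicClLib.isInvertible_pullback f' hL) hX hPs' hπ').2 ⟨?_, fun j => ?_,
      hfr.flatAdd_rel hfr' hL hX hY hPs hPs' hπ hπ' hf hsq hrel hc.mem hc.rel⟩)
  · rw [hc.zero]
  · have := flatAdd_mem f (H23.FlatShift.hasShift_of_hasRelDim f hrel hf) hX.2.2 (hc.mem j)
    rwa [show k - ((j : ℕ) : ℤ) + c = k + c - ((j : ℕ) : ℤ) by ring] at this

end Functorial

/-- Gysin map of a Chern cap. -/
theorem isChernCap_gysin {X D P PD : Scheme.{u}} {p : P ⟶ X} {pD : PD ⟶ D} {E : X.Modules} {ED : D.Modules}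
    {O1 : P.Modules} {O1' : PD.Modules} {q : (Scheme.Modules.pullback p).obj E ⟶ O1}
    {q' : (Scheme.Modules.pullback pD).obj ED ⟶ O1'} {n : ℕ} (hE : FlatMod.IsFinLocFreeOfRank (n + 1) E)
    (hP : KRR.IsProjBundle p E O1 q) (hP' : KRR.IsProjBundle pD ED O1' q') {δ : X → ℤ} {δP : P → ℤ} {δPD : PD → ℤ}
    (hX : Cyc.IsSetup X δ) (hπ : Cyc.DeltaCompat p δP δ) {i : D ⟶ X} [IsClosedImmersion i]
    (hπ' : Cyc.DeltaCompat pD δPD (fun d => δ (i d))) (ε : (Scheme.Modules.pullback i).obj E ≅ ED)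
    {L : X.Modules} (hL : PicF.IsInvertible L) {s : L.presheaf.obj (Opposite.op ⊤)} (hZ : Cyc.IsZeroSchemeOf i L s)
    {w : (ξ : X) → Cyc.secFibre L ξ} (hw : ∀ ξ, w ξ ≠ 0) {k : ℤ} {α : AlgebraicCycle X ℤ}
    {γ : Fin (n + 1 + 1) → AlgebraicCycle X ℤ} (h : Cyc.IsChernCap p δ δP O1 (n + 1) k α γ) :
    Cyc.IsChernCap pD (fun d => δ (i d)) δPD O1' (n + 1) (k - 1) (gysAdd hX hL i s hw α)
      (fun j => gysAdd hX hL i s hw (γ j)) := by
  haveI := isProper_of_isProjBundle hP hE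
  obtain ⟨i', hsq, ⟨e⟩⟩ := exists_square hP hP' i ε
  haveI : IsProper pD := MorphismProperty.of_isPullback hsq ‹_›
  haveI : IsClosedImmersion i' := MorphismProperty.of_isPullback hsq.flip ‹_›
  obtain rfl : δPD = fun y => δP (i' y) := H23.ChowDesc.deltaCompat_unique pD hπ' (deltaCompat_base hsq hπ)
  have hPs := H23.SetupLFT.isSetup p hX hπ
  have hD : Cyc.IsSetup D (fun d => δ (i d)) :=
    H23.SetupLFT.isSetup i hX (H23.GysinLib.deltaCompat_closedImmersion i δ)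
  have hPD := H23.SetupLFT.isSetup pD hD hπ'
  have hfr := charted_of_isProjBundle hP hE
  have hfr' := charted_of_isPullback hP hE hsq
  have hfr'' := charted_of_isProjBundle hP'
    ((ConsPropLib.isFinLocFreeOfRank_iso ε).1 (KRRReg.isFinLocFreeOfRank_pullback i hE))
  have hO := Model.isInvertible_of_rank hP.invertible
  have hc := (hfr.isCap_iff hO hX hPs hπ).1 h
  refine isChernCap_of_iso e hfr' hfr'' hD hPD hπ' (PicClLib.isInvertible_pullback i' hO)
    (Model.isInvertible_of_rank hP'.invertible)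
    ((hfr'.isCap_iff (PicClLib.isInvertible_pullback i' hO) hD hPD hπ').2 ⟨?_, fun j => ?_,
      hfr.gysAdd_rel hfr' hO hX hPs hD hPD hπ hπ' hsq hL hZ hw hc.mem hc.rel⟩)
  · rw [hc.zero]
  · have := gysAdd_mem hX hL i s hw (hc.mem j)
    rwa [show k - ((j : ℕ) : ℤ) - 1 = k - 1 - ((j : ℕ) : ℤ) by ring] at this

section Classes

variable {Y : Scheme.{u}} (F : Y.Modules) (n : ℕ) (δ : Y → ℤ)

/-- A tuple represents the Chern caps of a module, on every bundle of the module. -/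
def IsCapOn (k : ℤ) (α : AlgebraicCycle Y ℤ) (γ : Fin (n + 1 + 1) → AlgebraicCycle Y ℤ) : Prop :=
  ∀ (P : Scheme.{u}) (π : P ⟶ Y) (O1 : P.Modules) (q : (Scheme.Modules.pullback π).obj F ⟶ O1),
    KRR.IsProjBundle π F O1 q → ∀ δP : P → ℤ, Cyc.DeltaCompat π δP δ → Cyc.IsChernCap π δ δP O1 (n + 1) k α γ

variable {F n δ} (hF : FlatMod.IsFinLocFreeOfRank (n + 1) F) (hY : Cyc.IsSetup Y δ)

include hF hY in
theorem IsCapOn.exists' {k : ℤ} {α : AlgebraicCycle Y ℤ} (hα : α ∈ Cyc.Zk Y δ k) :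
    ∃ γ, IsCapOn F n δ k α γ := by
  obtain ⟨P₀, π₀, O₀, q₀, hP₀⟩ := exists_bundle hF
  haveI := isProper_of_isProjBundle hP₀ hF
  have hδ₀ := H23.ChowDesc.deltaCompat_rd π₀ δ
  have hPs := H23.SetupLFT.isSetup π₀ hY hδ₀
  have hL := Model.isInvertible_of_rank hP₀.invertible
  have hfr := charted_of_isProjBundle hP₀ hF
  obtain ⟨γ, hγ⟩ := hfr.exists_isCap hL hY hPs hδ₀ hα
  refine ⟨γ, fun P π O1 q hP δP hδP => ?_⟩
  have h := isChernCap_push hF hP hP₀ hY hY hδP hδ₀ (𝟙 Y) ((Scheme.Modules.pullbackId Y).app F)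
    (H23.GysinLib.deltaCompat_closedImmersion (𝟙 Y) δ) ((hfr.isCap_iff hL hY hPs hδ₀).2 hγ)
  simpa [map_id] using h

include hF hY in
theorem IsCapOn.mem {k : ℤ} {α : AlgebraicCycle Y ℤ} {γ : Fin (n + 1 + 1) → AlgebraicCycle Y ℤ}
    (h : IsCapOn F n δ k α γ) (j : Fin (n + 1 + 1)) : γ j ∈ Cyc.Zk Y δ (k - ((j : ℕ) : ℤ)) := by
  obtain ⟨P₀, π₀, O₀, q₀, hP₀⟩ := exists_bundle hF
  haveI := isProper_of_isProjBundle hP₀ hF
  exact (h P₀ π₀ O₀ q₀ hP₀ _ (H23.ChowDesc.deltaCompat_rd π₀ δ)).2.1 j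

include hF hY in
theorem IsCapOn.zero {k : ℤ} {α : AlgebraicCycle Y ℤ} {γ : Fin (n + 1 + 1) → AlgebraicCycle Y ℤ}
    (h : IsCapOn F n δ k α γ) : γ 0 = α := by
  obtain ⟨P₀, π₀, O₀, q₀, hP₀⟩ := exists_bundle hF
  haveI := isProper_of_isProjBundle hP₀ hF
  exact (h P₀ π₀ O₀ q₀ hP₀ _ (H23.ChowDesc.deltaCompat_rd π₀ δ)).1

include hF hY in
theorem IsCapOn.ratEquiv {k : ℤ} {α α' : AlgebraicCycle Y ℤ} (hα : Cyc.RatEquiv δ k α α')
    {γ γ' : Fin (n + 1 + 1) → AlgebraicCycle Y ℤ} (h : IsCapOn F n δ k α γ) (h' : IsCapOn F n δ k α' γ')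
    (j : Fin (n + 1 + 1)) : Cyc.RatEquiv δ (k - ((j : ℕ) : ℤ)) (γ j) (γ' j) := by
  obtain ⟨P₀, π₀, O₀, q₀, hP₀⟩ := exists_bundle hF
  haveI := isProper_of_isProjBundle hP₀ hF
  have hδ₀ := H23.ChowDesc.deltaCompat_rd π₀ δ
  have hPs := H23.SetupLFT.isSetup π₀ hY hδ₀
  have hL := Model.isInvertible_of_rank hP₀.invertible
  have hfr := charted_of_isProjBundle hP₀ hF
  have hc := (hfr.isCap_iff hL hY hPs hδ₀).1 (h P₀ π₀ O₀ q₀ hP₀ _ hδ₀)
  have hc' := (hfr.isCap_iff hL hY hPs hδ₀).1 (h' P₀ π₀ O₀ q₀ hP₀ _ hδ₀)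
  exact hfr.isCap_unique hL hY hPs hδ₀ hc.mem hc'.mem (sub_mem hc.rel hc'.rel)
    (by rw [hc.zero, hc'.zero]; exact hα) j

include hF hY in
theorem IsCapOn.add {k : ℤ} {α α' : AlgebraicCycle Y ℤ} {γ γ' : Fin (n + 1 + 1) → AlgebraicCycle Y ℤ}
    (h : IsCapOn F n δ k α γ) (h' : IsCapOn F n δ k α' γ') : IsCapOn F n δ k (α + α') (γ + γ') := by
  intro P π O1 q hP δP hδP
  haveI := isProper_of_isProjBundle hP hF
  have hPs := H23.SetupLFT.isSetup π hY hδP
  have hL := Model.isInvertible_of_rank hP.invertible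
  have hfr := charted_of_isProjBundle hP hF
  have hc := (hfr.isCap_iff hL hY hPs hδP).1 (h P π O1 q hP δP hδP)
  have hc' := (hfr.isCap_iff hL hY hPs hδP).1 (h' P π O1 q hP δP hδP)
  exact (hfr.isCap_iff hL hY hPs hδP).2 ⟨by rw [Pi.add_apply, hc.zero, hc'.zero],
    fun j => (ChowOps.zk Y δ _).add_mem (hc.mem j) (hc'.mem j), by rw [map_add]; exact add_mem hc.rel hc'.rel⟩

/-- A representative of the caps. -/
noncomputable def capRep {k : ℤ} (a : ↥(ChowOps.zk Y δ k)) : Fin (n + 1 + 1) → AlgebraicCycle Y ℤ :=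
  (IsCapOn.exists' hF hY a.2).choose

theorem isCapOn_capRep {k : ℤ} (a : ↥(ChowOps.zk Y δ k)) :
    IsCapOn F n δ k (a : AlgebraicCycle Y ℤ) (capRep hF hY a) := (IsCapOn.exists' hF hY a.2).choose_spec

/-- The operation of a Chern class on cycles. -/
noncomputable def chernHom (j : Fin (n + 1 + 1)) (k : ℤ) :
    ↥(ChowOps.zk Y δ k) →+ ChowOps.CH Y δ (k - ((j : ℕ) : ℤ)) :=
  AddMonoidHom.mk' (fun a => ChowOps.cl (capRep hF hY a j) ((isCapOn_capRep hF hY a).mem hF hY j)) fun a b => by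
    have hadd := (isCapOn_capRep hF hY a).add hF hY (isCapOn_capRep hF hY b)
    rw [← Bivar.cl_add _ _ ((isCapOn_capRep hF hY a).mem hF hY j) ((isCapOn_capRep hF hY b).mem hF hY j)]
    exact H23.ChowDesc.cl_eq_of_ratEquiv _ ((ChowOps.zk Y δ _).add_mem ((isCapOn_capRep hF hY a).mem hF hY j)
      ((isCapOn_capRep hF hY b).mem hF hY j)) ((isCapOn_capRep hF hY (a + b)).ratEquiv hF hY
        (by rw [AddSubgroup.coe_add, Cyc.RatEquiv, sub_self]; exact (ratSub hY k).zero_mem) hadd j)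

/-- The operation of a Chern class. -/
noncomputable def chernCH (j : Fin (n + 1 + 1)) (k : ℤ) : ChowOps.CH Y δ k →+ ChowOps.CH Y δ (k - ((j : ℕ) : ℤ)) :=
  H23.ChowDesc.lift (chernHom hF hY j k) fun a ha => by
    have h1 := isCapOn_capRep hF hY a
    have h0 := isCapOn_capRep hF hY (0 : ↥(ChowOps.zk Y δ k))
    have e : chernHom hF hY j k a = chernHom hF hY j k 0 :=
      H23.ChowDesc.cl_eq_of_ratEquiv _ (h0.mem hF hY j) (h1.ratEquiv hF hY
        (by rw [ZeroMemClass.coe_zero, Cyc.RatEquiv, sub_zero]; exact ha) h0 j)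
    rw [e, map_zero]

/-- The operation is computed by any representative. -/
theorem chernCH_cl {k : ℤ} {α : AlgebraicCycle Y ℤ} (hα : α ∈ Cyc.Zk Y δ k)
    {γ : Fin (n + 1 + 1) → AlgebraicCycle Y ℤ} (h : IsCapOn F n δ k α γ) (j : Fin (n + 1 + 1))
    (hγ : γ j ∈ Cyc.Zk Y δ (k - ((j : ℕ) : ℤ))) : chernCH hF hY j k (ChowOps.cl α hα) = ChowOps.cl (γ j) hγ :=
  H23.ChowDesc.cl_eq_of_ratEquiv _ hγ ((isCapOn_capRep hF hY ⟨α, hα⟩).ratEquiv hF hY
    (by rw [Cyc.RatEquiv, sub_self]; exact (ratSub hY k).zero_mem) h j)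

end Classes

section Op

variable {X : Scheme.{u}} {δX : X → ℤ} {E : X.Modules} {n : ℕ} (hX : Cyc.IsSetup X δX)
  (hE : FlatMod.IsFinLocFreeOfRank (n + 1) E)

/-- The operational Chern class. -/
noncomputable def chern (j : Fin (n + 1 + 1)) : Bivar.OpCl ((j : ℕ) : ℤ) X δX where
  op s k := chernCH (KRRReg.isFinLocFreeOfRank_pullback s.g hE) (H23.ChowDesc.isSetup_osq hX s) j k
  push s t h _ w k := by
    intro α hα
    have hs := H23.ChowDesc.isSetup_osq hX s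
    have ht := H23.ChowDesc.isSetup_osq hX t
    have hEs := KRRReg.isFinLocFreeOfRank_pullback s.g hE
    have hEt := KRRReg.isFinLocFreeOfRank_pullback t.g hE
    obtain ⟨γ, hγ⟩ := IsCapOn.exists' hEt ht hα
    refine ⟨γ j, hγ.mem hEt ht j, chernCH_cl hEt ht hα hγ j _, ?_⟩
    refine chernCH_cl hEs hs (γ := fun l => AlgebraicCycle.map h t.δ s.δ (γ l)) _ (fun P π O1 q hP δP hδP => ?_) j _
    obtain ⟨P', π', O1', q', hP'⟩ := exists_bundle hEt
    haveI := isProper_of_isProjBundle hP' hEt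
    exact isChernCap_push hEs hP hP' ht hs hδP (H23.ChowDesc.deltaCompat_rd π' t.δ) h
      (H23.ChowDesc.pbIso h w E).symm (H23.ChowDesc.deltaCompat_hom h w)
      (hγ P' π' O1' q' hP' _ (H23.ChowDesc.deltaCompat_rd π' t.δ))
  pull s t h _ r hr w k := by
    intro α hα
    have hs := H23.ChowDesc.isSetup_osq hX s
    have ht := H23.ChowDesc.isSetup_osq hX t
    haveI := hs.1
    haveI := ht.1
    haveI := s.lft
    haveI : LocallyOfFiniteType (h ≫ s.g) := w ▸ t.lft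
    haveI : LocallyOfFiniteType h := locallyOfFiniteType_of_comp h s.g
    have hEs := KRRReg.isFinLocFreeOfRank_pullback s.g hE
    have hEt := KRRReg.isFinLocFreeOfRank_pullback t.g hE
    obtain ⟨γ, hγ⟩ := IsCapOn.exists' hEs hs hα
    refine ⟨γ j, hγ.mem hEs hs j, chernCH_cl hEs hs hα hγ j _, fun α₁ hα₁ hα₁m => ?_⟩
    have hh := H23.ChowDesc.deltaCompat_hom h w
    have hc := H23.FlatShift.hasShift_of_hasRelDim h hr hh
    have hm := flatAdd_mem h hc ht.2.2 (hγ.mem hEs hs j)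
    rw [show k - ((j : ℕ) : ℤ) + r = k + r - ((j : ℕ) : ℤ) by ring] at hm
    refine ⟨flatAdd h hc ht.2.2 (γ j), hm, coe_flatAdd h hc ht.2.2 _, ?_⟩
    obtain rfl : α₁ = flatAdd h hc ht.2.2 α := DFunLike.coe_injective (hα₁.trans (coe_flatAdd h hc ht.2.2 α).symm)
    refine chernCH_cl hEt ht (γ := fun l => flatAdd h hc ht.2.2 (γ l)) _ (fun P' π' O1' q' hP' δP' hδP' => ?_) j _
    obtain ⟨P, π, O1, q, hP⟩ := exists_bundle hEs
    haveI := isProper_of_isProjBundle hP hEs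
    exact isChernCap_pull hEs hP hP' ht hs (H23.ChowDesc.deltaCompat_rd π s.δ) hδP' h
      (H23.ChowDesc.pbIso h w E).symm hh hr (hγ P π O1 q hP _ (H23.ChowDesc.deltaCompat_rd π s.δ))
  gysin s t i _ w L₀ hL₀ σ hσ k := by
    intro α hα
    have hs := H23.ChowDesc.isSetup_osq hX s
    have ht := H23.ChowDesc.isSetup_osq hX t
    have hδ := H23.ChowDesc.delta_closedImmersion i w
    have hEs := KRRReg.isFinLocFreeOfRank_pullback s.g hE
    have hEt := KRRReg.isFinLocFreeOfRank_pullback t.g hE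
    obtain ⟨γ, hγ⟩ := IsCapOn.exists' hEs hs hα
    refine ⟨γ j, hγ.mem hEs hs j, chernCH_cl hEs hs hα hγ j _, fun w₀ hw₀ γD hγD hγDm => ?_⟩
    have hm : gysAdd hs hL₀ i σ hw₀ (γ j) ∈ Cyc.Zk t.Y t.δ (k - 1 - ((j : ℕ) : ℤ)) := by
      rw [hδ, show k - 1 - ((j : ℕ) : ℤ) = k - ((j : ℕ) : ℤ) - 1 by ring]
      exact gysAdd_mem hs hL₀ i σ hw₀ (hγ.mem hEs hs j)
    refine ⟨gysAdd hs hL₀ i σ hw₀ (γ j), hm, fun d => gysAdd_apply hs hL₀ i σ hw₀ (γ j) d, ?_⟩
    refine chernCH_cl hEt ht (γ := fun l => gysAdd hs hL₀ i σ hw₀ (γ l)) _ (fun P' π' O1' q' hP' δP' hδP' => ?_) j _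
    obtain ⟨P, π, O1, q, hP⟩ := exists_bundle hEs
    haveI := isProper_of_isProjBundle hP hEs
    obtain rfl : γD = gysAdd hs hL₀ i σ hw₀ α :=
      DFunLike.coe_injective (funext fun d => (hγD d).trans (gysAdd_apply hs hL₀ i σ hw₀ α d).symm)
    rw [hδ] at hδP' ⊢
    exact isChernCap_gysin hEs hP hP' hs (H23.ChowDesc.deltaCompat_rd π s.δ) hδP'
      (H23.ChowDesc.pbIso i w E).symm hL₀ hσ hw₀ (hγ P π O1 q hP _ (H23.ChowDesc.deltaCompat_rd π s.δ))

theorem chern_zero : chern hX hE (0 : Fin (n + 1 + 1)) = Bivar.OpCl.one X δX := by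
  refine Bivar.OpCl.ext (funext fun s => funext fun k => AddMonoidHom.ext fun a => ?_)
  obtain ⟨α, hα, rfl⟩ := Bivar.exists_rep a
  have hs := H23.ChowDesc.isSetup_osq hX s
  have hEs := KRRReg.isFinLocFreeOfRank_pullback s.g hE
  obtain ⟨γ, hγ⟩ := IsCapOn.exists' hEs hs hα
  refine (chernCH_cl hEs hs hα hγ 0 (hγ.mem hEs hs 0)).trans ?_
  show _ = Bivar.chCast s.Y s.δ (sub_zero k).symm (ChowOps.cl α hα)
  rw [Bivar.chCast_cl]
  exact Bivar.cl_congr (hγ.zero hEs hs) _ _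

end Op

end Groth.Agent.H9PB
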