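import Groth.Agent.H9PB.ChernOps
import Groth.Agent.H23.C1Glue
import Groth.Agent.H23.SetupLFT

/-! Chern caps commute with first Chern classes and with each other. -/

set_option autoImplicit false
set_option linter.style.haveILetI false
set_option linter.unusedSectionVars false
set_option backward.isDefEq.respectTransparency false
set_option backward.isDefEq.respectTransparency.types false
set_option maxHeartbeats 800000

universe u

open AlgebraicGeometry CategoryTheory CategoryTheory.Limits TopologicalSpace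

namespace Groth.Agent.H9PB

open Groth.Agent

section Cap

variable {X : Scheme.{u}} [IsLocallyNoetherian X] {δ : X → ℤ} {L N : X.Modules} (hL : PicF.IsInvertible L)
  (hN : PicF.IsInvertible N) (hd : Cyc.IsDimFun X δ) (v : (ξ : X) → Cyc.secFibre L ξ) (hv : ∀ ξ, v ξ ≠ 0)

/-- A single cap as a homomorphism. -/
noncomputable def cap1 : AlgebraicCycle X ℤ →+ AlgebraicCycle X ℤ := capAdd hL hd (fun _ => v) (fun _ => hv) 0

theorem coe_cap1 (a : AlgebraicCycle X ℤ) : ⇑(cap1 hL hd v hv a) = Cyc.c1CapFun δ L ⇑a v :=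
  H23.RatSec.coe_c1CapCycle hL hd a v hv

theorem cap1_mem {k : ℤ} {a : AlgebraicCycle X ℤ} (ha : a ∈ Cyc.Zk X δ k) :
    cap1 hL hd v hv a ∈ Cyc.Zk X δ (k - 1) := H23.C1Class.capCycle_mem hL hd ha v hv

end Cap

theorem cap1_ratSub {X : Scheme.{u}} {δ : X → ℤ} {L : X.Modules} (hX : Cyc.IsSetup X δ) (hL : PicF.IsInvertible L)
    (v : (ξ : X) → Cyc.secFibre L ξ) (hv : ∀ ξ, v ξ ≠ 0) {k : ℤ} {a : AlgebraicCycle X ℤ}
    (ha : a ∈ Cyc.Zk X δ k) (h : a ∈ ratSub hX k) :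
    haveI := hX.1
    cap1 hL hX.2.2 v hv a ∈ ratSub hX (k - 1) := by
  haveI := hX.1
  have h1 := cap_ratEquiv hX hL ha ((ChowOps.zk X δ k).zero_mem) (by rw [Cyc.RatEquiv, sub_zero]; exact h) hv hv
  have h2 : cap1 hL hX.2.2 v hv a - cap1 hL hX.2.2 v hv 0 ∈ ratSub hX (k - 1) := h1
  rwa [map_zero, sub_zero] at h2

/-- First Chern classes commute. -/
theorem cap1_comm {X : Scheme.{u}} {δ : X → ℤ} {L N : X.Modules} (hX : Cyc.IsSetup X δ) (hL : PicF.IsInvertible L)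
    (hN : PicF.IsInvertible N) (v : (ξ : X) → Cyc.secFibre L ξ) (hv : ∀ ξ, v ξ ≠ 0)
    (w : (ξ : X) → Cyc.secFibre N ξ) (hw : ∀ ξ, w ξ ≠ 0) {k : ℤ} {a : AlgebraicCycle X ℤ} (ha : a ∈ Cyc.Zk X δ k) :
    haveI := hX.1
    cap1 hL hX.2.2 v hv (cap1 hN hX.2.2 w hw a) - cap1 hN hX.2.2 w hw (cap1 hL hX.2.2 v hv a) ∈
      ratSub hX (k - 2) := by
  haveI := hX.1
  refine H23.RatOn.ratEquivZero (T := Set.univ) (H23.RatOn.congr
    (H23.C1Glue.zeroOn_comm hL hN hX.2.2 (α := ⇑a) (fun ξ hξ => ha ξ (by omega)) (H23.GysinLib.locFin a)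
      hv hv hw hw (T := Set.univ) fun _ _ _ _ _ h => absurd trivial h) fun x => ?_)
  rw [Function.locallyFinsuppWithin.coe_sub, Pi.sub_apply, coe_cap1, coe_cap1, coe_cap1, coe_cap1]

/-- A cap commutes with iterated caps. -/
theorem cap1_powHom {X : Scheme.{u}} {δ : X → ℤ} {L N : X.Modules} (hX : Cyc.IsSetup X δ) (hL : PicF.IsInvertible L)
    (hN : PicF.IsInvertible N) (v : (ξ : X) → Cyc.secFibre L ξ) (hv : ∀ ξ, v ξ ≠ 0)
    (t : ℕ → (ξ : X) → Cyc.secFibre N ξ) (ht : ∀ m ξ, t m ξ ≠ 0) {k : ℤ} {a : AlgebraicCycle X ℤ}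
    (ha : a ∈ Cyc.Zk X δ k) (i : ℕ) :
    haveI := hX.1
    cap1 hL hX.2.2 v hv (powHom hN hX.2.2 t ht i a) - powHom hN hX.2.2 t ht i (cap1 hL hX.2.2 v hv a) ∈
      ratSub hX (k - i - 1) := by
  haveI := hX.1
  induction i with
  | zero =>
    show cap1 hL hX.2.2 v hv a - cap1 hL hX.2.2 v hv a ∈ _
    rw [sub_self]
    exact zero_mem _
  | succ i ih =>
    let b := powHom hN hX.2.2 t ht i a
    let C := cap1 hN hX.2.2 (t i) (ht i)
    have hb : b ∈ Cyc.Zk X δ (k - i) := powHom_mem hN hX.2.2 t ht ha i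
    show cap1 hL hX.2.2 v hv (C b) - C (powHom hN hX.2.2 t ht i (cap1 hL hX.2.2 v hv a)) ∈ _
    have hm : powHom hN hX.2.2 t ht i (cap1 hL hX.2.2 v hv a) ∈ Cyc.Zk X δ (k - i - 1) := by
      have := powHom_mem hN hX.2.2 t ht (cap1_mem hL hX.2.2 v hv ha) i
      rwa [show k - 1 - (i : ℤ) = k - i - 1 by ring] at this
    have h2 := cap1_ratSub hX hN (t i) (ht i) ((ChowOps.zk X δ _).sub_mem (cap1_mem hL hX.2.2 v hv hb) hm) ih
    have h1 := cap1_comm hX hL hN v hv (t i) (ht i) hb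
    rw [map_sub] at h2
    rw [show k - (i : ℤ) - 1 - 1 = k - ((i + 1 : ℕ) : ℤ) - 1 by push_cast; ring] at h2
    rw [show k - (i : ℤ) - 2 = k - ((i + 1 : ℕ) : ℤ) - 1 by push_cast; ring] at h1
    have h3 := add_mem h1 h2
    rwa [sub_add_sub_cancel] at h3

namespace Charted

variable {X P : Scheme.{u}} {p : P ⟶ X} {O1 : P.Modules} {n : ℕ} (hfr : Charted p O1 n) [IsProper p]
  (hL : PicF.IsInvertible O1) {δ : X → ℤ} {δP : P → ℤ} (hX : Cyc.IsSetup X δ) (hP : Cyc.IsSetup P δP)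
  (hδ : Cyc.DeltaCompat p δP δ)

include hfr in
theorem hasRelDim (hX : Cyc.IsSetup X δ) (hP : Cyc.IsSetup P δP) (hδ : Cyc.DeltaCompat p δP δ) :
    Cyc.HasRelDim p n := by
  refine (CycLib.hasRelDim_iff p).2 fun z hz => ?_
  have h := hz _ ((hfr.frame (p z)).gp_zero_specializes (η := ⟨p z, hfr.mem_opn (p z)⟩) rfl) (hfr.p_gpt (p z) 0)
  have h1 := hfr.delta_gpt hP.2.2 hδ (p z) 0
  have h2 := CycLib.deltaCompat_eq p hδ (hfr.gpt (p z) 0)
  rw [hfr.p_gpt] at h2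
  rw [← h]
  simp at h1
  show FibDim.rd p (hfr.gpt (p z) 0) = n
  omega

/-- A line bundle cap commutes with the relation. -/
theorem cap1_rel {N : X.Modules} (hN : PicF.IsInvertible N) (v : (ξ : X) → Cyc.secFibre N ξ) (hv : ∀ ξ, v ξ ≠ 0)
    {k : ℤ} {γ : Fin (n + 2) → AlgebraicCycle X ℤ} (hm : ∀ j : Fin (n + 2), γ j ∈ Cyc.Zk X δ (k - ((j : ℕ) : ℤ)))
    (h : hfr.rel hL hX hP hδ γ ∈ ratSub hP (k - 1)) :
    haveI := hX.1
    hfr.rel hL hX hP hδ (fun j => cap1 hN hX.2.2 v hv (γ j)) ∈ ratSub hP (k - 1 - 1) := by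
  haveI := hX.1
  haveI := hP.1
  haveI := hfr.flat
  have hc := hfr.hasShift hP.2.2 hδ
  let w := H23.C1Pull.vPull p N v
  have hw : ∀ ξ, w ξ ≠ 0 := H23.C1Pull.vPull_ne_zero hN hv
  let C := cap1 (PicClLib.isInvertible_pullback p hN) hP.2.2 w hw
  have hrelmem : hfr.rel hL hX hP hδ γ ∈ Cyc.Zk P δP (k - 1) := by
    rw [rel_apply]
    refine (ChowOps.zk P δP _).sum_mem fun i _ => (ChowOps.zk P δP _).zsmul_mem ?_ _
    have := hfr.term_mem hL hX hP hδ (hm (Fin.rev i)) i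
    rwa [deg_rev] at this
  have h1 : C (hfr.rel hL hX hP hδ γ) ∈ ratSub hP (k - 1 - 1) := cap1_ratSub hP _ w hw hrelmem h
  have h2 : C (hfr.rel hL hX hP hδ γ) - hfr.rel hL hX hP hδ (fun j => cap1 hN hX.2.2 v hv (γ j)) ∈
      ratSub hP (k - 1 - 1) := by
    rw [rel_apply, rel_apply, map_sum, ← Finset.sum_sub_distrib]
    refine sum_mem fun i _ => ?_
    rw [map_zsmul, ← smul_sub]
    refine zsmul_mem ?_ _
    have he : hfr.pullAdd hX hP hδ (cap1 hN hX.2.2 v hv (γ (Fin.rev i))) =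
        C (hfr.pullAdd hX hP hδ (γ (Fin.rev i))) := DFunLike.coe_injective (by
      rw [coe_pullAdd, coe_cap1, coe_cap1, coe_pullAdd]
      exact H23.C1Pull.pullFun_c1CapFun hN (PicClLib.isInvertible_pullback p hN) hc hX.2.2 hP.2.2
        (H23.GysinLib.locFin _) hv)
    show C (powHom hL hP.2.2 (hfr.sec hL) (hfr.sec_ne_zero hL) i (hfr.pullAdd hX hP hδ (γ (Fin.rev i)))) -
      powHom hL hP.2.2 (hfr.sec hL) (hfr.sec_ne_zero hL) i (hfr.pullAdd hX hP hδ _) ∈ _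
    rw [he]
    have := cap1_powHom hP (PicClLib.isInvertible_pullback p hN) hL w hw (hfr.sec hL) (hfr.sec_ne_zero hL)
      (hfr.pullAdd_mem hX hP hδ (hm (Fin.rev i))) (i : ℕ)
    rwa [deg_rev] at this
  have h3 := sub_mem h1 h2
  rwa [sub_sub_cancel] at h3

theorem powHom_rel {N : X.Modules} (hN : PicF.IsInvertible N) (t : ℕ → (ξ : X) → Cyc.secFibre N ξ)
    (ht : ∀ m ξ, t m ξ ≠ 0) (i : ℕ)
    {k : ℤ} {γ : Fin (n + 2) → AlgebraicCycle X ℤ} (hm : ∀ j : Fin (n + 2), γ j ∈ Cyc.Zk X δ (k - ((j : ℕ) : ℤ)))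
    (h : hfr.rel hL hX hP hδ γ ∈ ratSub hP (k - 1)) :
    haveI := hX.1
    hfr.rel hL hX hP hδ (fun j => powHom hN hX.2.2 t ht i (γ j)) ∈ ratSub hP (k - i - 1) := by
  haveI := hX.1
  induction i with
  | zero => simpa [powHom] using h
  | succ i ih =>
    have h1 := hfr.cap1_rel hL hX hP hδ hN (t i) (ht i) (k := k - i)
      (γ := fun j => powHom hN hX.2.2 t ht i (γ j)) (fun j => by
        have := powHom_mem hN hX.2.2 t ht (hm j) i
        rwa [show k - ((j : ℕ) : ℤ) - (i : ℤ) = k - i - ((j : ℕ) : ℤ) by ring] at this) ih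
    rw [show k - (i : ℤ) - 1 - 1 = k - ((i + 1 : ℕ) : ℤ) - 1 by push_cast; ring] at h1
    exact h1

/-- Caps of two bundles commute. -/
theorem isCap_comm {Q : Scheme.{u}} {p' : Q ⟶ X} {O1' : Q.Modules} {m : ℕ} (hfr' : Charted p' O1' m) [IsProper p']
    (hL' : PicF.IsInvertible O1') {δQ : Q → ℤ} (hQ : Cyc.IsSetup Q δQ) (hδ' : Cyc.DeltaCompat p' δQ δ)
    (hfrP : Charted (pullback.snd p' p) ((Scheme.Modules.pullback (pullback.fst p' p)).obj O1') m)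
    {k : ℤ} {α : AlgebraicCycle X ℤ} {γ : Fin (n + 2) → AlgebraicCycle X ℤ} (hγ : hfr.IsCap hL hX hP hδ k α γ)
    {η : Fin (n + 2) → Fin (m + 2) → AlgebraicCycle X ℤ}
    (hη : ∀ l : Fin (n + 2), hfr'.IsCap hL' hX hQ hδ' (k - ((l : ℕ) : ℤ)) (γ l) (η l)) (j : Fin (m + 2)) :
    hfr.rel hL hX hP hδ (fun l => η l j) ∈ ratSub hP (k - ((j : ℕ) : ℤ) - 1) := by
  haveI := hX.1
  haveI := hP.1
  haveI := hfr.flat
  let R := (pullback p' p : Scheme.{u})
  let π : R ⟶ P := pullback.snd p' p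
  let δR : R → ℤ := fun x => δP (π x) + FibDim.rd π x
  have hπδ : Cyc.DeltaCompat π δR δP := H23.ChowDesc.deltaCompat_rd π δP
  have hR : Cyc.IsSetup R δR := H23.SetupLFT.isSetup π hP hπδ
  let hLR := PicClLib.isInvertible_pullback (pullback.fst p' p) hL'
  let pull := hfr.pullAdd hX hP hδ
  have hlt : ∀ l : Fin (n + 2), hfrP.rel hLR hP hR hπδ (fun jj => pull (η l jj)) ∈
      ratSub hR (k - ((l : ℕ) : ℤ) + n - 1) := by
    intro l
    have h1 := hfr'.flatAdd_rel hfrP hL' hP hX hQ hR hδ' hπδ hδ (IsPullback.of_hasPullback p' p)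
      (hfr.hasRelDim hX hP hδ) (hη l).mem (hη l).rel
    exact h1
  let T : Fin (n + 2) → Fin (m + 2) → AlgebraicCycle P ℤ := fun i jj =>
    hfr.term hL hX hP hδ i (η (Fin.rev i) jj)
  let S : Fin (m + 2) → AlgebraicCycle P ℤ := fun jj => hfr.rel hL hX hP hδ (fun l => η l jj)
  have hTmem : ∀ (i : Fin (n + 2)) (jj : Fin (m + 2)), T i jj ∈ Cyc.Zk P δP (k - 1 - ((jj : ℕ) : ℤ)) := fun i jj => by
    have h1 := hfr.term_mem hL hX hP hδ ((hη (Fin.rev i)).mem jj) i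
    have h2 := deg_rev (n := n) k i
    rwa [show k - ((Fin.rev i : ℕ) : ℤ) - ((jj : ℕ) : ℤ) + n - ((i : ℕ) : ℤ) = k - 1 - ((jj : ℕ) : ℤ) by omega] at h1
  have hSmem : ∀ jj : Fin (m + 2), S jj ∈ Cyc.Zk P δP (k - 1 - ((jj : ℕ) : ℤ)) := fun jj => by
    simp only [S]
    rw [rel_apply]
    exact (ChowOps.zk P δP _).sum_mem fun i _ => (ChowOps.zk P δP _).zsmul_mem (hTmem i jj) _
  have hS : hfrP.rel hLR hP hR hπδ S ∈ ratSub hR (k - 1 - 1) := by
    have he : S = ∑ i : Fin (n + 2), ((-1 : ℤ) ^ (i : ℕ)) • T i := funext fun jj => by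
      simp only [S]
      rw [rel_apply, Finset.sum_apply]
      rfl
    rw [he, map_sum]
    refine sum_mem fun i _ => ?_
    rw [map_zsmul]
    refine zsmul_mem ?_ _
    have h1 := hfrP.powHom_rel hLR hP hR hπδ hL (hfr.sec hL) (hfr.sec_ne_zero hL) (i : ℕ)
      (k := k - ((Fin.rev i : ℕ) : ℤ) + n) (γ := fun jj => pull (η (Fin.rev i) jj)) (fun jj => by
        have := hfr.pullAdd_mem hX hP hδ ((hη (Fin.rev i)).mem jj)
        rwa [show k - ((Fin.rev i : ℕ) : ℤ) - ((jj : ℕ) : ℤ) + n = k - ((Fin.rev i : ℕ) : ℤ) + n - ((jj : ℕ) : ℤ) by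
          ring] at this) (hlt (Fin.rev i))
    rw [deg_rev] at h1
    exact h1
  have h0 : S 0 - (0 : Fin (m + 2) → AlgebraicCycle P ℤ) 0 ∈ ratSub hP (k - 1) := by
    rw [Pi.zero_apply, sub_zero]
    have : (fun l => η l 0) = γ := funext fun l => (hη l).zero
    show hfr.rel hL hX hP hδ (fun l => η l 0) ∈ _
    rw [this]
    exact hγ.rel
  have h := hfrP.isCap_unique hLR hP hR hπδ hSmem (fun jj => (ChowOps.zk P δP _).zero_mem)
    (by rw [show (fun _ => (0 : AlgebraicCycle P ℤ)) = (0 : Fin (m + 2) → AlgebraicCycle P ℤ) from rfl,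
      map_zero, sub_zero]; exact hS) h0 j
  rw [show k - 1 - ((j : ℕ) : ℤ) = k - ((j : ℕ) : ℤ) - 1 by ring] at h
  simpa using h

end Charted

end Groth.Agent.H9PB
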