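import Groth.Agent.H9PB.CapR
import Groth.Agent.H23.C1Class
import Mathlib.Algebra.Polynomial.Coeff

/-! Chern operators on graded Chow groups and their total classes. -/

set_option autoImplicit false
set_option linter.style.haveILetI false
set_option linter.unusedSectionVars false
set_option backward.isDefEq.respectTransparency false
set_option backward.isDefEq.respectTransparency.types false
set_option maxHeartbeats 800000

universe u

open AlgebraicGeometry CategoryTheory CategoryTheory.Limits Polynomial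

namespace Groth.Agent.H9PB

open Groth.Agent

/-- All Chow groups of a scheme. -/
abbrev GCH (X : Scheme.{u}) (δ : X → ℤ) : Type u := (k : ℤ) → ChowOps.CH X δ k

section Shift

variable {X : Scheme.{u}} {δ : X → ℤ}

/-- A family of maps lowering degrees, as an endomorphism. -/
noncomputable def shiftEnd (d : ℤ) (T : ∀ k, ChowOps.CH X δ k →+ ChowOps.CH X δ (k - d)) :
    AddMonoid.End (GCH X δ) :=
  AddMonoidHom.mk' (fun x m => Bivar.chCast X δ (add_sub_cancel_right m d) (T (m + d) (x (m + d))))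
    fun x y => funext fun m => by simp only [Pi.add_apply, map_add]

theorem shiftEnd_at (d : ℤ) (T : ∀ k, ChowOps.CH X δ k →+ ChowOps.CH X δ (k - d)) (x : GCH X δ) (k : ℤ) :
    shiftEnd d T x (k - d) = T k (x k) := by
  have h : ∀ (k' : ℤ) (_ : k' = k) (e : k' - d = k - d),
      Bivar.chCast X δ e (T k' (x k')) = T k (x k) := by
    rintro _ rfl e
    rw [Bivar.chCast_rfl]
    rfl
  exact h _ (sub_add_cancel k d) _

/-- The class in a degree is represented by a cycle. -/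
def Rep (x : GCH X δ) (k : ℤ) (α : AlgebraicCycle X ℤ) : Prop :=
  ∃ h : α ∈ Cyc.Zk X δ k, x k = ChowOps.cl α h

theorem Rep.exists (x : GCH X δ) (k : ℤ) : ∃ α, Rep x k α := by
  obtain ⟨α, hα, e⟩ := Bivar.exists_rep (x k)
  exact ⟨α, hα, e.symm⟩

theorem Rep.single {k : ℤ} {α : AlgebraicCycle X ℤ} (hα : α ∈ Cyc.Zk X δ k) :
    ∃ x : GCH X δ, Rep x k α := ⟨Pi.single k (ChowOps.cl α hα), hα, Pi.single_eq_same _ _⟩

theorem Rep.add {x y : GCH X δ} {k : ℤ} {α β : AlgebraicCycle X ℤ} (h : Rep x k α) (h' : Rep y k β) :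
    Rep (x + y) k (α + β) := by
  obtain ⟨hα, e⟩ := h
  obtain ⟨hβ, e'⟩ := h'
  exact ⟨(ChowOps.zk X δ k).add_mem hα hβ, by rw [Pi.add_apply, e, e', Bivar.cl_add _ _ hα hβ]⟩

theorem Rep.zero (k : ℤ) : Rep (0 : GCH X δ) k 0 := ⟨(ChowOps.zk X δ k).zero_mem, Bivar.cl_zero.symm⟩

theorem Rep.sum {ι : Type*} {s : Finset ι} {x : ι → GCH X δ} {k : ℤ} {α : ι → AlgebraicCycle X ℤ}
    (h : ∀ i ∈ s, Rep (x i) k (α i)) : Rep (∑ i ∈ s, x i) k (∑ i ∈ s, α i) := by
  classical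
  induction s using Finset.induction with
  | empty => simpa using Rep.zero k
  | insert i s hi ih =>
    rw [Finset.sum_insert hi, Finset.sum_insert hi]
    exact (h i (Finset.mem_insert_self i s)).add (ih fun j hj => h j (Finset.mem_insert_of_mem hj))

theorem Rep.neg {x : GCH X δ} {k : ℤ} {α : AlgebraicCycle X ℤ} (h : Rep x k α) : Rep (-x) k (-α) := by
  obtain ⟨hα, e⟩ := h
  exact ⟨(ChowOps.zk X δ k).neg_mem hα, by rw [Pi.neg_apply, e]; exact (Bivar.cl_neg α hα).symm⟩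

theorem Rep.zsmul {x : GCH X δ} {k : ℤ} {α : AlgebraicCycle X ℤ} (h : Rep x k α) (c : ℤ) :
    Rep (c • x) k (c • α) := by
  obtain ⟨hα, e⟩ := h
  refine ⟨(ChowOps.zk X δ k).zsmul_mem hα c, ?_⟩
  rw [Pi.smul_apply, e]
  exact (map_zsmul (ChowOps.clHom X δ k) c ⟨α, hα⟩).symm

theorem Rep.ratEquiv (hX : Cyc.IsSetup X δ) {x : GCH X δ} {k : ℤ} {α β : AlgebraicCycle X ℤ} (h : Rep x k α)
    (h' : Rep x k β) : α - β ∈ ratSub hX k := by
  obtain ⟨hα, e⟩ := h
  obtain ⟨hβ, e'⟩ := h'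
  exact ratEquiv_of_cl_eq hX (e.symm.trans e')

theorem Rep.congr (hX : Cyc.IsSetup X δ) {x : GCH X δ} {k : ℤ} {α β : AlgebraicCycle X ℤ} (h : Rep x k α)
    (hβ : β ∈ Cyc.Zk X δ k) (he : α - β ∈ ratSub hX k) : Rep x k β := by
  obtain ⟨hα, e⟩ := h
  exact ⟨hβ, e.trans (H23.ChowDesc.cl_eq_of_ratEquiv hα hβ he)⟩

theorem Rep.endSum {ι : Type*} {s : Finset ι} {A : ι → AddMonoid.End (GCH X δ)} {x : GCH X δ} {k : ℤ}
    {α : ι → AlgebraicCycle X ℤ} (h : ∀ i ∈ s, Rep (A i x) k (α i)) :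
    Rep ((∑ i ∈ s, A i) x) k (∑ i ∈ s, α i) := by
  rw [show (∑ i ∈ s, A i) x = ∑ i ∈ s, A i x from AddMonoidHom.finsetSum_apply _ _ _]
  exact Rep.sum h

/-- Two endomorphisms agree when they agree on representatives. -/
theorem end_ext (hX : Cyc.IsSetup X δ) {A B : AddMonoid.End (GCH X δ)} (d : ℤ)
    (h : ∀ (x : GCH X δ) (k : ℤ) (α : AlgebraicCycle X ℤ), Rep x k α →
      ∃ β β', Rep (A x) (k - d) β ∧ Rep (B x) (k - d) β' ∧ β - β' ∈ ratSub hX (k - d)) : A = B := by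
  refine AddMonoidHom.ext fun x => funext fun m => ?_
  obtain ⟨α, hα⟩ := Rep.exists x (m + d)
  obtain ⟨β, β', ⟨hβ, e⟩, ⟨hβ', e'⟩, hr⟩ := h x _ α hα
  have h0 : A x (m + d - d) = B x (m + d - d) :=
    e.trans ((H23.ChowDesc.cl_eq_of_ratEquiv hβ hβ' hr).trans e'.symm)
  rw [add_sub_cancel_right] at h0
  exact h0

end Shift

section Classes

variable {X : Scheme.{u}} {δ : X → ℤ} {E : X.Modules} {r : ℕ}

/-- Representatives of the caps. -/
noncomputable def capRRep (hX : Cyc.IsSetup X δ) (hE : FlatMod.IsFinLocFreeOfRank r E) {k : ℤ}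
    (a : ↥(ChowOps.zk X δ k)) : Fin (r + 1) → AlgebraicCycle X ℤ :=
  (IsCapR.exists' hE hX a.2).choose

theorem isCapR_capRRep (hX : Cyc.IsSetup X δ) (hE : FlatMod.IsFinLocFreeOfRank r E) {k : ℤ}
    (a : ↥(ChowOps.zk X δ k)) : IsCapR E r δ k (a : AlgebraicCycle X ℤ) (capRRep hX hE a) :=
  (IsCapR.exists' hE hX a.2).choose_spec

theorem IsCapR.add (hX : Cyc.IsSetup X δ) (hE : FlatMod.IsFinLocFreeOfRank r E) {k : ℤ}
    {α α' : AlgebraicCycle X ℤ} {γ γ' : Fin (r + 1) → AlgebraicCycle X ℤ} (h : IsCapR E r δ k α γ)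
    (h' : IsCapR E r δ k α' γ') : IsCapR E r δ k (α + α') (γ + γ') := by
  match r with
  | 0 =>
    have e : γ + γ' = fun _ => α + α' := funext fun j => by
      obtain rfl : j = 0 := Fin.ext (Nat.lt_one_iff.1 j.2)
      rw [Pi.add_apply, h.zero hE hX, h'.zero hE hX]
    rw [e]
    refine isCapR_zero hX hE ((ChowOps.zk X δ k).add_mem ?_ ?_)
    · show α ∈ Cyc.Zk X δ k
      simpa [h.zero hE hX] using h.mem hE hX 0
    · show α' ∈ Cyc.Zk X δ k
      simpa [h'.zero hE hX] using h'.mem hE hX 0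
  | n + 1 => exact IsCapOn.add hE hX h h'

/-- A Chern cap on Chow classes. -/
noncomputable def chernR (hX : Cyc.IsSetup X δ) (hE : FlatMod.IsFinLocFreeOfRank r E) (j : Fin (r + 1)) (k : ℤ) :
    ChowOps.CH X δ k →+ ChowOps.CH X δ (k - ((j : ℕ) : ℤ)) :=
  H23.ChowDesc.lift
    (AddMonoidHom.mk' (fun a => ChowOps.cl (capRRep hX hE a j) ((isCapR_capRRep hX hE a).mem hE hX j)) fun a b => by
      have hadd := (isCapR_capRRep hX hE a).add hX hE (isCapR_capRRep hX hE b)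
      rw [← Bivar.cl_add _ _ ((isCapR_capRRep hX hE a).mem hE hX j) ((isCapR_capRRep hX hE b).mem hE hX j)]
      exact H23.ChowDesc.cl_eq_of_ratEquiv _ ((ChowOps.zk X δ _).add_mem ((isCapR_capRRep hX hE a).mem hE hX j)
        ((isCapR_capRRep hX hE b).mem hE hX j)) ((isCapR_capRRep hX hE (a + b)).ratEquiv hE hX
          (by rw [AddSubgroup.coe_add, Cyc.RatEquiv, sub_self]; exact (ratSub hX k).zero_mem) hadd j))
    fun a ha => by
      have h1 := isCapR_capRRep hX hE a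
      have h0 := (isCapR_capRRep hX hE (0 : ↥(ChowOps.zk X δ k))).add hX hE (isCapR_capRRep hX hE 0)
      have h2 := isCapR_capRRep hX hE (0 : ↥(ChowOps.zk X δ k))
      have hz := h2.ratEquiv hE hX (α' := (0 : AlgebraicCycle X ℤ) + 0)
        (by rw [ZeroMemClass.coe_zero, add_zero, Cyc.RatEquiv, sub_self]; exact (ratSub hX k).zero_mem)
        (by simpa only [ZeroMemClass.coe_zero] using h0) j
      rw [Pi.add_apply, sub_add_cancel_left] at hz
      have h3 := h1.ratEquiv hE hX (α' := ((0 : ↥(ChowOps.zk X δ k)) : AlgebraicCycle X ℤ))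
        (by rw [ZeroMemClass.coe_zero, Cyc.RatEquiv, sub_zero]; exact ha) h2 j
      refine (H23.ChowDesc.cl_eq_of_ratEquiv (h1.mem hE hX j) ((ChowOps.zk X δ _).zero_mem) ?_).trans Bivar.cl_zero
      show capRRep hX hE a j - 0 ∈ ratSub hX _
      rw [sub_zero]
      have h4 := sub_mem h3 hz
      rwa [sub_neg_eq_add, sub_add_cancel] at h4

theorem chernR_cl (hX : Cyc.IsSetup X δ) (hE : FlatMod.IsFinLocFreeOfRank r E) {k : ℤ} {α : AlgebraicCycle X ℤ}
    (hα : α ∈ Cyc.Zk X δ k) {γ : Fin (r + 1) → AlgebraicCycle X ℤ} (h : IsCapR E r δ k α γ) (j : Fin (r + 1)) :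
    chernR hX hE j k (ChowOps.cl α hα) = ChowOps.cl (γ j) (h.mem hE hX j) :=
  H23.ChowDesc.cl_eq_of_ratEquiv _ (h.mem hE hX j) ((isCapR_capRRep hX hE ⟨α, hα⟩).ratEquiv hE hX
    (by rw [Cyc.RatEquiv, sub_self]; exact (ratSub hX k).zero_mem) h j)

/-- A Chern class as an endomorphism. -/
noncomputable def opC (hX : Cyc.IsSetup X δ) (hE : FlatMod.IsFinLocFreeOfRank r E) (j : ℕ) :
    AddMonoid.End (GCH X δ) :=
  shiftEnd (j : ℤ) fun k => if h : j < r + 1 then chernR hX hE ⟨j, h⟩ k else 0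

variable (hX : Cyc.IsSetup X δ) (hE : FlatMod.IsFinLocFreeOfRank r E)

theorem opC_eq_zero {j : ℕ} (hj : r < j) : opC hX hE j = 0 := by
  refine end_ext hX (j : ℤ) fun x k α _ => ⟨0, 0, ⟨(ChowOps.zk X δ _).zero_mem, ?_⟩, Rep.zero _, by simp⟩
  rw [opC, shiftEnd_at, dif_neg (by omega)]
  exact Bivar.cl_zero.symm

theorem rep_opC {x : GCH X δ} {k : ℤ} {α : AlgebraicCycle X ℤ} (hx : Rep x k α)
    {γ : Fin (r + 1) → AlgebraicCycle X ℤ} (hγ : IsCapR E r δ k α γ) (j : Fin (r + 1)) :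
    Rep (opC hX hE (j : ℕ) x) (k - ((j : ℕ) : ℤ)) (γ j) := by
  obtain ⟨hα, e⟩ := hx
  exact ⟨hγ.mem hE hX j, by rw [opC, shiftEnd_at, dif_pos j.2, e]; exact chernR_cl hX hE hα hγ j⟩

theorem opC_zero : opC hX hE 0 = 1 := by
  refine end_ext hX 0 fun x k α hx => ?_
  obtain ⟨γ, hγ⟩ := IsCapR.exists' hE hX hx.1
  refine ⟨γ 0, α, ?_, by simpa using hx, ?_⟩
  · simpa using rep_opC hX hE hx hγ 0
  · rw [hγ.zero hE hX, sub_self]
    exact zero_mem _

/-- The first Chern class of a line bundle as an endomorphism. -/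
noncomputable def opL {L : X.Modules} (hX : Cyc.IsSetup X δ) (hL : PicF.IsInvertible L) :
    AddMonoid.End (GCH X δ) :=
  shiftEnd 1 fun k => H23.C1Class.capCH hX hL k

theorem rep_opL {L : X.Modules} (hL : PicF.IsInvertible L) {x : GCH X δ} {k : ℤ} {α : AlgebraicCycle X ℤ}
    (hx : Rep x k α) (v : (ξ : X) → Cyc.secFibre L ξ) (hv : ∀ ξ, v ξ ≠ 0) :
    haveI := hX.1
    Rep (opL hX hL x) (k - 1) (cap1 hL hX.2.2 v hv α) := by
  haveI := hX.1
  obtain ⟨hα, e⟩ := hx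
  refine ⟨cap1_mem hL hX.2.2 v hv hα, ?_⟩
  rw [opL, shiftEnd_at, e]
  exact H23.C1Class.capCH_cl hX hL hα hv (coe_cap1 hL hX.2.2 v hv α) _

theorem opL_comm {L N : X.Modules} (hL : PicF.IsInvertible L) (hN : PicF.IsInvertible N) :
    Commute (opL hX hL) (opL hX hN) := by
  haveI := hX.1
  obtain ⟨v, hv⟩ := H23.RatSec.exists_sections hL
  obtain ⟨w, hw⟩ := H23.RatSec.exists_sections hN
  refine end_ext hX (1 + 1) fun x k α hx => ⟨cap1 hL hX.2.2 v hv (cap1 hN hX.2.2 w hw α),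
    cap1 hN hX.2.2 w hw (cap1 hL hX.2.2 v hv α), ?_, ?_, ?_⟩
  · rw [← sub_sub]
    exact rep_opL hX hL (rep_opL hX hN hx w hw) v hv
  · rw [← sub_sub]
    exact rep_opL hX hN (rep_opL hX hL hx v hv) w hw
  · rw [show k - (1 + 1) = k - 2 by ring]
    exact cap1_comm hX hL hN v hv w hw hx.1

/-- The total Chern class. -/
noncomputable def totC (hX : Cyc.IsSetup X δ) (hE : FlatMod.IsFinLocFreeOfRank r E) :
    Polynomial (AddMonoid.End (GCH X δ)) :=
  ∑ j ∈ Finset.range (r + 1), monomial j (opC hX hE j)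

theorem coeff_totC (j : ℕ) : (totC hX hE).coeff j = opC hX hE j := by
  rw [totC, finsetSum_coeff]
  simp only [coeff_monomial, Finset.sum_ite_eq', Finset.mem_range]
  split_ifs with h
  · rfl
  · rw [opC_eq_zero hX hE (by omega)]

/-- The total class of a line bundle. -/
noncomputable def lineC {L : X.Modules} (hX : Cyc.IsSetup X δ) (hL : PicF.IsInvertible L) :
    Polynomial (AddMonoid.End (GCH X δ)) := 1 + C (opL hX hL) * Polynomial.X

theorem coeff_lineC_mul_succ {L : X.Modules} (hL : PicF.IsInvertible L) (f : Polynomial (AddMonoid.End (GCH X δ)))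
    (l : ℕ) : (lineC hX hL * f).coeff (l + 1) = f.coeff (l + 1) + opL hX hL * f.coeff l := by
  rw [lineC, add_mul, one_mul, coeff_add, mul_assoc, coeff_C_mul, coeff_X_mul]

theorem totC_of_rank_zero (hE₀ : FlatMod.IsFinLocFreeOfRank 0 E) : totC hX hE₀ = 1 := by
  rw [totC, Finset.sum_range_one, monomial_zero_left, opC_zero, map_one]

include hX in
theorem totC_iso {E' : X.Modules} {r' : ℕ} (hE' : FlatMod.IsFinLocFreeOfRank r' E') (e : E ≅ E') (hr : r = r') :
    totC hX hE = totC hX hE' := by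
  subst hr
  refine Polynomial.ext fun j => ?_
  rw [coeff_totC, coeff_totC]
  by_cases hj : j < r + 1
  swap
  · rw [opC_eq_zero hX hE (by omega), opC_eq_zero hX hE' (by omega)]
  refine end_ext hX (j : ℤ) fun x k α hx => ?_
  obtain ⟨γ, hγ⟩ := IsCapR.exists' hE hX hx.1
  have hγ' : IsCapR E' r δ k α γ := fun P π O1 q hP δP hδP =>
    hγ P π O1 _ (GrassSch.isGrass_of_iso (Grass.IsGrass.of_isProjBundle hP) e).isProjBundle δP hδP
  exact ⟨γ ⟨j, hj⟩, γ ⟨j, hj⟩, rep_opC hX hE hx hγ ⟨j, hj⟩, rep_opC hX hE' hx hγ' ⟨j, hj⟩,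
    by rw [sub_self]; exact zero_mem _⟩

include hX in
/-- The total class of an extension by a line bundle. -/
theorem totC_extend {L Q : X.Modules} {m : ℕ} (hE₁ : FlatMod.IsFinLocFreeOfRank (m + 1) E)
    (hQ : FlatMod.IsFinLocFreeOfRank m Q) (hL : PicF.IsInvertible L) (a : L ⟶ E) (b : E ⟶ Q) (hab : a ≫ b = 0)
    (hex : (ShortComplex.mk a b hab).ShortExact) : totC hX hE₁ = lineC hX hL * totC hX hQ := by
  haveI := hX.1
  refine Polynomial.ext fun j => ?_
  cases j with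
  | zero => rw [mul_coeff_zero, coeff_totC, coeff_totC, opC_zero, opC_zero, lineC]; simp only [coeff_add, mul_coeff_zero, coeff_X_zero, mul_zero, coeff_one_zero, mul_one]; exact (add_zero (1 : AddMonoid.End (GCH X δ))).symm
  | succ l =>
    rw [coeff_lineC_mul_succ, coeff_totC, coeff_totC, coeff_totC]
    by_cases hl : l < m + 1
    swap
    · rw [opC_eq_zero hX hE₁ (by omega), opC_eq_zero hX hQ (by omega), opC_eq_zero hX hQ (by omega), mul_zero]
      exact (add_zero (0 : AddMonoid.End (GCH X δ))).symm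
    obtain ⟨v, hv⟩ := H23.RatSec.exists_sections hL
    refine end_ext hX ((l + 1 : ℕ) : ℤ) fun x k α hx => ?_
    obtain ⟨γ, hγ⟩ := IsCapR.exists' hE₁ hX hx.1
    obtain ⟨γ', hγ'⟩ := IsCapR.exists' hQ hX hx.1
    refine ⟨_, _, rep_opC hX hE₁ hx hγ ⟨l + 1, by omega⟩, Rep.add ?_ ?_,
      IsCapR.extend hX hE₁ hQ hL a b hab hex v hv hγ hγ' ⟨l + 1, by omega⟩⟩
    · by_cases hl' : l + 1 < m + 1
      · rw [show (⟨l + 1, by omega⟩ : Fin (m + 1 + 1)) = Fin.castSucc (⟨l + 1, hl'⟩ : Fin (m + 1)) from Fin.ext rfl,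
          Fin.snoc_castSucc]
        exact rep_opC hX hQ hx hγ' ⟨l + 1, hl'⟩
      · rw [show (⟨l + 1, by omega⟩ : Fin (m + 1 + 1)) = Fin.last (m + 1) from Fin.ext (by simp; omega),
          Fin.snoc_last, opC_eq_zero hX hQ (by omega)]
        exact Rep.zero _
    · rw [show (⟨l + 1, by omega⟩ : Fin (m + 1 + 1)) = Fin.succ (⟨l, hl⟩ : Fin (m + 1)) from Fin.ext rfl,
        Fin.cons_succ]
      have h := rep_opL hX hL (rep_opC hX hQ hx hγ' ⟨l, hl⟩) v hv
      rwa [show k - ((l : ℕ) : ℤ) - 1 = k - ((l + 1 : ℕ) : ℤ) by push_cast; ring] at h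

include hX in
theorem totC_line {L : X.Modules} (hL : PicF.IsInvertible L) :
    totC hX (InvEnd.isFinLocFreeOfRank_one hL) = lineC hX hL := by
  have hz : IsZero (cokernel (𝟙 L)) := isZero_cokernel_of_epi _
  have hQ := isFinLocFreeOfRank_zero_of_isZero hz
  have hse : (ShortComplex.mk (𝟙 L) (cokernel.π (𝟙 L)) (cokernel.condition _)).ShortExact :=
    { exact := ShortComplex.exact_cokernel _ }
  rw [totC_extend hX (m := 0) (InvEnd.isFinLocFreeOfRank_one hL) hQ hL (𝟙 L) _ _ hse, totC_of_rank_zero, mul_one]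

end Classes

end Groth.Agent.H9PB
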