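import Groth.Agent.H9PB.ChernBasic
import Groth.Agent.H23.C1Pull
import Groth.Agent.H23.C1Push
import Groth.Agent.H23.FlatPushPull
import Groth.Agent.FibDim.RelDim

/-! Chern caps commute with proper push-forward and flat pull-back. -/

set_option autoImplicit false
set_option linter.style.haveILetI false
set_option linter.unusedSectionVars false
set_option backward.isDefEq.respectTransparency false
set_option backward.isDefEq.respectTransparency.types false
set_option maxHeartbeats 800000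

universe u

open AlgebraicGeometry CategoryTheory CategoryTheory.Limits TopologicalSpace

namespace Groth.Agent.H9PB

open Groth.Agent

section Generic

variable {X X' : Scheme.{u}} [IsLocallyNoetherian X] [IsLocallyNoetherian X'] (g : X' ⟶ X) [Flat g] {δ : X → ℤ}
  {δ' : X' → ℤ} {c : ℤ} (hc : H23.FlatShift.HasShift g δ' δ c) (hd' : Cyc.IsDimFun X' δ')

/-- Flat pull-back as a homomorphism of cycles. -/
noncomputable def flatAdd : AlgebraicCycle X ℤ →+ AlgebraicCycle X' ℤ :=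
  AddMonoidHom.mk' (fun a => H23.FlatClass.pullCycle hc hd' a) fun a b =>
    DFunLike.coe_injective (by
      rw [Function.locallyFinsuppWithin.coe_add]
      exact Bivar.pullFun_add g δ' δ c ⇑a ⇑b)

theorem coe_flatAdd (a : AlgebraicCycle X ℤ) : ⇑(flatAdd g hc hd' a) = Cyc.pullFun g δ' δ c ⇑a := rfl

theorem flatAdd_mem {k : ℤ} {a : AlgebraicCycle X ℤ} (ha : a ∈ Cyc.Zk X δ k) :
    flatAdd g hc hd' a ∈ Cyc.Zk X' δ' (k + c) := H23.FlatClass.pullCycle_mem hc hd' ha rfl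

theorem flatAdd_ratSub (hX : Cyc.IsSetup X δ) (hX' : Cyc.IsSetup X' δ') {k : ℤ} {a : AlgebraicCycle X ℤ}
    (h : a ∈ ratSub hX k) : flatAdd g hc hd' a ∈ ratSub hX' (k + c) :=
  H23.DivPull.ratEquivZero_pull g hc hX.2.2 hX'.2.2 h _ rfl

variable {L : X.Modules} (hL : PicF.IsInvertible L) (hd : Cyc.IsDimFun X δ)
  (t : ℕ → (ξ : X) → Cyc.secFibre L ξ) (ht : ∀ m ξ, t m ξ ≠ 0)

theorem flatAdd_powHom (i : ℕ) (a : AlgebraicCycle X ℤ) :
    flatAdd g hc hd' (powHom hL hd t ht i a) =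
      powHom (PicClLib.isInvertible_pullback g hL) hd' (fun m => H23.C1Pull.vPull g L (t m))
        (fun m => H23.C1Pull.vPull_ne_zero hL (ht m)) i (flatAdd g hc hd' a) := by
  induction i with
  | zero => rfl
  | succ i ih =>
    show flatAdd g hc hd' (H23.RatSec.c1CapCycle hL hd (powHom hL hd t ht i a) (t i) (ht i)) = _
    refine DFunLike.coe_injective ?_
    show _ = ⇑(H23.RatSec.c1CapCycle (PicClLib.isInvertible_pullback g hL) hd' (powHom (PicClLib.isInvertible_pullback g hL) hd'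
      (fun m => H23.C1Pull.vPull g L (t m)) (fun m => H23.C1Pull.vPull_ne_zero hL (ht m)) i (flatAdd g hc hd' a))
      (H23.C1Pull.vPull g L (t i)) (H23.C1Pull.vPull_ne_zero hL (ht i)))
    rw [coe_flatAdd, H23.RatSec.coe_c1CapCycle, H23.RatSec.coe_c1CapCycle, ← ih, coe_flatAdd]
    exact H23.C1Pull.pullFun_c1CapFun hL (PicClLib.isInvertible_pullback g hL) hc hd hd'
      (H23.GysinLib.locFin _) (ht i)

end Generic

section Push

variable {X Y : Scheme.{u}} [IsLocallyNoetherian X] [IsLocallyNoetherian Y] (f : X ⟶ Y) [IsProper f]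
  {δX : X → ℤ} {δY : Y → ℤ} (hdX : Cyc.IsDimFun X δX) (hdY : Cyc.IsDimFun Y δY)
  (hf : Cyc.DeltaCompat f δX δY) {L : Y.Modules} (hL : PicF.IsInvertible L)
  (t : ℕ → (ξ : Y) → Cyc.secFibre L ξ) (ht : ∀ m ξ, t m ξ ≠ 0)

/-- Push-forward as a homomorphism of cycles. -/
noncomputable def pushAdd (δX : X → ℤ) (δY : Y → ℤ) : AlgebraicCycle X ℤ →+ AlgebraicCycle Y ℤ :=
  AddMonoidHom.mk' (AlgebraicCycle.map f δX δY) (Bivar.cycMap_add f δX δY)

include hf in
theorem pushAdd_powHom (i : ℕ) (a : AlgebraicCycle X ℤ) :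
    pushAdd f δX δY (powHom (PicClLib.isInvertible_pullback f hL) hdX (fun m => H23.C1Pull.vPull f L (t m))
        (fun m => H23.C1Pull.vPull_ne_zero hL (ht m)) i a) =
      powHom hL hdY t ht i (pushAdd f δX δY a) := by
  induction i with
  | zero => rfl
  | succ i ih =>
    refine DFunLike.coe_injective ?_
    show ⇑(AlgebraicCycle.map f δX δY (H23.RatSec.c1CapCycle (PicClLib.isInvertible_pullback f hL) hdX _
      (H23.C1Pull.vPull f L (t i)) (H23.C1Pull.vPull_ne_zero hL (ht i)))) =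
      ⇑(H23.RatSec.c1CapCycle hL hdY (powHom hL hdY t ht i (pushAdd f δX δY a)) (t i) (ht i))
    rw [H23.RatSec.coe_c1CapCycle, ← ih]
    exact H23.C1Push.map_c1Cap hL hdX hdY hf _ (ht i)

end Push

namespace Charted

variable {X Y P P' : Scheme.{u}} {π : P ⟶ Y} {π' : P' ⟶ X} {f : X ⟶ Y} {f' : P' ⟶ P} {O1 : P.Modules} {n : ℕ}
  (hfr : Charted π O1 n) (hfr' : Charted π' ((Scheme.Modules.pullback f').obj O1) n) [IsProper π] [IsProper π']
  (hL : PicF.IsInvertible O1) {δX : X → ℤ} {δY : Y → ℤ} {δP : P → ℤ} {δP' : P' → ℤ} (hX : Cyc.IsSetup X δX)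
  (hY : Cyc.IsSetup Y δY) (hP : Cyc.IsSetup P δP) (hP' : Cyc.IsSetup P' δP') (hπ : Cyc.DeltaCompat π δP δY)
  (hπ' : Cyc.DeltaCompat π' δP' δX) (hf : Cyc.DeltaCompat f δX δY) (hsq : IsPullback f' π' π f)

include hsq hπ hπ' hf in
theorem deltaCompat_top [LocallyOfFiniteType f] : Cyc.DeltaCompat f' δP' δP := by
  haveI : LocallyOfFiniteType f' := MorphismProperty.of_isPullback hsq.flip ‹_›
  intro x
  refine ⟨FibDim.rd f' x, (VarDim.rdeg.eq_def f' x).symm.trans (FibDim.rd_eq_rdeg f' x).symm, ?_⟩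
  have h1 := CycLib.deltaCompat_eq π' hπ' x
  have h2 := CycLib.deltaCompat_eq f hf (π' x)
  have h3 := CycLib.deltaCompat_eq π hπ (f' x)
  have h4 : FibDim.rd (f' ≫ π) x = FibDim.rd (π' ≫ f) x := by rw [hsq.w]
  rw [FibDim.rd_comp, FibDim.rd_comp] at h4
  have h5 : π (f' x) = f (π' x) := by rw [← Scheme.Hom.comp_apply, hsq.w, Scheme.Hom.comp_apply]
  rw [h5] at h3
  omega

include hsq hπ hπ' hf in
/-- Push-forward commutes with the relation. -/
theorem pushAdd_rel [IsProper f] {k : ℤ} {γ : Fin (n + 2) → AlgebraicCycle X ℤ}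
    (hγ : ∀ j : Fin (n + 2), γ j ∈ Cyc.Zk X δX (k - ((j : ℕ) : ℤ)))
    (h : hfr'.rel (PicClLib.isInvertible_pullback f' hL) hX hP' hπ' γ ∈ ratSub hP' (k - 1)) :
    hfr.rel hL hY hP hπ (fun j => pushAdd f δX δY (γ j)) ∈ ratSub hP (k - 1) := by
  haveI := hX.1
  haveI := hY.1
  haveI := hP.1
  haveI := hP'.1
  haveI : IsProper f' := MorphismProperty.of_isPullback hsq.flip ‹_›
  have hf' := deltaCompat_top hπ hπ' hf hsq
  let t' : ℕ → (ξ : P') → Cyc.secFibre ((Scheme.Modules.pullback f').obj O1) ξ :=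
    fun m => H23.C1Pull.vPull f' O1 (hfr.sec hL m)
  have ht' : ∀ m ξ, t' m ξ ≠ 0 := fun m => H23.C1Pull.vPull_ne_zero hL (hfr.sec_ne_zero hL m)
  have h1 := (add_mem_cancel_right (neg_mem h)).1 (by
    rw [← sub_eq_add_neg]
    exact hfr'.relWith_sub_rel (PicClLib.isInvertible_pullback f' hL) hX hP' hπ' hγ t' ht')
  have h2 : pushAdd f' δP' δP _ ∈ ratSub hP (k - 1) := CycLib.ratEquivZero_map f' hP' hP hf' h1
  rw [map_sum] at h2
  rw [rel_apply]
  refine Eq.mp (congrArg (fun x => x ∈ ratSub hP (k - 1)) (Finset.sum_congr rfl fun i _ => ?_)) h2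
  rw [map_zsmul, pushAdd_powHom f' hP'.2.2 hP.2.2 hf' hL (hfr.sec hL) (hfr.sec_ne_zero hL)]
  refine congrArg _ (congrArg _ (DFunLike.coe_injective ?_))
  exact (H23.FlatShift.map_pullFun_baseChange hsq.flip (hfr.hasShift hP.2.2 hπ) hP.2.2 hf hf' (γ (Fin.rev i))
    (hfr'.pullAdd hX hP' hπ' (γ (Fin.rev i))) rfl).symm

include hsq hπ hπ' hf in
/-- Flat pull-back commutes with the relation. -/
theorem flatAdd_rel [Flat f] [LocallyOfFiniteType f] {c : ℕ} (hrel : Cyc.HasRelDim f c) {k : ℤ}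
    {γ : Fin (n + 2) → AlgebraicCycle Y ℤ}
    (hγ : ∀ j : Fin (n + 2), γ j ∈ Cyc.Zk Y δY (k - ((j : ℕ) : ℤ)))
    (h : hfr.rel hL hY hP hπ γ ∈ ratSub hP (k - 1)) :
    haveI := hX.1
    haveI := hY.1
    hfr'.rel (PicClLib.isInvertible_pullback f' hL) hX hP' hπ'
      (fun j => flatAdd f (H23.FlatShift.hasShift_of_hasRelDim f hrel hf) hX.2.2 (γ j)) ∈ ratSub hP' (k + c - 1) := by
  haveI := hX.1
  haveI := hY.1
  haveI := hP.1
  haveI := hP'.1
  haveI : Flat f' := MorphismProperty.of_isPullback hsq.flip ‹_›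
  haveI : LocallyOfFiniteType f' := MorphismProperty.of_isPullback hsq.flip ‹_›
  haveI := hfr.flat
  haveI := hfr'.flat
  have hf' := deltaCompat_top hπ hπ' hf hsq
  have hrel' : Cyc.HasRelDim f' c := FibDim.hasRelDim_baseChange hsq.flip hrel
  let hc' := H23.FlatShift.hasShift_of_hasRelDim f' hrel' hf'
  have hdeg : ∀ j : Fin (n + 2), flatAdd f (H23.FlatShift.hasShift_of_hasRelDim f hrel hf) hX.2.2 (γ j) ∈
      Cyc.Zk X δX (k + c - ((j : ℕ) : ℤ)) := fun j => by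
    have := flatAdd_mem f (H23.FlatShift.hasShift_of_hasRelDim f hrel hf) hX.2.2 (hγ j)
    rwa [show k - ((j : ℕ) : ℤ) + c = k + c - ((j : ℕ) : ℤ) by ring] at this
  have h1 : flatAdd f' hc' hP'.2.2 (hfr.rel hL hY hP hπ γ) ∈ ratSub hP' (k + c - 1) := by
    rw [show k + (c : ℤ) - 1 = k - 1 + c by ring]
    exact flatAdd_ratSub f' hc' hP'.2.2 hP hP' h
  have h2 := hfr'.relWith_sub_rel (PicClLib.isInvertible_pullback f' hL) hX hP' hπ' hdeg
    (fun m => H23.C1Pull.vPull f' O1 (hfr.sec hL m)) (fun m => H23.C1Pull.vPull_ne_zero hL (hfr.sec_ne_zero hL m))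
  have h3 := sub_mem h1 h2
  have hkey : ∀ {a b c : AlgebraicCycle P' ℤ}, a = b → a - (b - c) = c := fun h => by rw [h, sub_sub_cancel]
  refine Eq.mp (congrArg (fun x => x ∈ ratSub hP' (k + c - 1)) (hkey ?_)) h3
  rw [rel_apply, map_sum]
  refine Finset.sum_congr rfl fun i _ => ?_
  rw [map_zsmul]
  congr 1
  show flatAdd f' hc' hP'.2.2 (powHom hL hP.2.2 (hfr.sec hL) (hfr.sec_ne_zero hL) i _) = _
  rw [flatAdd_powHom f' hc' hP'.2.2 hL hP.2.2]
  congr 1
  refine DFunLike.coe_injective ?_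
  rw [coe_flatAdd, coe_pullAdd, coe_pullAdd, coe_flatAdd]
  have hle : ∀ x, δX x ≤ δY (f x) + (c : ℤ) := fun x => by
    have := CycLib.rd_le_of_hasRelDim f hrel x
    rw [CycLib.deltaCompat_eq f hf]
    omega
  have hle' : ∀ x, δP' x ≤ δP (f' x) + (c : ℤ) := fun x => by
    have := CycLib.rd_le_of_hasRelDim f' hrel' x
    rw [CycLib.deltaCompat_eq f' hf']
    omega
  rw [H23.FlatShift.pullFun_comp_of_le f' π δP' δP δY hle' (fun y => (hfr.frame (π y)).delta_le_add hπ (hfr.mem_opn _)),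
    H23.FlatShift.pullFun_comp_of_le π' f δP' δX δY (fun x => (hfr'.frame (π' x)).delta_le_add hπ' (hfr'.mem_opn _)) hle,
    add_comm (n : ℤ) (c : ℤ)]
  exact congrArg (fun g => Cyc.pullFun g δP' δY _ ⇑(γ (Fin.rev i))) hsq.w

end Charted

end Groth.Agent.H9PB
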