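import Groth.Agent.H9PB.QuotDiv
import Groth.Agent.H9PB.ChernSub

/-! Chern caps of an extension of a module by a line bundle. -/

set_option autoImplicit false
set_option linter.style.haveILetI false
set_option linter.unusedSectionVars false
set_option backward.isDefEq.respectTransparency false
set_option backward.isDefEq.respectTransparency.types false
set_option maxHeartbeats 1000000

universe u

open AlgebraicGeometry CategoryTheory CategoryTheory.Limits TopologicalSpace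

namespace Groth.Agent.H9PB

open Groth.Agent

/-- Chern caps of an extension by a line bundle. -/
theorem chernCap_subInv {X : Scheme.{u}} {δ : X → ℤ} (hX : Cyc.IsSetup X δ) {m : ℕ} {E F L : X.Modules}
    (hE : FlatMod.IsFinLocFreeOfRank (m + 1) E) (hF : FlatMod.IsFinLocFreeOfRank m F) (hL : PicF.IsInvertible L)
    {P : Scheme.{u}} {p : P ⟶ X} {O1 : P.Modules} {q : (Scheme.Modules.pullback p).obj E ⟶ O1}
    (hP : KRR.IsProjBundle p E O1 q) [IsProper p] {δP : P → ℤ} (hPs : Cyc.IsSetup P δP) (hδ : Cyc.DeltaCompat p δP δ)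
    {Q : Scheme.{u}} {p' : Q ⟶ X} {O1' : Q.Modules} {q' : (Scheme.Modules.pullback p').obj F ⟶ O1'}
    (hQ : KRR.IsProjBundle p' F O1' q') [IsProper p'] {δQ : Q → ℤ} (hQs : Cyc.IsSetup Q δQ)
    (hδ' : Cyc.DeltaCompat p' δQ δ) (a : L ⟶ E) (b : E ⟶ F) (hab : a ≫ b = 0)
    (hex : (ShortComplex.mk a b hab).ShortExact) (t₀ : (ξ : X) → Cyc.secFibre L ξ) (ht₀ : ∀ ξ, t₀ ξ ≠ 0) {k : ℤ}
    {α : AlgebraicCycle X ℤ} {γ : Fin (m + 1 + 1) → AlgebraicCycle X ℤ}
    (hγ : Cyc.IsChernCap p δ δP O1 (m + 1) k α γ) {γ' : Fin (m + 1) → AlgebraicCycle X ℤ}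
    (hγ' : Cyc.IsChernCap p' δ δQ O1' m k α γ') (j : Fin (m + 1 + 1)) :
    haveI := hX.1
    γ j - (Fin.snoc (α := fun _ => AlgebraicCycle X ℤ) γ' 0 j + Fin.cons (α := fun _ => AlgebraicCycle X ℤ) 0
      (fun l => cap1 hL hX.2.2 t₀ ht₀ (γ' l)) j) ∈ ratSub hX (k - ((j : ℕ) : ℤ)) := by
  haveI := hX.1
  haveI := hPs.1
  obtain ⟨h, hhi, N, hN, ⟨eN⟩, s, hh, ⟨e⟩, hZ⟩ := exists_quotient_divisor_inv hE hF hP hQ hL a b hab hex
  haveI := hhi
  have hδh : Cyc.DeltaCompat h (fun d => δP (h d)) δP := H23.GysinLib.deltaCompat_closedImmersion h δP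
  obtain rfl : δQ = fun d => δP (h d) := H23.ChowDesc.deltaCompat_unique p' hδ'
    (hh ▸ CycLib.deltaCompat_closedImmersion_comp h p hδ)
  haveI := hQs.1
  have hfr := charted_of_isProjBundle hP hE
  haveI := hfr.flat
  have hO := Model.isInvertible_of_rank hP.invertible
  have hπL := PicClLib.isInvertible_pullback p hL
  have hNL := InvX.isInvertible_tensorMod hN hπL
  have hc := (hfr.isCap_iff hO hX hPs hδ).1 hγ
  obtain ⟨w, hw⟩ := H23.RatSec.exists_sections hN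
  let lam := cap1 hL hX.2.2 t₀ ht₀
  let c₁ : Fin (m + 1 + 1) → AlgebraicCycle X ℤ := Fin.snoc (α := fun _ => AlgebraicCycle X ℤ) γ' 0
  let c₂ : Fin (m + 1 + 1) → AlgebraicCycle X ℤ :=
    Fin.cons (α := fun _ => AlgebraicCycle X ℤ) 0 (fun l => lam (γ' l))
  have hm₁ : ∀ l : Fin (m + 1 + 1), c₁ l ∈ Cyc.Zk X δ (k - ((l : ℕ) : ℤ)) := by
    intro l
    induction l using Fin.lastCases with
    | last => simp only [c₁, Fin.snoc_last]; exact (ChowOps.zk X δ _).zero_mem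
    | cast l => simp only [c₁, Fin.snoc_castSucc]; exact hγ'.2.1 l
  have hm₂ : ∀ l : Fin (m + 1 + 1), c₂ l ∈ Cyc.Zk X δ (k - ((l : ℕ) : ℤ)) := by
    intro l
    induction l using Fin.cases with
    | zero => simp only [c₂, Fin.cons_zero]; exact (ChowOps.zk X δ _).zero_mem
    | succ l =>
      simp only [c₂, Fin.cons_succ, Fin.val_succ, Nat.cast_succ]
      rw [show k - (((l : ℕ) : ℤ) + 1) = k - ((l : ℕ) : ℤ) - 1 by ring]
      exact cap1_mem hL hX.2.2 t₀ ht₀ (hγ'.2.1 l)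
  suffices hrel : hfr.rel hO hX hPs hδ (c₁ + c₂) ∈ ratSub hPs (k - 1) by
    refine hfr.isCap_unique hO hX hPs hδ hc.mem (fun l => (ChowOps.zk X δ _).add_mem (hm₁ l) (hm₂ l))
      (sub_mem hc.rel hrel) ?_ j
    have hc0 : c₁ (0 : Fin (m + 1)).castSucc = α := by simp only [c₁, Fin.snoc_castSucc]; exact hγ'.1
    rw [hc.zero, show c₁ 0 = α from hc0, show c₂ 0 = 0 from rfl, add_zero, sub_self]
    exact zero_mem _
  have hA : ∀ (l : ℕ) {D : ℤ} {x : AlgebraicCycle X ℤ}, x ∈ Cyc.Zk X δ D →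
      hfr.term hO hX hPs hδ (l + 1) x - hfr.term hO hX hPs hδ l (lam x) -
        powHom hO hPs.2.2 (hfr.sec hO) (hfr.sec_ne_zero hO) l
          (pushAdd h (fun d => δP (h d)) δP (gysAdd hPs hN h s hw (hfr.pullAdd hX hPs hδ x))) ∈
        ratSub hPs (D + m - (l + 1 : ℕ)) := by
    intro l D x hx
    let t := hfr.sec hO
    have ht := hfr.sec_ne_zero hO
    let b := hfr.pullAdd hX hPs hδ x
    have hb : b ∈ Cyc.Zk P δP (D + m) := hfr.pullAdd_mem hX hPs hδ hx
    have hvL : ∀ ξ, H23.C1Pull.vPull p L t₀ ξ ≠ 0 := H23.C1Pull.vPull_ne_zero hL ht₀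
    have he1 : hfr.pullAdd hX hPs hδ (lam x) = cap1 hπL hPs.2.2 (H23.C1Pull.vPull p L t₀) hvL b :=
      DFunLike.coe_injective (by
        rw [Charted.coe_pullAdd, coe_cap1, coe_cap1, Charted.coe_pullAdd]
        exact H23.C1Pull.pullFun_c1CapFun hL hπL (hfr.hasShift hPs.2.2 hδ) hX.2.2 hPs.2.2
          (H23.GysinLib.locFin _) ht₀)
    have hg := H23.GysinLib.gysinChoice_ne_zero (L := N) s hw
    have he2 : pushAdd h (fun d => δP (h d)) δP (gysAdd hPs hN h s hw b) =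
        cap1 hN hPs.2.2 (Cyc.gysinChoice N s w) hg b := DFunLike.coe_injective (by
      rw [coe_cap1]
      exact H23.GysinLib.map_gysinCycle hN hPs.2.2 hZ b hw)
    have hsT : ∀ ξ, H23.RatSec.mapSec eN.symm ξ (t 0 ξ) ≠ 0 := H23.RatSec.mapSec_ne_zero eN.symm (ht 0)
    have h1 : cap1 hN hPs.2.2 (Cyc.gysinChoice N s w) hg b + cap1 hπL hPs.2.2 (H23.C1Pull.vPull p L t₀) hvL b -
        powHom hO hPs.2.2 t ht 1 b ∈ ratSub hPs (D + m - 1) :=
      H23.RatSecTensor.ratEquiv_c1Cap_tensor hN hπL hPs.2.2 (α := ⇑b) (fun ξ hξ => hb ξ (by omega))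
        (H23.GysinLib.locFin b) hg hvL hsT (coe_cap1 _ _ _ _ _) (coe_cap1 _ _ _ _ _) (by
          rw [coe_powHom]
          exact (H23.RatSec.c1CapFun_mapSec eN.symm hO hNL hPs.2.2 ⇑b (ht 0)).symm)
    rw [← he1, ← he2] at h1
    have hlam := hfr.pullAdd_mem hX hPs hδ (cap1_mem hL hX.2.2 t₀ ht₀ hx)
    have hG : gysAdd hPs hN h s hw b ∈ Cyc.Zk Q (fun d => δP (h d)) (D + m - 1) := gysAdd_mem hPs hN h s hw hb
    have hP1 := powHom_mem hO hPs.2.2 t ht hb 1
    rw [show D - 1 + (m : ℤ) = D + m - 1 by ring] at hlam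
    have h2 := powHom_ratEquiv hPs hO ((ChowOps.zk P δP _).sub_mem hP1 hlam) (pushAdd_mem h _ δP hG)
      (show Cyc.RatEquiv δP (D + m - 1) _ _ by
        have := neg_mem h1
        rw [neg_sub] at this
        rw [Cyc.RatEquiv, sub_sub, add_comm (hfr.pullAdd hX hPs hδ (lam x))]
        exact this) ht ht l
    have h3 := powHom_ratEquiv hPs hO (powHom_mem hO hPs.2.2 t ht hb 1) (powHom_mem hO hPs.2.2 t ht hb 1)
      (by rw [Cyc.RatEquiv, sub_self]; exact (ratSub hPs _).zero_mem) (fun i => ht (1 + i)) ht l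
    rw [← powHom_add, add_comm 1 l] at h3
    rw [map_sub] at h2
    rw [show D + (m : ℤ) - ((1 : ℕ) : ℤ) - (l : ℤ) = D + m - ((l + 1 : ℕ) : ℤ) by push_cast; ring] at h2
    rw [show D + (m : ℤ) - ((1 : ℕ) : ℤ) - (l : ℤ) = D + m - ((l + 1 : ℕ) : ℤ) by push_cast; ring] at h3
    have h2' := (mem_ratSub (hX := hPs)).2 h2
    have h3' := (mem_ratSub (hX := hPs)).2 h3
    have h4 := add_mem h3' h2'
    refine (congrArg (fun z => z ∈ ratSub hPs (D + m - ((l + 1 : ℕ) : ℤ))) ?_).mp h4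
    simp only [Charted.term, AddMonoidHom.comp_apply]
    abel
  have hsplit : hfr.rel hO hX hPs hδ (c₁ + c₂) = ∑ l : Fin (m + 1), -(((-1 : ℤ) ^ (l : ℕ)) •
      (hfr.term hO hX hPs hδ ((l : ℕ) + 1) (γ' (Fin.rev l)) -
        hfr.term hO hX hPs hδ l (lam (γ' (Fin.rev l))))) := by
    have e1 : hfr.rel hO hX hPs hδ c₁ = ∑ l : Fin (m + 1), -(((-1 : ℤ) ^ (l : ℕ)) •
        hfr.term hO hX hPs hδ ((l : ℕ) + 1) (γ' (Fin.rev l))) := by
      rw [Charted.rel_apply, Fin.sum_univ_succ, Fin.rev_zero, show c₁ (Fin.last (m + 1)) = 0 by simp [c₁],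
        map_zero, smul_zero, zero_add]
      refine Finset.sum_congr rfl fun l _ => ?_
      rw [Fin.rev_succ, show c₁ (Fin.rev l).castSucc = γ' (Fin.rev l) by simp [c₁], Fin.val_succ, zsmul_succ]
    have e2 : hfr.rel hO hX hPs hδ c₂ = ∑ l : Fin (m + 1), ((-1 : ℤ) ^ (l : ℕ)) •
        hfr.term hO hX hPs hδ l (lam (γ' (Fin.rev l))) := by
      rw [Charted.rel_apply, Fin.sum_univ_castSucc, Fin.rev_last, show c₂ 0 = 0 from rfl, map_zero, smul_zero,
        add_zero]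
      refine Finset.sum_congr rfl fun l _ => ?_
      rw [Fin.rev_castSucc, show c₂ (Fin.rev l).succ = lam (γ' (Fin.rev l)) by simp [c₂], Fin.val_castSucc]
    rw [map_add, e1, e2, ← Finset.sum_add_distrib]
    refine Finset.sum_congr rfl fun l _ => ?_
    rw [smul_sub, neg_sub]
    abel
  rw [hsplit]
  cases m with
  | zero =>
    haveI := isEmpty_bundle hQ hF
    refine sum_mem fun l _ => neg_mem (zsmul_mem ?_ _)
    have h1 := hA (l : ℕ) (hγ'.2.1 (Fin.rev l))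
    rw [show gysAdd hPs hN h s hw _ = 0 from DFunLike.coe_injective (funext fun d => isEmptyElim d),
      map_zero, map_zero, sub_zero] at h1
    obtain rfl : l = 0 := Fin.ext (Nat.lt_one_iff.1 l.2)
    rw [show k - ((Fin.rev (0 : Fin (0 + 1)) : ℕ) : ℤ) + ((0 : ℕ) : ℤ) - (((0 : Fin (0 + 1)) : ℕ) + 1 : ℕ) = k - 1
      by simp] at h1
    exact h1
  | succ n =>
    have hfr0 := charted_of_isProjBundle hQ hF
    have hO'' := Model.isInvertible_of_rank hQ.invertible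
    have hO' := PicClLib.isInvertible_pullback h hO
    have hfrQ : Charted p' ((Scheme.Modules.pullback h).obj O1) n := by
      have := charted_of_iso hQ hF (𝟙 Q) ((Scheme.Modules.pullbackId Q).app O1' ≪≫ e.symm)
      rwa [Category.id_comp] at this
    have hc' := (hfrQ.isCap_iff hO' hX hQs hδ').1
      (isChernCap_of_iso e.symm hfr0 hfrQ hX hQs hδ' hO'' hO' hγ')
    haveI : Flat (h ≫ p) := hh ▸ hfrQ.flat
    have hleD : ∀ d, δP (h d) ≤ δ (p (h d)) + n := fun d => by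
      have := hfrQ.delta_le_add hδ' d
      rw [← hh, Scheme.Hom.comp_apply] at this
      exact this
    have hgen : ∀ η : X, H23.RatSec.cls N (hfr.gpt η 0) (N.presheaf.germ ⊤ (hfr.gpt η 0) trivial s) ≠ 0 := by
      intro η h0
      have hr : hfr.gpt η 0 ∈ Set.range h := by rw [hZ.1]; exact h0
      obtain ⟨d, hd⟩ := hr
      have h1 := hleD d
      rw [hd, hfr.delta_gpt hPs.2.2 hδ, hfr.p_gpt] at h1
      simp at h1
    have hreg := hfr.injective_smul_germ hN s hgen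
    have hpull : ∀ {D : ℤ} {x : AlgebraicCycle X ℤ}, x ∈ Cyc.Zk X δ D →
        gysAdd hPs hN h s hw (hfr.pullAdd hX hPs hδ x) = hfrQ.pullAdd hX hQs hδ' x := fun {D x} hx =>
      DFunLike.coe_injective (funext fun d => by
        rw [gysAdd_apply, Charted.coe_pullAdd, Charted.coe_pullAdd]
        have h5 := H23.CapFlat.c1CapFun_pull_gysin (r := n) hPs.2.2 hX.2.2 p
          (fun y => by have := hfr.delta_le_add hδ y; exact this) hN hreg h hZ hleD (k := D - 1) (α := ⇑x)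
          (fun y hy => hx y (by omega)) w d
        simp only [hh] at h5
        convert h5 using 3
        push_cast
        rfl)
    let Ψ : ℕ → AlgebraicCycle X ℤ →+ AlgebraicCycle P ℤ := fun l =>
      (pushAdd h (fun d => δP (h d)) δP).comp (hfrQ.term hO' hX hQs hδ' l)
    have hP' : ∑ l : Fin (n + 1 + 1), -(((-1 : ℤ) ^ (l : ℕ)) • Ψ l (γ' (Fin.rev l))) ∈ ratSub hPs (k - 1) := by
      have h1 : -(pushAdd h (fun d => δP (h d)) δP (hfrQ.rel hO' hX hQs hδ' γ')) ∈ ratSub hPs (k - 1) :=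
        neg_mem (pushAdd_ratSub h hQs hPs hδh hc'.rel)
      rw [Charted.rel_apply, map_sum, ← Finset.sum_neg_distrib] at h1
      simpa [Ψ, map_zsmul] using h1
    have hd : ∑ l : Fin (n + 1 + 1), -(((-1 : ℤ) ^ (l : ℕ)) •
        (hfr.term hO hX hPs hδ ((l : ℕ) + 1) (γ' (Fin.rev l)) -
          hfr.term hO hX hPs hδ l (lam (γ' (Fin.rev l))))) -
        ∑ l : Fin (n + 1 + 1), -(((-1 : ℤ) ^ (l : ℕ)) • Ψ l (γ' (Fin.rev l))) ∈ ratSub hPs (k - 1) := by
      rw [← Finset.sum_sub_distrib]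
      refine sum_mem fun l _ => ?_
      rw [← neg_sub', ← smul_sub]
      refine neg_mem (zsmul_mem ?_ _)
      let t := hfr.sec hO
      have ht := hfr.sec_ne_zero hO
      let x := γ' (Fin.rev l)
      have hx : x ∈ Cyc.Zk X δ (k - ((Fin.rev l : ℕ) : ℤ)) := hc'.mem (Fin.rev l)
      have h1 := hA (l : ℕ) hx
      rw [hpull hx, ← pushAdd_powHom h hQs.2.2 hPs.2.2 hδh hO t ht] at h1
      have hzD := hfrQ.pullAdd_mem hX hQs hδ' hx
      have h3 := pushAdd_ratSub h hQs hPs hδh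
        (powHom_ratEquiv hQs hO' hzD hzD (by rw [Cyc.RatEquiv, sub_self]; exact (ratSub hQs _).zero_mem)
          (fun i => H23.C1Pull.vPull_ne_zero hO (ht i)) (hfrQ.sec_ne_zero hO') (l : ℕ))
      rw [map_sub] at h3
      rw [show k - ((Fin.rev l : ℕ) : ℤ) + ((n + 1 : ℕ) : ℤ) - (((l : ℕ) + 1 : ℕ) : ℤ) = k - 1 by
        have := Charted.deg_rev (n := n) k l; push_cast; omega] at h1
      rw [show k - ((Fin.rev l : ℕ) : ℤ) + (n : ℤ) - ((l : ℕ) : ℤ) = k - 1 from Charted.deg_rev k l] at h3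
      have h4 := add_mem h1 h3
      rw [sub_add_sub_cancel] at h4
      exact h4
    have h7 := add_mem hd hP'
    rwa [sub_add_cancel] at h7

end Groth.Agent.H9PB
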