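import Groth.Agent.H9PB.CorankAlg
import Groth.Agent.H9PB.CutDivisor
import Groth.Agent.SymSh.Spec
import Groth.Agent.ExtPowSh.Model
import Groth.Agent.RelSpecX.Spec
import Groth.Agent.H9A1.Main
import Groth.Agent.S12170
import Mathlib.AlgebraicGeometry.AffineSpace

/-! A sub-bundle with trivial quotient line pushes cycles to zero. -/

set_option autoImplicit false
set_option linter.style.haveILetI false
set_option linter.unusedSectionVars false
set_option backward.isDefEq.respectTransparency false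
set_option backward.isDefEq.respectTransparency.types false
set_option maxHeartbeats 1600000

universe u

open CategoryTheory CategoryTheory.Limits AlgebraicGeometry TopologicalSpace Opposite

attribute [-instance] CategoryTheory.catToReflQuiver

noncomputable section

namespace Groth.Agent.H9PB.Corank

open Groth.Agent

/-! ### Bundles of affine spaces -/

section charts

variable {V Y : Scheme.{u}} (f : V ⟶ Y)

/-- `f` is, locally on the base, an affine space of the given index type. -/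
def HasCharts (σ : Type u) : Prop :=
  ∀ y : Y, ∃ U : Y.Opens, y ∈ U ∧ ∃ e : (↑(f ⁻¹ᵁ U) : Scheme.{u}) ≅ 𝔸(σ; (↑U : Scheme.{u})),
    e.hom ≫ (𝔸(σ; (↑U : Scheme.{u})) ↘ (↑U : Scheme.{u})) = f ∣_ U

theorem exists_chart_restrict {σ : Type u} {W U : Y.Opens} (hle : U ≤ W)
    (e : (↑(f ⁻¹ᵁ U) : Scheme.{u}) ≅ 𝔸(σ; (↑U : Scheme.{u})))
    (he : e.hom ≫ (𝔸(σ; (↑U : Scheme.{u})) ↘ (↑U : Scheme.{u})) = f ∣_ U) :
    ∃ e' : (↑((f ∣_ W) ⁻¹ᵁ (W.ι ⁻¹ᵁ U)) : Scheme.{u}) ≅ 𝔸(σ; (↑(W.ι ⁻¹ᵁ U) : Scheme.{u})),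
      e'.hom ≫ (𝔸(σ; (↑(W.ι ⁻¹ᵁ U) : Scheme.{u})) ↘ (↑(W.ι ⁻¹ᵁ U) : Scheme.{u})) = (f ∣_ W) ∣_ (W.ι ⁻¹ᵁ U) := by
  have hU : W.ι ''ᵁ (W.ι ⁻¹ᵁ U) = U := by
    rw [Scheme.Hom.image_preimage_eq_opensRange_inf, Scheme.Opens.opensRange_ι, inf_eq_right.2 hle]
  let α := morphismRestrictRestrict f W (W.ι ⁻¹ᵁ U) ≪≫ morphismRestrictEq f hU
  let l := Arrow.leftFunc.mapIso α
  let r := Arrow.rightFunc.mapIso α
  haveI : IsIso (AffineSpace.map σ r.inv) :=
    ⟨AffineSpace.map _ r.hom, by rw [← AffineSpace.map_comp, Iso.inv_hom_id, AffineSpace.map_id],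
      by rw [← AffineSpace.map_comp, Iso.hom_inv_id, AffineSpace.map_id]⟩
  refine ⟨l ≪≫ e ≪≫ asIso (AffineSpace.map σ r.inv), ?_⟩
  simp only [Iso.trans_hom, Category.assoc, asIso_hom, AffineSpace.map_over]
  rw [reassoc_of% he]
  have h1 : l.hom ≫ (f ∣_ U) = ((f ∣_ W) ∣_ (W.ι ⁻¹ᵁ U)) ≫ r.hom := Arrow.w α.hom
  rw [reassoc_of% h1, Iso.hom_inv_id, Category.comp_id]

variable {f} {σ : Type u}

theorem HasCharts.flat (h : HasCharts f σ) : Flat f := by
  choose U hU e he using h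
  refine IsZariskiLocalAtTarget.of_iSup_eq_top U
    (top_le_iff.1 fun y _ => TopologicalSpace.Opens.mem_iSup.2 ⟨y, hU y⟩) fun y => ?_
  rw [← he y]
  haveI := S12170.flat_affineSpace σ (↑(U y) : Scheme.{u})
  infer_instance

theorem HasCharts.hasShift [LocallyOfFiniteType f] [Finite σ] (h : HasCharts f σ) {δV : V → ℤ} {δY : Y → ℤ}
    (hδ : Cyc.DeltaCompat f δV δY) : H23.FlatShift.HasShift f δV δY (Nat.card σ : ℤ) := by
  intro x hx
  obtain ⟨U, hU, e, he⟩ := h (f x)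
  let ε := H9A1.fiberBundleIso f σ U (f x) hU e he
  haveI : Nonempty (f.fiber (f x)) := ⟨f.asFiber x⟩
  haveI := isIntegral_of_isOpenImmersion ε.hom
  let g := genericPoint (f.fiber (f x))
  have hg : f.fiberι (f x) g ⤳ x := by
    have := (genericPoint_specializes (f.asFiber x)).map (f.fiberι (f x)).continuous
    rwa [Scheme.Hom.fiberι_asFiber] at this
  have heq := hx _ (FibDim.fiber_apply_fiberι f g) hg
  rw [CycLib.deltaCompat_eq f hδ, ← heq, H9A1.rd_genericPoint f (f x) ε, FibDim.fiber_apply_fiberι]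

end charts

/-- Polynomial charts of a relative spectrum are affine spaces. -/
theorem exists_chart_of_iso {X : Scheme.{u}} (A : RelSpec.QCAlg X) {U : X.Opens} (hU : IsAffineOpen U) {σ : Type u}
    (ψ : A.presheaf.obj (op U) ≃+* MvPolynomial σ Γ(X, U))
    (hψ : ∀ r, ψ (A.str.app (op U) r) = MvPolynomial.C r) :
    ∃ e : (↑(A.π ⁻¹ᵁ U) : Scheme.{u}) ≅ 𝔸(σ; (↑U : Scheme.{u})),
      e.hom ≫ (𝔸(σ; (↑U : Scheme.{u})) ↘ (↑U : Scheme.{u})) = A.π ∣_ U := by
  let R : CommRingCat.{u} := Γ(X, U)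
  let ψ' : A.presheaf.obj (op U) ≅ CommRingCat.of (MvPolynomial σ R) := ψ.toCommRingCatIso
  have hψ' : A.str.app (op U) ≫ ψ'.hom = CommRingCat.ofHom MvPolynomial.C :=
    CommRingCat.hom_ext (RingHom.ext hψ)
  have hr : Set.range (A.π ⁻¹ᵁ U).ι = Set.range (A.ι U hU) := by
    rw [Scheme.Opens.range_ι, A.π_preimage U hU]
    rfl
  let g : (↑(A.π ⁻¹ᵁ U) : Scheme.{u}) ≅ Spec (A.presheaf.obj (op U)) :=
    IsOpenImmersion.isoOfRangeEq (A.π ⁻¹ᵁ U).ι (A.ι U hU) hr
  haveI : IsIso (AffineSpace.map σ hU.isoSpec.inv) :=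
    ⟨AffineSpace.map _ hU.isoSpec.hom, by rw [← AffineSpace.map_comp, Iso.inv_hom_id, AffineSpace.map_id],
      by rw [← AffineSpace.map_comp, Iso.hom_inv_id, AffineSpace.map_id]⟩
  refine ⟨g ≪≫ (Scheme.Spec.mapIso ψ'.op).symm ≪≫ (AffineSpace.SpecIso σ R).symm ≪≫
    asIso (AffineSpace.map σ hU.isoSpec.inv), ?_⟩
  simp only [Iso.trans_hom, Category.assoc, asIso_hom, Iso.symm_hom, AffineSpace.map_over]
  rw [AffineSpace.SpecIso_inv_over_assoc, ← cancel_mono U.ι]
  simp only [Category.assoc, morphismRestrict_ι, IsAffineOpen.isoSpec_inv_ι]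
  have h1 : (Scheme.Spec.mapIso ψ'.op).inv = Spec.map ψ'.inv := rfl
  have h2 : Spec.map ψ'.inv ≫ Spec.map (CommRingCat.ofHom MvPolynomial.C) = Spec.map (A.str.app (op U)) := by
    rw [← Spec.map_comp, ← hψ', Category.assoc, Iso.hom_inv_id, Category.comp_id]
  rw [h1, reassoc_of% h2, ← A.ι_π U hU, ← Category.assoc]
  congr 1
  exact IsOpenImmersion.isoOfRangeEq_hom_fac _ _ hr

/-! ### Charts of the extension -/

variable {X : Scheme.{u}} {S : ShortComplex X.Modules} (hS : S.ShortExact) (e : S.X₁ ≅ Coh.structureModule X)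
  (hqE : Coh.IsQCoh S.X₂) (hqF : Coh.IsQCoh S.X₃) (hF : FlatMod.IsFinLocFree S.X₃) {AE AF : RelSpec.QCAlg X}
  {jE : S.X₂ ⟶ AE.toModule} (hAE : RelSpec.IsSymAlg S.X₂ AE jE) {jF : S.X₃ ⟶ AF.toModule}
  (hAF : RelSpec.IsSymAlg S.X₃ AF jF) (φ : AE ⟶ AF) (hφ : jE ≫ RelSpec.QCAlg.Hom.toModuleMap φ = S.g ≫ jF)

/-- The equation of the sub-bundle as an element of the algebra. -/
def eqn (U : X.Opens) : AE.presheaf.obj (op U) := (e.inv ≫ S.f ≫ jE).app U (1 : Γ(X, U))

theorem map_eqn {U U' : X.Opens} (h : U' ≤ U) :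
    AE.presheaf.map (homOfLE h).op (eqn e (jE := jE) U) = eqn e (jE := jE) U' := by
  refine Eq.trans ?_ (congrArg ((e.inv ≫ S.f ≫ jE).app U') (map_one (X.presheaf.map (homOfLE h).op).hom))
  exact (QCoh.map_app_comm (e.inv ≫ S.f ≫ jE) (homOfLE h) (1 : Γ(X, U))).symm

include hS hqE hqF hF hAE hAF hφ in
theorem exists_data (y : X) : ∃ (U : X.Opens) (_ : IsAffineOpen U), y ∈ U ∧
    (∀ x ∈ U, ExtPowSh.rk S.X₃ x = ExtPowSh.rk S.X₃ y) ∧ Function.Surjective (φ.hom.app (op U)) ∧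
    RingHom.ker (φ.hom.app (op U)).hom = Ideal.span {eqn e (jE := jE) U} ∧
    (∀ z, z * eqn e (jE := jE) U = 0 → z = 0) ∧
    ∃ (eA : AE.presheaf.obj (op U) ≃+* MvPolynomial (ULift.{u} (Fin (ExtPowSh.rk S.X₃ y + 1))) Γ(X, U))
      (eB : AF.presheaf.obj (op U) ≃+* MvPolynomial (ULift.{u} (Fin (ExtPowSh.rk S.X₃ y))) Γ(X, U)),
      (∀ r, eA (AE.str.app (op U) r) = MvPolynomial.C r) ∧ ∀ r, eB (AF.str.app (op U) r) = MvPolynomial.C r := by
  obtain ⟨U₀, n, hy₀, ⟨f⟩⟩ := hF y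
  obtain ⟨U, hU, hy, hle⟩ := exists_isAffineOpen_mem_and_subset (U := U₀) (x := y) hy₀
  obtain ⟨l⟩ := QCoh.free_sections hU hle f
  have hrk : ∀ x ∈ U, ExtPowSh.rk S.X₃ x = n := fun x hx => QCoh.finrank_stalk_of_freeChart hU hqF l hx
  obtain rfl : ExtPowSh.rk S.X₃ y = n := hrk y hy
  refine ⟨U, hU, hy, hrk, ?_⟩
  let b : Module.Basis (ULift.{u} (Fin (ExtPowSh.rk S.X₃ y))) Γ(X, U) (S.X₃.val.obj (op U)) :=
    ⟨{ toFun := l, map_add' := map_add l, map_smul' := fun r a => l.map_smul r a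
       invFun := l.symm, left_inv := l.symm_apply_apply, right_inv := l.apply_symm_apply }⟩
  haveI := Module.Free.of_basis b
  haveI : Module.Projective Γ(X, U) (S.X₃.val.obj (op U)) := Module.Projective.of_free
  have h1 : Coh.IsQCoh S.X₁ := KFlatLib.isQCoh_of_iso e.symm QCoh.isQCoh_structureModule
  let g := ExtPowSh.appL S.g U
  obtain ⟨s, hs⟩ := Module.projective_lifting_property g LinearMap.id (QCoh.app_surjective_of_shortExact hS h1 hU)
  have hgs : ∀ z, g (s z) = z := fun z => LinearMap.congr_fun hs z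
  let a : S.X₂.val.obj (op U) := (e.inv ≫ S.f).app U (1 : Γ(X, U))
  have hsmul : ∀ r : Γ(X, U), r • a = (e.inv ≫ S.f).app U r := fun r =>
    ((e.inv ≫ S.f).app_smul r (1 : Γ(X, U))).symm.trans (congrArg _ (mul_one r))
  obtain ⟨sA, hsA, hιA⟩ := SymSh.exists_sec hqE hAE hU
  obtain ⟨sB, hsB, hιB⟩ := SymSh.exists_sec hqF hAF hU
  obtain ⟨hsurj, hker, hreg, eA, eB, hA, hB⟩ := exists_equiv (AE.str.app (op U)).hom (AF.str.app (op U)).hom sA hsA
    sB hsB (fun x => (show AE.presheaf.obj (op U) from jE.val.app (op U) x)) hιA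
    (fun x => (show AF.presheaf.obj (op U) from jF.val.app (op U) x)) hιB (φ.hom.app (op U)).hom
    (fun r => congr($(NatTrans.congr_app φ.comm (op U)) r)) g
    (fun x => congrArg (fun t : S.X₂ ⟶ AF.toModule => t.val.app (op U) x) hφ) a
    (QCoh.app_g_f U _)
    (fun r hr => by
      rw [hsmul] at hr
      have h2 : e.inv.app U r = 0 := QCoh.app_f_injective hS U (hr.trans (map_zero _).symm)
      have h3 := congrArg (e.hom.app U) h2
      rw [map_zero] at h3
      exact (congrArg (fun t => Scheme.Modules.Hom.app t U r) e.inv_hom_id).symm.trans h3)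
    b s hgs (fun x => by
      obtain ⟨z, hz⟩ := QCoh.exists_app_f_eq hS U (x - s (g x)) (by
        show g (x - s (g x)) = 0
        rw [map_sub, hgs, sub_self])
      refine ⟨e.hom.app U z, ?_⟩
      rw [hsmul]
      exact hz.symm.trans (congrArg (fun t => (t ≫ S.f).app U z) e.hom_inv_id).symm)
  let τ : Option (ULift.{u} (Fin (ExtPowSh.rk S.X₃ y))) ≃ ULift.{u} (Fin (ExtPowSh.rk S.X₃ y + 1)) :=
    (Equiv.ulift.optionCongr).trans ((finSuccEquiv _).symm.trans Equiv.ulift.symm)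
  refine ⟨hsurj, hker, hreg, eA.trans (MvPolynomial.renameEquiv Γ(X, U) τ).toRingEquiv, eB, fun r => ?_, hB⟩
  show MvPolynomial.renameEquiv Γ(X, U) τ (eA _) = _
  rw [hA]
  exact (MvPolynomial.renameEquiv Γ(X, U) τ).commutes r

/-- The function cutting out the sub-bundle. -/
def sigma : Γ(AE.spec, ⊤) := (inv AE.gammaMap).app (op ⊤) (eqn e (jE := jE) ⊤)

theorem gammaAff_sigma {U : X.Opens} (hU : IsAffineOpen U) :
    AE.gammaAff U hU (AE.spec.presheaf.map (homOfLE (le_top : AE.π ⁻¹ᵁ U ≤ ⊤)).op (sigma e (jE := jE))) =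
      eqn e (jE := jE) U := by
  rw [← map_eqn e (le_top : U ≤ ⊤), ← AE.gammaMap_app U hU]
  refine Eq.trans (congr($(AE.gammaMap.naturality (homOfLE (le_top : U ≤ ⊤)).op) (sigma e (jE := jE)))) ?_
  exact congrArg _ (congr($(NatTrans.congr_app (IsIso.inv_hom_id AE.gammaMap) (op ⊤)) (eqn e (jE := jE) ⊤)))

include hS hqE hqF hF hAE hAF hφ in
theorem isZeroScheme [IsClosedImmersion (RelSpec.QCAlg.specMap φ)] :
    Cyc.IsZeroSchemeOf (RelSpec.QCAlg.specMap φ) (Coh.structureModule AE.spec) (sigma e (jE := jE)) ∧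
      ∀ z : AE.spec, Function.Injective fun a : AE.spec.presheaf.stalk z =>
        a • (Coh.structureModule AE.spec).presheaf.germ ⊤ z trivial (sigma e (jE := jE)) := by
  let i := RelSpec.QCAlg.specMap φ
  let L := Coh.structureModule AE.spec
  have key : ∀ z : AE.spec, ∃ (V : AE.spec.Opens) (hV : IsAffineOpen V) (hz : z ∈ V) (c : Γ(AE.spec, V)),
      L.presheaf.germ ⊤ z trivial (sigma e (jE := jE)) = AE.spec.presheaf.germ V z hz c •
        (show L.presheaf.stalk z from L.presheaf.germ V z hz (1 : Γ(AE.spec, V))) ∧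
      RingHom.ker (i.app V).hom = Ideal.span {c} ∧ (∀ b, b * c = 0 → b = 0) ∧
      (AE.spec.presheaf.germ V z hz c ∈ IsLocalRing.maximalIdeal _ → z ∈ Set.range i) := by
    intro z
    obtain ⟨U, hU, hy, -, hsurj, hker, hreg, -⟩ := exists_data hS e hqE hqF hF hAE hAF φ hφ (AE.π z)
    let V := AE.π ⁻¹ᵁ U
    let c : Γ(AE.spec, V) := AE.spec.presheaf.map (homOfLE le_top).op (sigma e (jE := jE))
    haveI hgE := RelSpecX.isIso_gammaAff AE U hU
    haveI hgF := RelSpecX.isIso_gammaAff AF U hU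
    have hπ : i ⁻¹ᵁ V = AF.π ⁻¹ᵁ U := by
      rw [← Scheme.Hom.comp_preimage, RelSpec.QCAlg.specMap_π]
    have hnat : i.appLE V (AF.π ⁻¹ᵁ U) hπ.ge ≫ AF.gammaAff U hU = AE.gammaAff U hU ≫ φ.hom.app (op U) := by
      have hc : ∀ {f g : Spec (AF.presheaf.obj (op U)) ⟶ AE.spec} (_ : f = g) (h1 : ⊤ ≤ f ⁻¹ᵁ V) (h2 : ⊤ ≤ g ⁻¹ᵁ V),
          f.appLE V ⊤ h1 = g.appLE V ⊤ h2 := by
        rintro f g rfl h1 h2; rfl
      simp only [RelSpec.QCAlg.gammaAff, Category.assoc]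
      rw [Scheme.Hom.appLE_comp_appLE_assoc,
        reassoc_of% (hc (RelSpec.QCAlg.ι_specMap U hU φ) _ (fun x _ => AE.top_le_preimage U hU trivial)),
        ← Scheme.ΓSpecIso_naturality, ← Category.assoc]
      congr 1
    have hc := gammaAff_sigma e (jE := jE) hU
    refine ⟨V, hU.preimage _, hy, c, ?_, ?_, fun b hb => ?_, fun hm => ?_⟩
    · rw [← L.presheaf.germ_res_apply (homOfLE (le_top : V ≤ ⊤)) z hy]
      exact (congrArg (L.presheaf.germ V z hy) (mul_one c).symm).trans (QCoh.germ_smul' L hy c _)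
    · ext b
      have h1 : i.app V b = 0 ↔ i.appLE V (AF.π ⁻¹ᵁ U) hπ.ge b = 0 := by
        haveI : IsIso (AF.spec.presheaf.map (homOfLE hπ.ge).op) := by
          rw [show (homOfLE hπ.ge) = eqToHom hπ.symm from Subsingleton.elim _ _]
          infer_instance
        exact (map_eq_zero_iff _ (ConcreteCategory.bijective_of_isIso
          (AF.spec.presheaf.map (homOfLE hπ.ge).op)).1).symm
      rw [RingHom.mem_ker, h1, ← map_eq_zero_iff (AF.gammaAff U hU).hom
        (ConcreteCategory.bijective_of_isIso (AF.gammaAff U hU)).1, ← CommRingCat.comp_apply, hnat,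
        CommRingCat.comp_apply, ← RingHom.mem_ker, hker, Ideal.mem_span_singleton, Ideal.mem_span_singleton, ← hc]
      exact map_dvd_iff (asIso (AE.gammaAff U hU)).commRingCatIsoToRingEquiv
    · have h1 := congrArg (AE.gammaAff U hU) hb
      rw [map_mul, hc, map_zero] at h1
      exact (map_eq_zero_iff _ (ConcreteCategory.bijective_of_isIso (AE.gammaAff U hU)).1).1 (hreg _ h1)
    · obtain ⟨p, hp⟩ : z ∈ Set.range (AE.ι U hU) := (AE.π_preimage U hU).le hy
      have hmem : eqn e (jE := jE) U ∈ p.asIdeal := by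
        by_contra h
        have h2 : p ∈ (Spec (AE.presheaf.obj (op U))).basicOpen
            ((AE.ι U hU).appLE V ⊤ (AE.top_le_preimage U hU) c) := by
          rw [basicOpen_eq_of_affine']
          show (Scheme.ΓSpecIso _).hom ((AE.ι U hU).appLE V ⊤ (AE.top_le_preimage U hU) c) ∉ p.asIdeal
          rw [← CommRingCat.comp_apply]
          exact fun h' => h (hc ▸ h')
        rw [Scheme.basicOpen_appLE] at h2
        exact (IsLocalRing.mem_maximalIdeal _).1 hm ((AE.spec.mem_basicOpen c z hy).1 (hp ▸ h2.2))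
      obtain ⟨q, hq⟩ : p ∈ Set.range (Spec.map (φ.hom.app (op U))) := by
        show p ∈ Set.range (PrimeSpectrum.comap (φ.hom.app (op U)).hom)
        rw [range_comap_of_surjective _ _ hsurj, hker, PrimeSpectrum.zeroLocus_span,
          PrimeSpectrum.mem_zeroLocus, Set.singleton_subset_iff]
        exact hmem
      refine ⟨AF.ι U hU q, ?_⟩
      show (AF.ι U hU ≫ i) q = z
      rw [RelSpec.QCAlg.ι_specMap, Scheme.Hom.comp_apply, hq, hp]
  refine ⟨⟨Set.ext fun z => ?_, fun d => ?_⟩, fun z => ?_⟩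
  · obtain ⟨V, hV, hz, c, hg, hk, -, hback⟩ := key z
    have hgen := H23.RatSec.isGen_germ (InvX.isFrame_one V) z hz
    show _ ↔ H23.RatSec.cls L z (L.presheaf.germ ⊤ z trivial (sigma e (jE := jE))) = 0
    rw [hg, H23.RatSec.cls_smul, ← not_ne_iff, ← H23.RatSec.residue_ne_zero hgen, not_ne_iff]
    refine ⟨?_, fun h => hback ((IsLocalRing.residue_eq_zero_iff _).1 h)⟩
    rintro ⟨w, rfl⟩
    refine (IsLocalRing.residue_eq_zero_iff _).2 ((IsLocalRing.mem_maximalIdeal _).2 fun hunit => ?_)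
    have h1 : AE.spec.presheaf.germ V (i w) hz c ∈ RingHom.ker (i.stalkMap w).hom := by
      rw [RegImmLib.ker_stalkMap_eq_map i hV w hz, hk]
      exact Ideal.mem_map_of_mem _ (Ideal.mem_span_singleton_self c)
    exact not_isUnit_zero ((RingHom.mem_ker.1 h1) ▸ hunit.map (i.stalkMap w).hom)
  · obtain ⟨V, hV, hz, c, hg, hk, -, -⟩ := key (i d)
    refine ⟨_, _, (H23.RatSec.isGen_germ (InvX.isFrame_one V) (i d) hz).1, hg, ?_⟩
    rw [RegImmLib.ker_stalkMap_eq_map i hV d hz, hk, Ideal.map_span, Set.image_singleton]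
  · obtain ⟨V, hV, hz, c, hg, -, hr, -⟩ := key z
    refine (injective_iff_map_eq_zero
      (AddMonoidHom.mk' (fun a => a • L.presheaf.germ ⊤ z trivial (sigma e (jE := jE))) fun a b => add_smul a b _)).2
      fun a ha => ?_
    replace ha : a • L.presheaf.germ ⊤ z trivial (sigma e (jE := jE)) = 0 := ha
    rw [hg, ← mul_smul] at ha
    have h0 := (H23.RatSec.isGen_germ (InvX.isFrame_one V) z hz).2 _ ha
    letI : Algebra Γ(AE.spec, V) (AE.spec.presheaf.stalk z) :=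
      TopCat.Presheaf.algebra_section_stalk AE.spec.presheaf ⟨z, hz⟩
    haveI : IsLocalization.AtPrime (AE.spec.presheaf.stalk z) (hV.primeIdealOf ⟨z, hz⟩).asIdeal :=
      hV.isLocalization_stalk ⟨z, hz⟩
    obtain ⟨⟨b, u⟩, hb⟩ := IsLocalization.surj (hV.primeIdealOf ⟨z, hz⟩).asIdeal.primeCompl a
    have hb' : a * AE.spec.presheaf.germ V z hz u.1 = AE.spec.presheaf.germ V z hz b := hb
    have h1 : algebraMap Γ(AE.spec, V) (AE.spec.presheaf.stalk z) (b * c) = 0 := by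
      show AE.spec.presheaf.germ V z hz (b * c) = 0
      rw [map_mul, ← hb', mul_assoc, mul_comm (AE.spec.presheaf.germ V z hz u.1), ← mul_assoc, h0, zero_mul]
    obtain ⟨v, hv⟩ := (IsLocalization.map_eq_zero_iff (hV.primeIdealOf ⟨z, hz⟩).asIdeal.primeCompl _ _).1 h1
    have h2 : algebraMap Γ(AE.spec, V) (AE.spec.presheaf.stalk z) b = 0 :=
      (IsLocalization.map_eq_zero_iff (hV.primeIdealOf ⟨z, hz⟩).asIdeal.primeCompl _ _).2
        ⟨v, hr _ (by rw [mul_assoc]; exact hv)⟩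
    rw [RingHom.algebraMap_toAlgebra] at h2
    rw [h2] at hb'
    exact ((IsLocalization.map_units (AE.spec.presheaf.stalk z) u).mul_left_eq_zero).1 hb'

/-! ### Cycles -/

theorem HasCharts.locallyOfFiniteType {V Y : Scheme.{u}} {f : V ⟶ Y} {σ : Type u} [Finite σ] (h : HasCharts f σ) :
    LocallyOfFiniteType f := by
  choose U hU e he using h
  refine IsZariskiLocalAtTarget.of_iSup_eq_top U
    (top_le_iff.1 fun y _ => TopologicalSpace.Opens.mem_iSup.2 ⟨y, hU y⟩) fun y => ?_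
  rw [← he y]
  infer_instance

/-- Cycles on a corank one sub-bundle with trivial quotient die in the bundle. -/
theorem push_mem_ratSub {V W Y : Scheme.{u}} {δY : Y → ℤ} {δV : V → ℤ} (hY : Cyc.IsSetup Y δY)
    (hV : Cyc.IsSetup V δV) (p : V ⟶ Y) [LocallyOfFiniteType p] (hδ : Cyc.DeltaCompat p δV δY) (i : W ⟶ V)
    [IsClosedImmersion i] {L : V.Modules} (hL : PicF.IsInvertible L) (eL : L ≅ Coh.structureModule V)
    {s : L.presheaf.obj (Opposite.op ⊤)} (hZ : Cyc.IsZeroSchemeOf i L s)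
    (hreg : ∀ x : V, Function.Injective (fun a : V.presheaf.stalk x => a • L.presheaf.germ ⊤ x trivial s))
    (n : ℕ) (hp : HasCharts p (ULift.{u} (Fin (n + 1)))) (hq : HasCharts (i ≫ p) (ULift.{u} (Fin n))) {k : ℤ}
    {α : AlgebraicCycle W ℤ} (hα : α ∈ Cyc.Zk W (fun d => δV (i d)) k) :
    pushAdd i (fun d => δV (i d)) δV α ∈ ratSub hV k := by
  haveI := hY.1
  haveI := hV.1
  have hδi : Cyc.DeltaCompat i (fun d => δV (i d)) δV := H23.GysinLib.deltaCompat_closedImmersion i δV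
  have hW : Cyc.IsSetup W fun d => δV (i d) := H23.SetupLFT.isSetup i hV hδi
  haveI := hW.1
  have hδW : Cyc.DeltaCompat (i ≫ p) (fun d => δV (i d)) δY := CycLib.deltaCompat_closedImmersion_comp i p hδ
  haveI := hp.flat
  haveI := hq.flat
  have hcard : ∀ m : ℕ, ((Nat.card (ULift.{u} (Fin m)) : ℕ) : ℤ) = m := fun m => by simp
  have hc : H23.FlatShift.HasShift p δV δY ((n + 1 : ℕ) : ℤ) := hcard (n + 1) ▸ hp.hasShift hδ
  have hcW : H23.FlatShift.HasShift (i ≫ p) (fun d => δV (i d)) δY (n : ℤ) := hcard n ▸ hq.hasShift hδW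
  obtain ⟨c, β', hc0, hβ', hrel⟩ := H9A1.bundle_surjective hW hY (i ≫ p) n hδW hq (k - n) α
    (by rwa [sub_add_cancel])
  rw [sub_add_cancel] at hrel
  obtain ⟨w, hw⟩ := H23.RatSec.exists_sections hL
  let b := flatAdd p hc hV.2.2 c
  have hb : b ∈ Cyc.Zk V δV (k + 1) := by
    have := flatAdd_mem p hc hV.2.2 hc0
    rwa [show k - (n : ℤ) + ((n + 1 : ℕ) : ℤ) = k + 1 by push_cast; ring] at this
  have hgp : gysAdd hV hL i s hw b = β' := DFunLike.coe_injective (funext fun d => by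
    rw [gysAdd_apply, coe_flatAdd, hβ']
    exact H23.CapFlat.c1CapFun_pull_gysin (r := n) hV.2.2 hY.2.2 p (fun y => hc.le hV.2.2 y) hL hreg i hZ
      (fun d => hcW.le hW.2.2 d) (k := k - n - 1) (α := ⇑c) (fun y hy => hc0 y (by omega)) w d)
  have hs := H23.RatSec.exists_sections hL
  have h1 := powHom_one_sub_gys hV hL i hZ hw (fun _ => hs.choose) (fun _ => hs.choose_spec) hb
  rw [hgp, show k + 1 - 1 = k by ring] at h1
  have h2 : powHom hL hV.2.2 (fun _ => hs.choose) (fun _ => hs.choose_spec) 1 b ∈ ratSub hV k := by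
    have h2 := cap1_trivial hV hL eL hs.choose hs.choose_spec hb
    rw [show k + 1 - 1 = k by ring] at h2
    exact h2
  have h3 := sub_mem h2 h1
  rw [sub_sub_cancel] at h3
  have h4 : pushAdd i (fun d => δV (i d)) δV (α - β') ∈ ratSub hV k :=
    pushAdd_ratSub i hW hV hδi hrel
  rw [map_sub] at h4
  have h5 := add_mem h4 h3
  rwa [sub_add_cancel] at h5

theorem finsum_eq_finsum_comp {α β : Type*} (g : α → β) (hg : Function.Injective g) (F : β → ℤ)
    (h : ∀ b, F b ≠ 0 → b ∈ Set.range g) : ∑ᶠ a, F (g a) = ∑ᶠ b, F b := by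
  rw [← finsum_mem_range hg, ← finsum_mem_univ F]
  exact finsum_mem_inter_support_eq' _ _ _ fun b hb => ⟨fun _ => trivial, fun _ => h b hb⟩

/-- Rational equivalence to zero is local for a disjoint open cover. -/
theorem ratEquivZero_of_disjoint {V : Scheme.{u}} {δ : V → ℤ} {k : ℤ} (W : ℕ → V.Opens)
    (hcov : ∀ x, ∃ n, x ∈ W n) (hdis : ∀ x n m, x ∈ W n → x ∈ W m → n = m) {γ : AlgebraicCycle V ℤ}
    (h : ∀ n, ∃ γn : AlgebraicCycle V ℤ, Cyc.RatEquivZero δ k γn ∧ ∀ x ∈ W n, γn x = γ x) :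
    Cyc.RatEquivZero δ k γ := by
  choose γn hrat hval using h
  choose ι ξ f hξ hf hloc hsum using hrat
  refine ⟨Σ n : ℕ, {i : ι n // ξ n i ∈ W n}, fun a => ξ a.1 a.2.1, fun a => f a.1 a.2.1, fun a => hξ _ _,
    fun a => hf _ _, fun x => ?_, fun x => ?_⟩
  · obtain ⟨m, hm⟩ := hcov x
    obtain ⟨U, hU, hxU, hfin⟩ := hloc m x
    refine ⟨U ∩ W m, hU.inter (W m).2, ⟨hxU, hm⟩,
      ((hfin.preimage Subtype.val_injective.injOn).image
        (Sigma.mk (β := fun n : ℕ => {i : ι n // ξ n i ∈ W n}) m)).subset ?_⟩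
    rintro ⟨n, i, hi⟩ ⟨z, hz, hzU, hzW⟩
    obtain rfl : n = m := hdis _ _ _ hi ((specializes_iff_mem_closure.2 hz).mem_open (W m).2 hzW)
    exact ⟨⟨i, hi⟩, ⟨z, hz, hzU⟩, rfl⟩
  · obtain ⟨m, hm⟩ := hcov x
    rw [← hval m x hm, hsum m x]
    have hsupp : ∀ (n : ℕ) (i : ι n), Cyc.divFun δ (ξ n i) (f n i) x ≠ 0 → ξ n i ∈ W m := fun n i hne =>
      (specializes_iff_mem_closure.2 (CycLib.mem_closure_of_divFun_ne_zero hne)).mem_open (W m).2 hm
    let g : {i : ι m // ξ m i ∈ W m} → (Σ n : ℕ, {i : ι n // ξ n i ∈ W n}) := fun i => ⟨m, i⟩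
    rw [← finsum_eq_finsum_comp (Subtype.val : {i : ι m // ξ m i ∈ W m} → ι m) Subtype.val_injective _
      fun i hi => ⟨⟨i, hsupp m i hi⟩, rfl⟩]
    refine finsum_eq_finsum_comp g (sigma_mk_injective (β := fun n : ℕ => {i : ι n // ξ n i ∈ W n}) (i := m))
      (fun a => Cyc.divFun δ (ξ a.1 a.2.1) (f a.1 a.2.1) x) ?_
    rintro ⟨n, i, hi⟩ hne
    obtain rfl : n = m := hdis _ _ _ hi (hsupp n i hne)
    exact ⟨⟨i, hi⟩, rfl⟩

end Groth.Agent.H9PB.Corank

end
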