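import Mathlib.LinearAlgebra.SymmetricAlgebra.Basis
import Mathlib.LinearAlgebra.Basis.Prod
import Mathlib.RingTheory.Ideal.Quotient.Basic

/-! Symmetric algebras of an extension of a free module by a line. -/

set_option autoImplicit false
set_option linter.style.haveILetI false

universe u v w

noncomputable section

namespace Groth.Agent.H9PB.Corank

open MvPolynomial

variable {R : Type u} [CommRing R] {τ : Type v}

/-- Setting the extra variable to zero. -/
def killNone : MvPolynomial (Option τ) R →ₐ[R] MvPolynomial τ R :=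
  aeval fun i => i.elim 0 X

theorem killNone_rename (p : MvPolynomial τ R) : killNone (rename some p) = p := by
  rw [killNone, aeval_rename]
  exact aeval_X_left_apply p

theorem ker_killNone :
    RingHom.ker (killNone (R := R) (τ := τ)).toRingHom = Ideal.span {X none} := by
  refine le_antisymm (fun p hp => ?_) ?_
  · let J : Ideal (MvPolynomial (Option τ) R) := Ideal.span {X none}
    have key : (Ideal.Quotient.mkₐ R J).comp ((rename some).comp killNone) = Ideal.Quotient.mkₐ R J := by
      refine algHom_ext fun i => ?_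
      cases i with
      | none =>
        simp only [AlgHom.comp_apply, killNone, aeval_X, Option.elim, map_zero]
        exact (Ideal.Quotient.eq_zero_iff_mem.2 (Ideal.mem_span_singleton_self _)).symm
      | some i => simp [killNone]
    have h := DFunLike.congr_fun key p
    rw [AlgHom.comp_apply, AlgHom.comp_apply, show killNone p = 0 from hp, map_zero, map_zero] at h
    exact Ideal.Quotient.eq_zero_iff_mem.1 h.symm
  · rw [Ideal.span_le, Set.singleton_subset_iff]
    show killNone (X none) = (0 : MvPolynomial τ R)
    rw [killNone, aeval_X]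
    rfl

variable {A B : Type*} [CommRing A] [CommRing B] {M₂ M₃ : Type*} [AddCommGroup M₂] [Module R M₂]
  [AddCommGroup M₃] [Module R M₃] (strA : R →+* A) (strB : R →+* B) (sA : A ≃+* SymmetricAlgebra R M₂)
  (hsA : ∀ r, sA (strA r) = algebraMap _ _ r) (sB : B ≃+* SymmetricAlgebra R M₃)
  (hsB : ∀ r, sB (strB r) = algebraMap _ _ r) (ιA : M₂ → A)
  (hιA : ∀ x, sA (ιA x) = SymmetricAlgebra.ι R M₂ x) (ιB : M₃ → B)
  (hιB : ∀ x, sB (ιB x) = SymmetricAlgebra.ι R M₃ x) (φ : A →+* B) (hφs : ∀ r, φ (strA r) = strB r)
  (g : M₂ →ₗ[R] M₃) (hφ : ∀ x, φ (ιA x) = ιB (g x)) (a : M₂) (ha : g a = 0)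
  (hinj : ∀ r : R, r • a = 0 → r = 0) (b : Module.Basis τ R M₃) (s : M₃ →ₗ[R] M₂) (hgs : ∀ z, g (s z) = z)
  (hs : ∀ x, ∃ r : R, x - s (g x) = r • a)

include hsA hsB hιA hιB hφs hφ ha hinj b hgs hs in
/-- The quotient symmetric algebra is cut out by a regular linear form. -/
theorem exists_equiv :
    Function.Surjective φ ∧ RingHom.ker φ = Ideal.span {ιA a} ∧ (∀ y : A, y * ιA a = 0 → y = 0) ∧
      ∃ (eA : A ≃+* MvPolynomial (Option τ) R) (eB : B ≃+* MvPolynomial τ R),
        (∀ r, eA (strA r) = C r) ∧ ∀ r, eB (strB r) = C r := by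
  let c := (LinearMap.toSpanSingleton R M₂ a).coprod s
  have hc : Function.Bijective c := by
    refine ⟨(injective_iff_map_eq_zero _).2 ?_, fun x => ?_⟩
    · rintro ⟨r, z⟩ h
      change r • a + s z = 0 at h
      have hz : z = 0 := by
        have := congrArg g h
        rwa [map_add, map_smul, ha, smul_zero, zero_add, hgs, map_zero] at this
      subst hz
      rw [map_zero, add_zero] at h
      rw [hinj r h]
      rfl
    · obtain ⟨r, hr⟩ := hs x
      exact ⟨(r, g x), show r • a + s (g x) = x by rw [← hr, sub_add_cancel]⟩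
  let bE : Module.Basis (Option τ) R M₂ :=
    ((((Module.Basis.singleton PUnit.{1} R).prod b).map (LinearEquiv.ofBijective c hc)).reindex
      ((Equiv.sumComm _ _).trans (Equiv.optionEquivSumPUnit.{0} τ).symm))
  have hnone : bE none = a := by
    simp [bE, c, Module.Basis.reindex_apply]
  have hsome : ∀ i, bE (some i) = s (b i) := fun i => by
    simp [bE, c, Module.Basis.reindex_apply]
  let eA := sA.trans (SymmetricAlgebra.equivMvPolynomial bE).toRingEquiv
  let eB := sB.trans (SymmetricAlgebra.equivMvPolynomial b).toRingEquiv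
  have hA : ∀ i, eA (ιA (bE i)) = X i := fun i => by
    show SymmetricAlgebra.equivMvPolynomial bE (sA _) = _
    rw [hιA, SymmetricAlgebra.equivMvPolynomial_ι_apply]
  have hAC : ∀ r, eA (strA r) = C r := fun r => by
    show SymmetricAlgebra.equivMvPolynomial bE (sA _) = _
    rw [hsA]
    exact (SymmetricAlgebra.equivMvPolynomial bE).commutes r
  have hBC : ∀ r, eB (strB r) = C r := fun r => by
    show SymmetricAlgebra.equivMvPolynomial b (sB _) = _
    rw [hsB]
    exact (SymmetricAlgebra.equivMvPolynomial b).commutes r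
  have hcomm : ∀ y, eB (φ y) = killNone (eA y) := by
    have key : eB.toRingHom.comp (φ.comp eA.symm.toRingHom) = (killNone (R := R) (τ := τ)).toRingHom := by
      refine ringHom_ext (fun r => ?_) fun i => ?_
      · show eB (φ (eA.symm (C r))) = killNone (C r)
        rw [← hAC, eA.symm_apply_apply, hφs, hBC, hAC, killNone, aeval_C]
        rfl
      · show eB (φ (eA.symm (X i))) = killNone (X i)
        rw [← hA, eA.symm_apply_apply, hφ, killNone, hA, aeval_X]
        show SymmetricAlgebra.equivMvPolynomial b (sB _) = _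
        rw [hιB]
        cases i with
        | none => rw [hnone, ha, map_zero, map_zero]; rfl
        | some i => rw [hsome, hgs, SymmetricAlgebra.equivMvPolynomial_ι_apply]; rfl
    intro y
    have := DFunLike.congr_fun key (eA y)
    simpa using this
  refine ⟨fun z => ⟨eA.symm (rename some (eB z)), eB.injective ?_⟩, ?_, fun y hy => ?_, eA, eB, hAC, hBC⟩
  · rw [hcomm, eA.apply_symm_apply, killNone_rename]
  · have hXa : eA (ιA a) = X none := by rw [← hnone, hA]
    ext y
    rw [RingHom.mem_ker, ← map_eq_zero_iff eB eB.injective, hcomm, Ideal.mem_span_singleton, ← map_dvd_iff eA, hXa,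
      ← Ideal.mem_span_singleton, ← ker_killNone]
    rfl
  · have h1 : eA y * X none = 0 * X none := by rw [zero_mul, ← hA, hnone, ← map_mul, hy, map_zero]
    exact (map_eq_zero_iff eA eA.injective).1 (X_mul_cancel_right_iff.1 h1)

end Groth.Agent.H9PB.Corank

end
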