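import Groth.Agent.AmpleVan.LiftFibre
import Groth.Agent.ExtShX.HomShLocFree
import Groth.Agent.AmpleFamGen.Basic
import Groth.Agent.QCoh.LocFree
import Groth.Agent.ExtPowSh.Filt

/-! The dual of a subbundle inclusion is an epimorphism. -/

set_option autoImplicit false
set_option linter.style.haveILetI false
set_option linter.unusedSectionVars false
set_option backward.isDefEq.respectTransparency false
set_option backward.isDefEq.respectTransparency.types false

universe v₁ v₂ u₁ u₂ u

open CategoryTheory CategoryTheory.Limits AlgebraicGeometry TopologicalSpace Opposite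

noncomputable section

namespace Groth.Agent.H9PB.DualEpi

open Groth.Agent

theorem conj_ofNatIsoLeft {C : Type u₁} [Category.{v₁} C] {D : Type u₂} [Category.{v₂} D] {F F' L L' : C ⥤ D}
    {R R' : D ⥤ C} (adj : F ⊣ R) (adj' : F' ⊣ R') (τ : F ≅ L) (τ' : F' ≅ L') (α : L' ⟶ L) (β : F' ⟶ F)
    (w : τ'.hom ≫ α = β ≫ τ.hom) :
    conjugateEquiv (adj.ofNatIsoLeft τ) (adj'.ofNatIsoLeft τ') α = conjugateEquiv adj adj' β := by
  ext G
  apply ((adj'.ofNatIsoLeft τ').homEquiv _ _).symm.injective
  have hα : α = τ'.inv ≫ β ≫ τ.hom := by rw [← w, Iso.inv_hom_id_assoc]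
  rw [Adjunction.homEquiv_counit, Adjunction.homEquiv_counit, conjugateEquiv_counit]
  simp only [Adjunction.ofNatIsoLeft, NatTrans.comp_app, Functor.whiskerLeft_app, hα, Category.assoc,
    Iso.hom_inv_id_app_assoc]
  rw [← conjugateEquiv_counit adj adj' β G]
  exact (τ'.inv.naturality_assoc _ _).symm

variable {X : Scheme.{u}}

/-- The comparison of the internal homs is natural. -/
theorem sheafHomIso_conj {N N' : X.Modules} [DCoh.HasSheafHom N] [DCoh.HasSheafHom N'] (a : N' ⟶ N) :
    conjugateEquiv (DCoh.sheafHomAdj N) (DCoh.sheafHomAdj N') ((DCoh.tensorBi (X := X)).map a) ≫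
        (AmpleVan.sheafHomIso N').hom =
      (AmpleVan.sheafHomIso N).hom ≫ SheafHomX.homMap a := by
  show _ ≫ conjugateEquiv (DCoh.sheafHomAdj N') _ (𝟙 _) = conjugateEquiv (DCoh.sheafHomAdj N) _ (𝟙 _) ≫
    conjugateEquiv (SheafHomX.adj N) (SheafHomX.adj N') ((DCoh.tensorBi (X := X)).flip.map a)
  rw [conjugateEquiv_comp, Category.id_comp, ← conj_ofNatIsoLeft (SheafHomX.adj N) (SheafHomX.adj N')
    ((KFlatLib.tensorBiFlipIso X).app N) ((KFlatLib.tensorBiFlipIso X).app N') ((DCoh.tensorBi (X := X)).map a) _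
    ((KFlatLib.tensorBiFlipIso X).hom.naturality a).symm, conjugateEquiv_comp, Category.comp_id]

/-- The dual of a subbundle inclusion is an epimorphism. -/
theorem epi_homMap {S : ShortComplex X.Modules} (hS : S.ShortExact) (h₁ : FlatMod.IsFinLocFree S.X₁)
    (h₃ : FlatMod.IsFinLocFree S.X₃) :
    Epi ((SheafHomX.homMap S.f).app (Coh.structureModule X)) := by
  refine AmpleFamGen.epi_of_stalk _ fun x => (ModuleCat.epi_iff_surjective _).2 fun ψ => ?_
  let σ := DerSch.stalkFunctor X x
  have h₂ := ExtPowSh.isFinLocFree_X₂ hS (QCoh.isQCoh_of_isFinLocFree h₁) h₁ h₃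
  have hT := hS.map_of_exact σ
  haveI : Module.Free (X.presheaf.stalk x) (σ.obj S.X₃) := QCoh.free_stalk_of_isFinLocFree h₃ x
  haveI : Module.Projective (X.presheaf.stalk x) (σ.obj S.X₃) := Module.Projective.of_free
  obtain ⟨s, hs⟩ := Module.projective_lifting_property (σ.map S.g).hom LinearMap.id
    ((ModuleCat.epi_iff_surjective _).1 hT.epi_g)
  have hi : Function.Injective (σ.map S.f).hom := (ModuleCat.mono_iff_injective _).1 hT.mono_f
  have hex : Function.Exact (σ.map S.f).hom (σ.map S.g).hom :=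
    (ShortComplex.ShortExact.moduleCat_exact_iff_function_exact _).1 hT.exact
  obtain ⟨-, r, hr⟩ := (List.TFAE.out hex.split_tfae' 0 1 rfl rfl).1 ⟨hi, s, hs⟩
  obtain ⟨m, hm⟩ := (ExtShX.bijective_phi_of_locFree x h₂ (Coh.structureModule X)).2
    ((ExtShX.phi x S.X₁ (Coh.structureModule X) ψ) ∘ₗ r)
  refine ⟨m, (ExtShX.bijective_phi_of_locFree x h₁ (Coh.structureModule X)).1 ?_⟩
  rw [ExtShX.phi_natural, hm, LinearMap.comp_assoc, hr, LinearMap.comp_id]

end Groth.Agent.H9PB.DualEpi

end
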