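import Groth.Agent.Lib.CurvePoint

/-! The ideal of a finite set of closed points on a smooth curve over an algebraically closed field. -/

set_option autoImplicit false
set_option linter.style.haveILetI false
set_option linter.unusedSectionVars false
set_option backward.isDefEq.respectTransparency false
set_option backward.isDefEq.respectTransparency.types false

universe u

open CategoryTheory CategoryTheory.Limits AlgebraicGeometry TopologicalSpace Opposite

namespace Groth.Agent.H9PB.FiniteSet

open Groth.Agent Groth.Agent.CurveBundle Groth.Agent.CurveSlope Groth.Agent.CurveStable Groth.Agent.CurvePoint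

variable {X : Scheme.{u}} (S : Closeds X)

/-- The reduced ideal of a closed set. -/
noncomputable abbrev setIdeal : X.IdealSheafData := Scheme.IdealSheafData.vanishingIdeal S

theorem support_quot_subset : CohB1.support (ClSub.quotMod (setIdeal S)) ⊆ (S : Set X) := fun x hx => by
  by_contra hne
  exact hx (ParShLib.subsingleton_stalk_quotMod (setIdeal S) fun h => hne h)

variable (hfin : (S : Set X).Finite) (hcl : ∀ x ∈ (S : Set X), IsClosed ({x} : Set X))

include hfin hcl in
/-- The maximal ideal kills the stalk of the structure sheaf of the set. -/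
theorem smul_quot_eq_zero (p : X) {a : X.presheaf.stalk p}
    (ha : a ∈ IsLocalRing.maximalIdeal (X.presheaf.stalk p))
    (q : (ClSub.quotMod (setIdeal S)).presheaf.stalk p) : a • q = 0 := by
  obtain ⟨U, hpU, r, rfl⟩ := X.presheaf.exists_germ_eq (x := p) a
  obtain ⟨V, hpV, s, rfl⟩ := TopCat.Presheaf.exists_germ_eq (ClSub.quotMod (setIdeal S)).presheaf q
  have hT : IsClosed ((S : Set X) \ {p}) := by
    have : ((S : Set X) \ {p}) = ⋃ x ∈ ((S : Set X) \ {p}), ({x} : Set X) := (Set.biUnion_of_singleton _).symm
    rw [this]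
    exact hfin.sdiff.isClosed_biUnion fun x hx => hcl x hx.1
  let W : X.Opens := U ⊓ V ⊓ ⟨((S : Set X) \ {p})ᶜ, hT.isOpen_compl⟩
  have hpW : p ∈ W := ⟨⟨hpU, hpV⟩, fun h => h.2 rfl⟩
  have hWU : W ≤ U := fun z hz => hz.1.1
  have hWV : W ≤ V := fun z hz => hz.1.2
  let r' := X.presheaf.map (homOfLE hWU).op r
  let s' := (ClSub.quotMod (setIdeal S)).presheaf.map (homOfLE hWV).op s
  have h0 : (setIdeal S).subschemeι.app W r' = 0 := by
    apply eq_zero_of_basicOpen_eq_bot
    rw [← Scheme.preimage_basicOpen]
    refine Opens.ext (Set.eq_empty_iff_forall_notMem.2 fun z hz => ?_)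
    have hzS : (setIdeal S).subschemeι z ∈ (S : Set X) :=
      (setIdeal S).range_subschemeι ▸ Set.mem_range_self (f := (setIdeal S).subschemeι) z
    have hzW : (setIdeal S).subschemeι z ∈ W := X.basicOpen_le r' hz
    have hzp : (setIdeal S).subschemeι z = p := by
      by_contra h
      exact hzW.2 ⟨hzS, h⟩
    have h1 : p ∈ X.basicOpen r' := hzp ▸ hz
    rw [Scheme.mem_basicOpen _ _ _ hpW, X.presheaf.germ_res_apply] at h1
    exact (IsLocalRing.mem_maximalIdeal _).1 ha h1
  rw [← X.presheaf.germ_res_apply (homOfLE hWU) p hpW r,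
    ← (ClSub.quotMod (setIdeal S)).presheaf.germ_res_apply (homOfLE hWV) p hpW s]
  refine (QCoh.germ_smul' (ClSub.quotMod (setIdeal S)) hpW r' s').symm.trans ?_
  have h2 : r' • s' = 0 := by
    show ((setIdeal S).subschemeι.app W r' *
      (show Γ((setIdeal S).subscheme, (setIdeal S).subschemeι ⁻¹ᵁ W) from s') :
        Γ((setIdeal S).subscheme, (setIdeal S).subschemeι ⁻¹ᵁ W)) = _
    rw [h0, zero_mul]
  rw [h2, map_zero]

theorem not_subsingleton_stalk (p : X) (hp : p ∈ (S : Set X)) :
    ¬ Subsingleton ((ClSub.quotMod (setIdeal S)).presheaf.stalk p) := by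
  intro h
  let Q := ClSub.quotMod (setIdeal S)
  let one : Γ(Q, ⊤) := (1 : Γ((setIdeal S).subscheme, (setIdeal S).subschemeι ⁻¹ᵁ ⊤))
  obtain ⟨W, hpW, i, j, hW⟩ := Q.presheaf.germ_eq p (U := ⊤) (V := ⊤) trivial trivial one 0
    (Subsingleton.elim _ _)
  obtain ⟨z, hz⟩ : p ∈ Set.range (setIdeal S).subschemeι := by
    rw [(setIdeal S).range_subschemeι]
    exact hp
  haveI : Nonempty ↥((setIdeal S).subschemeι ⁻¹ᵁ W) := by
    refine ⟨⟨z, ?_⟩⟩
    show (setIdeal S).subschemeι z ∈ W
    rw [hz]
    exact hpW
  refine one_ne_zero (α := Γ((setIdeal S).subscheme, (setIdeal S).subschemeι ⁻¹ᵁ W)) ?_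
  rw [map_zero] at hW
  refine Eq.trans ?_ hW
  exact (map_one ((setIdeal S).subscheme.presheaf.map
    ((Opens.map (setIdeal S).subschemeι.base).map i).op).hom).symm

variable (k : Type u) [Field k] [IsAlgClosed k] [X.Over (Spec (CommRingCat.of k))] [IsIntegral X]
  [IsProper (X ↘ Spec (CommRingCat.of k))] [Smooth (X ↘ Spec (CommRingCat.of k))]

include k in
theorem isCoh_quot : Coh.IsCoh (ClSub.quotMod (setIdeal S)) := by
  haveI := CurveCohLib.isNoetherian_of_proper (k := k) (X := X)
  exact ParShLib.isCoh_quotMod (setIdeal S)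

include hfin hcl in
/-- The Euler characteristic of a finite set of closed points is its cardinality. -/
theorem euler_quot : Curv2.euler k X (ClSub.quotMod (setIdeal S)) = ((S : Set X).ncard : ℤ) := by
  classical
  haveI := CurveCohLib.isNoetherian_of_proper (k := k) (X := X)
  let Q := ClSub.quotMod (setIdeal S)
  obtain ⟨h, hfinite⟩ := CurveCohLib.euler_eq_sum_stalks (k := k) (isCoh_quot S k)
    (fun x hx => hcl x (support_quot_subset S hx)) hfin.toFinset (by simpa using support_quot_subset S)
  rw [h, Set.ncard_eq_toFinset_card _ hfin, Finset.card_eq_sum_ones, Nat.cast_sum]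
  refine Finset.sum_congr rfl fun p hp => ?_
  have hpS : p ∈ (S : Set X) := hfin.mem_toFinset.1 hp
  letI := CurveCohLib.stalkModuleK k Q p
  haveI := hfinite p hp
  haveI : Nontrivial (Q.presheaf.stalk p) := not_subsingleton_iff_nontrivial.1 (not_subsingleton_stalk S p hpS)
  obtain ⟨q₀, hq₀⟩ : ∃ q₀ : Q.presheaf.stalk p, ∀ q, ∃ a : X.presheaf.stalk p, q = a • q₀ :=
    ParShLib.exists_germ_smul (setIdeal S) p
  let L : k →ₗ[k] Q.presheaf.stalk p :=
    { toFun := fun c => Curv2.stalkMap k X p c • q₀
      map_add' := fun c d => by rw [map_add, add_smul]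
      map_smul' := fun a c => by
        show Curv2.stalkMap k X p (a * c) • q₀ = Curv2.stalkMap k X p a • (Curv2.stalkMap k X p c • q₀)
        rw [map_mul, mul_smul] }
  have hL : Function.Surjective L := fun q => by
    obtain ⟨a, ha⟩ := hq₀ q
    obtain ⟨c, hc⟩ := CurveSection.exists_stalkMap_sub_mem k (hcl p hpS) a
    refine ⟨c, ?_⟩
    have h0 := smul_quot_eq_zero S hfin hcl p hc q₀
    rw [sub_smul, sub_eq_zero] at h0
    exact h0.symm.trans (ha.symm : a • q₀ = q)
  have h1 := LinearMap.finrank_le_finrank_of_surjective hL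
  have h2 : 0 < Module.finrank k (Q.presheaf.stalk p) := Module.finrank_pos
  rw [Module.finrank_self] at h1
  exact_mod_cast le_antisymm h1 h2

theorem shortExact_set :
    (ShortComplex.mk (ClSub.idealModι (setIdeal S)) (ClSub.toSubscheme (setIdeal S))
      (kernel.condition _)).ShortExact := by
  haveI := epi_toSubscheme (setIdeal S)
  exact CurveSlope.shortExact_kernel_of_epi _

include k in
theorem isCoh_idealMod : Coh.IsCoh (ClSub.idealMod (setIdeal S)) := by
  haveI := CurveCohLib.isNoetherian_of_proper (k := k) (X := X)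
  exact QCoh.isCoh_kernel QCoh.isCoh_structureModule' (isCoh_quot S k) _

include k hcl in
/-- The ideal of a finite set of closed points is invertible. -/
theorem isInvertible_idealMod (hdim : topologicalKrullDim X = 1) :
    PicF.IsInvertible (ClSub.idealMod (setIdeal S)) := by
  haveI := CurveCohLib.isNoetherian_of_proper (k := k) (X := X)
  have hO1 := InvEnd.isFinLocFreeOfRank_one (CurveDeg.isInvertible_structureModule (X := X))
  have hS := shortExact_set S
  haveI : Mono (ClSub.idealModι (setIdeal S)) := hS.mono_f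
  have hf := isFinLocFree_of_mono k hdim.le (isCoh_idealMod S k) (ClSub.idealModι (setIdeal S))
    (isFinLocFree_of_rank hO1)
  have h := rk_add_coh k _ _ _ hS QCoh.isCoh_structureModule'
  have h0 : rk (ClSub.quotMod (setIdeal S)) = 0 := by
    haveI : Subsingleton ((ClSub.quotMod (setIdeal S)).presheaf.stalk (genericPoint X)) := by
      refine ParShLib.subsingleton_stalk_quotMod (setIdeal S) fun hη => ?_
      obtain ⟨T, hT2, hTcl⟩ := CurveSection.exists_closed_finset k hdim 2
      have hη1 : IsClosed ({genericPoint X} : Set X) := hcl _ hη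
      have hall : ∀ x : X, IsClosed ({x} : Set X) → x = genericPoint X := fun x _ =>
        Set.mem_singleton_iff.1
          (((genericPoint_spec X).specializes (Set.mem_univ x)).mem_closed hη1 (Set.mem_singleton _))
      have : T.card ≤ 1 := Finset.card_le_one.2 fun a ha b hb =>
        (hall a (hTcl a ha)).trans (hall b (hTcl b hb)).symm
      omega
    letI := (isField_stalk_generic (X := X)).toField
    exact Module.finrank_zero_of_subsingleton
  rw [rk_eq hO1, h0] at h
  have h2 : 1 = rk (ClSub.idealMod (setIdeal S)) + 0 := h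
  have h' : rk (ClSub.idealMod (setIdeal S)) = 1 := by omega
  intro x
  obtain ⟨U, hx, ⟨e⟩⟩ := (h' ▸ isFinLocFreeOfRank_rk hf : FlatMod.IsFinLocFreeOfRank 1 _) x
  exact ⟨U, hx, ⟨e ≪≫ coproductUniqueIso _⟩⟩

include hfin hcl in
/-- The degree of the ideal of a finite set of closed points. -/
theorem deg_idealMod : Curv2.deg k X (ClSub.idealMod (setIdeal S)) 1 = -((S : Set X).ncard : ℤ) := by
  haveI := CurveCohLib.isNoetherian_of_proper (k := k) (X := X)
  have h := euler_add' k _ _ _ (shortExact_set S) (isCoh_idealMod S k)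
    QCoh.isCoh_structureModule' (isCoh_quot S k)
  rw [euler_quot S hfin hcl k] at h
  unfold Curv2.deg
  push_cast
  linarith

/-- A reduced scheme embedded as a closed subscheme has the reduced ideal of its image. -/
theorem ker_eq_setIdeal {Z : Scheme.{u}} (i : Z ⟶ X) [IsClosedImmersion i] [IsReduced Z] (hS : Set.range i = (S : Set X)) :
    i.ker = setIdeal S := by
  have hrad : i.ker.radical = i.ker := by
    ext U : 2
    rw [Scheme.IdealSheafData.radical_ideal, Scheme.Hom.ker_apply]
    refine le_antisymm (fun z hz => ?_) Ideal.le_radical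
    obtain ⟨n, hn⟩ := hz
    rw [RingHom.mem_ker, map_pow] at hn
    exact RingHom.mem_ker.2 (IsReduced.eq_zero _ ⟨n, hn⟩)
  have hsupp : i.ker.support = S := Closeds.ext (by
    rw [i.support_ker, hS, S.isClosed.closure_eq])
  rw [← hrad, ← Scheme.IdealSheafData.vanishingIdeal_support, hsupp]

end Groth.Agent.H9PB.FiniteSet
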