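import Groth.Agent.H9PB.Alg
import Groth.Agent.H9A1.Main
import Groth.Agent.FibDim.AffineSpaceFibre
import Groth.Agent.CycLib.Push
import Groth.Agent.CycLib.Flat

/-! Standard charts of a projective bundle over an affine open and the linear subspaces in its fibres. -/

set_option autoImplicit false
set_option linter.style.haveILetI false
set_option linter.unusedSectionVars false
set_option backward.isDefEq.respectTransparency false
set_option backward.isDefEq.respectTransparency.types false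

universe u

open AlgebraicGeometry CategoryTheory TopologicalSpace Opposite

namespace Groth.Agent.H9PB

open Groth.Agent H9A1 H23.RatSec

variable {X P : Scheme.{u}}

/-- The coordinate ring over the functions on `U`, as a scheme. -/
noncomputable abbrev ChS (X : Scheme.{u}) (U : X.Opens) {n : ℕ} (i : Fin (n + 1)) : Scheme.{u} :=
  Spec (CommRingCat.of (Ch Γ(X, U) i))

/-- Coordinates `σ` trivialising a projective bundle with its fundamental module over an affine open. -/
structure Frame (p : P ⟶ X) (O1 : P.Modules) (n : ℕ) (U : X.Opens) where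
  affine : IsAffineOpen U
  σ : Fin (n + 1) → Γ(O1, p ⁻¹ᵁ U)
  emb : ∀ i : Fin (n + 1), ChS X U i ⟶ P
  openImm : ∀ i, IsOpenImmersion (emb i)
  emb_comp : ∀ i, emb i ≫ p = Spec.map (CommRingCat.ofHom MvPolynomial.C) ≫ affine.fromSpec
  cover : ∀ x : P, p x ∈ U → ∃ i, x ∈ Set.range (emb i)
  mem_range_iff : ∀ (i l : Fin (n + 1)) (z : ChS X U i),
    emb i z ∈ Set.range (emb l) ↔ y i l ∉ (z : PrimeSpectrum (Ch Γ(X, U) i)).asIdeal
  gen : ∀ (i : Fin (n + 1)) (z : ChS X U i) (h : p (emb i z) ∈ U),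
    Submodule.span (P.presheaf.stalk (emb i z)) {O1.presheaf.germ (p ⁻¹ᵁ U) (emb i z) h (σ i)} = ⊤
  coord : ∀ (i l : Fin (n + 1)) (z : ChS X U i) (h : p (emb i z) ∈ U), ∃ a : P.presheaf.stalk (emb i z),
    (emb i).stalkMap z a = tsp (Ch Γ(X, U) i) z (y i l) ∧
      (O1.presheaf.germ (p ⁻¹ᵁ U) (emb i z) h (σ l) : O1.presheaf.stalk (emb i z)) =
        a • (show O1.presheaf.stalk (emb i z) from O1.presheaf.germ (p ⁻¹ᵁ U) (emb i z) h (σ i))

namespace Frame

variable {p : P ⟶ X} {O1 : P.Modules} {n : ℕ} {U : X.Opens} (F : Frame p O1 n U)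

instance instOpenImm (i : Fin (n + 1)) : IsOpenImmersion (F.emb i) := F.openImm i

/-- Elements of the chart in a stalk. -/
noncomputable def el (i : Fin (n + 1)) (z : ChS X U i) : Ch Γ(X, U) i →+* P.presheaf.stalk (F.emb i z) :=
  (inv ((F.emb i).stalkMap z)).hom.comp (tsp (Ch Γ(X, U) i) z)

theorem stalkMap_el (i : Fin (n + 1)) (z : ChS X U i) (a : Ch Γ(X, U) i) :
    (F.emb i).stalkMap z (F.el i z a) = tsp _ z a := by
  simp [el]

theorem stalkMap_injective (i : Fin (n + 1)) (z : ChS X U i) :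
    Function.Injective ((F.emb i).stalkMap z) :=
  (asIso ((F.emb i).stalkMap z)).commRingCatIsoToRingEquiv.injective

theorem isLocalization_el (i : Fin (n + 1)) (z : ChS X U i) :
    letI := (F.el i z).toAlgebra
    IsLocalization.AtPrime (P.presheaf.stalk (F.emb i z)) (z : PrimeSpectrum (Ch Γ(X, U) i)).asIdeal := by
  letI a1 := (tsp (Ch Γ(X, U) i) z).toAlgebra
  haveI := isLocalization_tsp (Ch Γ(X, U) i) z
  letI := (F.el i z).toAlgebra
  let e : ((ChS X U i).presheaf.stalk z) ≃ₐ[Ch Γ(X, U) i] P.presheaf.stalk (F.emb i z) :=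
    AlgEquiv.ofRingEquiv (f := (asIso ((F.emb i).stalkMap z)).commRingCatIsoToRingEquiv.symm) fun _ => rfl
  exact IsLocalization.isLocalization_of_algEquiv _ e

theorem isUnit_el {i : Fin (n + 1)} {z : ChS X U i} {a : Ch Γ(X, U) i} :
    IsUnit (F.el i z a) ↔ a ∉ (z : PrimeSpectrum (Ch Γ(X, U) i)).asIdeal := by
  letI := (F.el i z).toAlgebra
  haveI := F.isLocalization_el i z
  exact IsLocalization.AtPrime.isUnit_to_map_iff _ (z : PrimeSpectrum (Ch Γ(X, U) i)).asIdeal a

theorem maximalIdeal_eq_map (i : Fin (n + 1)) (z : ChS X U i) :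
    IsLocalRing.maximalIdeal (P.presheaf.stalk (F.emb i z)) =
      Ideal.map (F.el i z) (z : PrimeSpectrum (Ch Γ(X, U) i)).asIdeal := by
  letI := (F.el i z).toAlgebra
  haveI := F.isLocalization_el i z
  exact (IsLocalization.AtPrime.map_eq_maximalIdeal (z : PrimeSpectrum (Ch Γ(X, U) i)).asIdeal _).symm

theorem residue_el {i : Fin (n + 1)} {z : ChS X U i} {a : Ch Γ(X, U) i} :
    P.residue (F.emb i z) (F.el i z a) = 0 ↔ a ∈ (z : PrimeSpectrum (Ch Γ(X, U) i)).asIdeal := by
  rw [← not_not (a := a ∈ _), ← F.isUnit_el]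
  exact IsLocalRing.residue_eq_zero_iff _

theorem spec_el {i : Fin (n + 1)} {z w : ChS X U i} (h : w ⤳ z) (h' : F.emb i w ⤳ F.emb i z)
    (a : Ch Γ(X, U) i) : P.presheaf.stalkSpecializes h' (F.el i z a) = F.el i w a := by
  apply F.stalkMap_injective i w
  rw [stalkMap_el]
  have e1 := Scheme.Hom.stalkSpecializes_stalkMap_apply (F.emb i) w z h (F.el i z a)
  refine e1.trans ?_
  rw [stalkMap_el]
  exact RingHom.congr_fun (congrArg CommRingCat.Hom.hom
    (StructureSheaf.toStalk_stalkSpecializes (R := Ch Γ(X, U) i) h)) a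

theorem specMap_el {i : Fin (n + 1)} {z w : ChS X U i} (h : w ⤳ z) (h' : F.emb i w ⤳ F.emb i z)
    (a : Ch Γ(X, U) i) : Cyc.specMap (F.emb i z) (F.emb i w) h' (F.el i z a) = P.residue _ (F.el i w a) :=
  congrArg (P.residue (F.emb i w)) (F.spec_el h h' a)

theorem p_emb (i : Fin (n + 1)) (z : ChS X U i) :
    p (F.emb i z) = F.affine.fromSpec (PrimeSpectrum.comap MvPolynomial.C (z : PrimeSpectrum _)) := by
  rw [← Scheme.Hom.comp_apply, F.emb_comp]
  rfl

theorem p_emb_mem (i : Fin (n + 1)) (z : ChS X U i) : p (F.emb i z) ∈ U := by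
  rw [p_emb, ← SetLike.mem_coe, ← F.affine.range_fromSpec]
  exact ⟨_, rfl⟩

theorem comap_C_eq (i : Fin (n + 1)) (z : ChS X U i) {η : X} (hη : η ∈ U) (he : p (F.emb i z) = η) :
    (z : PrimeSpectrum (Ch Γ(X, U) i)).asIdeal.comap MvPolynomial.C =
      (F.affine.primeIdealOf ⟨η, hη⟩).asIdeal := by
  rw [← PrimeSpectrum.comap_asIdeal]
  refine congrArg PrimeSpectrum.asIdeal (F.affine.fromSpec.isOpenEmbedding.injective ?_)
  rw [← p_emb, he, F.affine.fromSpec_primeIdealOf]

/-- The point of the chart of a linear subspace of the fibre over `η`. -/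
noncomputable def linPt (η : U) (j : ℕ) (i : Fin (n + 1)) : ChS X U i :=
  (⟨lin (F.affine.primeIdealOf η).asIdeal j i, inferInstance⟩ : PrimeSpectrum (Ch Γ(X, U) i))

theorem linPt_asIdeal (η : U) (j : ℕ) (i : Fin (n + 1)) :
    (F.linPt η j i : PrimeSpectrum (Ch Γ(X, U) i)).asIdeal = lin (F.affine.primeIdealOf η).asIdeal j i := rfl

theorem p_linPt (η : U) (j : ℕ) (i : Fin (n + 1)) : p (F.emb i (F.linPt η j i)) = η := by
  rw [p_emb]
  refine (congrArg F.affine.fromSpec ?_).trans (F.affine.fromSpec_primeIdealOf η)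
  exact PrimeSpectrum.ext (comap_C_lin _ j i)

/-- The point lies in the zero locus of the first `j` coordinates. -/
def Van (j : ℕ) (x : P) : Prop := ∀ l : Fin (n + 1), (l : ℕ) < j → x ∉ Set.range (F.emb l)

theorem van_mono {j j' : ℕ} (h : j ≤ j') {x : P} (hx : F.Van j' x) : F.Van j x :=
  fun l hl => hx l (lt_of_lt_of_le hl h)

theorem van_of_specializes {j : ℕ} {x x' : P} (hx : F.Van j x) (h : x ⤳ x') : F.Van j x' :=
  fun l hl hm => hx l hl (h.mem_open (F.emb l).opensRange.2 hm)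

theorem range_linPt (η : U) {j : ℕ} {i l : Fin (n + 1)} :
    F.emb i (F.linPt η j i) ∈ Set.range (F.emb l) ↔ (l = i ∨ j ≤ (l : ℕ)) := by
  rw [F.mem_range_iff, linPt_asIdeal, y_mem_lin, not_and_or, not_not, not_lt]

theorem van_linPt (η : U) {j : ℕ} {i : Fin (n + 1)} (h : j ≤ (i : ℕ)) : F.Van j (F.emb i (F.linPt η j i)) :=
  fun l hl hm => by
    rcases (F.range_linPt η).1 hm with rfl | h'
    · omega
    · omega

theorem le_of_van {j : ℕ} {i : Fin (n + 1)} {z : ChS X U i} (h : F.Van j (F.emb i z)) : j ≤ (i : ℕ) :=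
  not_lt.1 fun hi => h i hi ⟨z, rfl⟩

theorem linPt_specializes {η : U} {j : ℕ} {i : Fin (n + 1)} {z : ChS X U i} (hp : p (F.emb i z) = η)
    (hv : F.Van j (F.emb i z)) : F.linPt η j i ⤳ z := by
  refine (PrimeSpectrum.le_iff_specializes _ _).1 (lin_le (F.comap_C_eq i z η.2 hp) fun l hl => ?_)
  exact not_not.1 fun h => hv l hl ((F.mem_range_iff i l z).2 h)

theorem linPt_eq (η : U) {j : ℕ} {i i' : Fin (n + 1)} (h : j ≤ (i : ℕ)) (h' : j ≤ (i' : ℕ)) :
    F.emb i (F.linPt η j i) = F.emb i' (F.linPt η j i') := by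
  suffices H : ∀ a b : Fin (n + 1), j ≤ (a : ℕ) → j ≤ (b : ℕ) →
      F.emb a (F.linPt η j a) ⤳ F.emb b (F.linPt η j b) from ((H i i' h h').antisymm (H i' i h' h)).eq
  intro a b ha hb
  obtain ⟨z, hz⟩ := (F.range_linPt η (j := j) (i := b) (l := a)).2 (Or.inr ha)
  rw [← hz]
  exact (F.linPt_specializes (by rw [hz, p_linPt]) (hz ▸ F.van_linPt η hb)).map (F.emb a).continuous

/-- The generic point of the `j`-th linear subspace of the fibre over `η`. -/
noncomputable def gp (η : U) (j : Fin (n + 1)) : P := F.emb j (F.linPt η j j)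

theorem gp_eq (η : U) {j i : Fin (n + 1)} (h : j ≤ i) : F.gp η j = F.emb i (F.linPt η j i) :=
  F.linPt_eq η le_rfl h

theorem p_gp (η : U) (j : Fin (n + 1)) : p (F.gp η j) = η := F.p_linPt η j j

theorem van_gp (η : U) (j : Fin (n + 1)) : F.Van j (F.gp η j) := F.van_linPt η le_rfl

theorem gp_mem_range (η : U) {j i : Fin (n + 1)} (h : j ≤ i) : F.gp η j ∈ Set.range (F.emb i) :=
  ⟨_, (F.gp_eq η h).symm⟩

theorem gp_specializes {η : U} {j : Fin (n + 1)} {x : P} (hp : p x = η) (hv : F.Van j x) : F.gp η j ⤳ x := by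
  obtain ⟨i, z, rfl⟩ := F.cover x (hp ▸ η.2)
  have hji : (j : ℕ) ≤ i := F.le_of_van hv
  rw [F.gp_eq η hji]
  exact (F.linPt_specializes hp hv).map (F.emb i).continuous

theorem gp_zero_specializes {η : U} {x : P} (hp : p x = η) : F.gp η 0 ⤳ x :=
  F.gp_specializes hp fun l hl => absurd hl (Nat.not_lt_zero _)

theorem gp_castSucc (η : U) (j : Fin n) :
    F.gp η j.castSucc ⤳ F.gp η j.succ ∧ F.gp η j.castSucc ≠ F.gp η j.succ := by
  refine ⟨F.gp_specializes (F.p_gp η _) (F.van_mono (by simp) (F.van_gp η j.succ)), fun e => ?_⟩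
  exact F.van_gp η j.succ j.castSucc (by simp) (e ▸ F.gp_mem_range η le_rfl)

theorem rd_emb [LocallyOfFiniteType p] (i : Fin (n + 1)) (z : ChS X U i) : FibDim.rd p (F.emb i z) ≤ n := by
  classical
  let σ' := ULift.{u} (Fin (Fintype.card {l : Fin (n + 1) // l ≠ i}))
  let e : MvPolynomial σ' Γ(X, U) ≃+* Ch Γ(X, U) i :=
    (MvPolynomial.renameEquiv Γ(X, U) (Equiv.ulift.trans (Fintype.equivFin _).symm)).toRingEquiv
  let E : ChS X U i ≅ 𝔸(σ'; Spec Γ(X, U)) := H9A1.specIso e ≪≫ (AffineSpace.SpecIso σ' Γ(X, U)).symm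
  let q := Spec.map (CommRingCat.ofHom (MvPolynomial.C : Γ(X, U) →+* Ch Γ(X, U) i))
  have hq : E.hom ≫ (𝔸(σ'; Spec Γ(X, U)) ↘ Spec Γ(X, U)) = q := by
    simp only [E, Iso.trans_hom, Iso.symm_hom, Category.assoc, AffineSpace.SpecIso_inv_over, H9A1.specIso,
      Functor.mapIso_hom, Iso.op_hom]
    show Spec.map _ ≫ Spec.map _ = Spec.map _
    rw [← Spec.map_comp]
    congr 1
    apply CommRingCat.hom_ext
    apply RingHom.ext
    intro c
    exact (MvPolynomial.renameEquiv Γ(X, U) (Equiv.ulift.trans (Fintype.equivFin _).symm)).commutes c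
  haveI : LocallyOfFiniteType q := (HasRingHomProperty.Spec_iff (P := @LocallyOfFiniteType)).2
    (RingHom.finiteType_algebraMap.2 inferInstance)
  have hcard : Fintype.card {l : Fin (n + 1) // l ≠ i} = n := by simp [Fintype.card_subtype_compl]
  have h0 : ∀ {A B : Scheme.{u}} (f : A ⟶ B) [IsOpenImmersion f] (a : A), FibDim.rd f a = 0 := fun f _ a => by
    have h0 := VarDim.rdeg_preimmersion f a
    rw [← FibDim.rd_eq_rdeg] at h0
    exact_mod_cast h0
  have h1 : FibDim.rd q z ≤ n := by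
    rw [← hq, FibDim.rd_comp, h0 E.hom, add_zero]
    exact (FibDim.rd_affineSpace_le _ _).trans hcard.le
  have h2 : FibDim.rd (F.emb i ≫ p) z = FibDim.rd q z := by
    rw [F.emb_comp, FibDim.rd_comp, h0 F.affine.fromSpec, zero_add]
  rw [FibDim.rd_comp, h0 (F.emb i), add_zero] at h2
  exact h2 ▸ h1

variable {δ : X → ℤ} {δP : P → ℤ} [LocallyOfFiniteType p]

include F in
theorem delta_le_add (hδ : Cyc.DeltaCompat p δP δ) {x : P} (hx : p x ∈ U) : δP x ≤ δ (p x) + n := by
  obtain ⟨i, z, rfl⟩ := F.cover x hx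
  have := F.rd_emb i z
  rw [CycLib.deltaCompat_eq p hδ]
  omega

theorem delta_gp (hd : Cyc.IsDimFun P δP) (hδ : Cyc.DeltaCompat p δP δ) (η : U) (j : Fin (n + 1)) :
    δP (F.gp η j) = δ (η : X) + n - (j : ℕ) := by
  have hstep : ∀ i : Fin n, δP (F.gp η i.succ) + 1 ≤ δP (F.gp η i.castSucc) := fun i => by
    have := CycLib.delta_lt hd (F.gp_castSucc η i).1 (F.gp_castSucc η i).2
    omega
  have hup : ∀ i : Fin (n + 1), δP (F.gp η i) + (i : ℕ) ≤ δ (η : X) + n := by
    intro i
    induction i using Fin.induction with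
    | zero => simpa [F.p_gp η 0] using F.delta_le_add hδ (x := F.gp η 0) (by rw [F.p_gp]; exact η.2)
    | succ i ih => have := hstep i; simp at ih ⊢; omega
  have hdown : ∀ i : Fin (n + 1), δ (η : X) + n ≤ δP (F.gp η i) + (i : ℕ) := by
    intro i
    induction i using Fin.reverseInduction with
    | last => simpa [F.p_gp η (Fin.last n)] using CycLib.le_of_deltaCompat p hδ (F.gp η (Fin.last n))
    | cast i ih => have := hstep i; simp at ih ⊢; omega
  have := hup j
  have := hdown j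
  omega

theorem eq_gp (hd : Cyc.IsDimFun P δP) (hδ : Cyc.DeltaCompat p δP δ) {η : U} {j : Fin (n + 1)} {x : P}
    (hp : p x = η) (hv : F.Van j x) (hx : δ (η : X) + n - (j : ℕ) ≤ δP x) : x = F.gp η j :=
  (CycLib.eq_of_delta_le hd (F.gp_specializes hp hv) (by rw [F.delta_gp hd hδ]; exact hx)).symm

end Frame

end Groth.Agent.H9PB
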