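import Groth.Agent.H9PB.FrobGraph
import Groth.Agent.WeilLib.FrobDegree
import Groth.Agent.ZetaLib.PointsOfExt
import Groth.Agent.Deform.Chev.PowFrob
import Groth.Agent.CurveBC.Main
import Groth.Agent.S7645
import Groth.Agent.PicGlue.ProjSpaceBC

/-! The Frobenius of a curve over a finite field and the bound on its fixed points. -/

set_option autoImplicit false
set_option linter.unusedSectionVars false
set_option linter.style.haveILetI false
set_option backward.isDefEq.respectTransparency false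
set_option backward.isDefEq.respectTransparency.types false
set_option maxHeartbeats 1000000

universe u

open CategoryTheory CategoryTheory.Limits AlgebraicGeometry TopologicalSpace Opposite

noncomputable section

namespace Groth.Agent.H9PB.FrobCurve

open Groth.Agent Groth.Agent.WeilLib

section Fix

variable {k₀ : Type u} [Field k₀] [Finite k₀] {K : Type u} [Field K] [IsAlgClosed K] [Algebra k₀ K]
variable {X Y : Scheme.{u}} {f : X ⟶ Spec (CommRingCat.of k₀)} {π : Y ⟶ X}
variable {g : Y ⟶ Spec (CommRingCat.of K)} {F : Y ⟶ Y} (hF : F ≫ g = g)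

/-- The fixed scheme of a lift of the `q ^ n`-power map: reduced, finite, counted by `Zeta.nPts`. -/
theorem card_fixScheme [LocallyOfFiniteType f] [QuasiCompact f] [IsSeparated g]
    (hpb : IsPullback π g f (Spec.map (CommRingCat.ofHom (algebraMap k₀ K))))
    {FX : X ⟶ X} {n : ℕ} (hn : 0 < n) (hFX : IsPowMap FX (Nat.card k₀ ^ n)) (hFπ : F ≫ π = π ≫ FX) :
    IsReduced (FinFr.fixScheme g F hF) ∧ Finite ↥(FinFr.fixScheme g F hF) ∧
      Nat.card ↥(FinFr.fixScheme g F hF) = Zeta.nPts f n := by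
  classical
  have : LocallyOfFiniteType g := MorphismProperty.of_isPullback hpb inferInstance
  have hG := isPowLift_of_comm hFX π hFπ
  have hQ1 : 1 < Nat.card k₀ ^ n := Nat.one_lt_pow hn.ne' Finite.one_lt_card
  have hred : IsReduced (FinFr.fixScheme g F hF) := by
    have := Fintype.ofFinite k₀
    obtain ⟨p, hp⟩ := CharP.exists k₀
    obtain ⟨e, hprime, he⟩ := FiniteField.card k₀ p
    have : Fact p.Prime := ⟨hprime⟩
    have : CharP K p := charP_of_injective_algebraMap (algebraMap k₀ K).injective p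
    refine ZetaLib.isReduced_fixScheme hF hpb p ((e : ℕ) * n) (Nat.mul_pos e.pos hn) ?_
    rw [pow_mul, ← he, ← Nat.card_eq_fintype_card]
    exact hG
  have hfin : Finite (Σ x : X, PointsOver f (k := K) x n) := ZetaLib.finite_sigma_pointsOver f hn
  have hfix := Finite.of_equiv _ (fixedEquiv f hFX hpb hFπ hF).symm
  let ι := ZetaLib.incl hF
  have key : ∀ w : FinFr.fixScheme g F hF, F (ι w) = ι w ∧ IsClosed ({ι w} : Set Y) := by
    intro w
    set x := ι w
    have hb : Function.Bijective (ι.residueFieldMap w) := by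
      refine ⟨(ι.residueFieldMap w).hom.injective, fun b => ?_⟩
      obtain ⟨c, rfl⟩ := (FinFr.fixScheme g F hF).residue_surjective w b
      obtain ⟨d, rfl⟩ := ι.stalkMap_surjective w c
      exact ⟨Y.residue x d,
        congrArg (fun m => CommRingCat.Hom.hom m d) (Scheme.residue_residueFieldMap ι w)⟩
    have : IsIso (ι.residueFieldMap w) := (ConcreteCategory.isIso_iff_bijective _).2 hb
    have h2 : Y.fromSpecResidueField x ≫ F = Y.fromSpecResidueField x := by
      rw [← cancel_epi (Spec.map (ι.residueFieldMap w)), ← Category.assoc,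
        Scheme.Hom.SpecMap_residueFieldMap_fromSpecResidueField, Category.assoc, ZetaLib.incl_comp]
    have h1 : F x = x := congrArg (fun m : FinFr.fixScheme g F hF ⟶ Y => m w) (ZetaLib.incl_comp hF)
    refine ⟨h1, ?_⟩
    have hs := surjective_resHom_of_fixed hpb hQ1 hG x h1 (fixEnd_eq_self x h1 h2)
    rw [VarDim.closedPoint_iff_deg_eq_zero g]
    letI := (VarDim.resHom g x).toAlgebra
    have : Algebra.IsAlgebraic K (Y.residueField x) :=
      ⟨fun a => by obtain ⟨c, rfl⟩ := hs a; exact isAlgebraic_algebraMap c⟩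
    show Cardinal.toNat (Algebra.trdeg K (Y.residueField x)) = 0
    rw [trdeg_eq_zero, map_zero]
  let Ψ : FinFr.fixScheme g F hF → {p : Spec (CommRingCat.of K) ⟶ Y // p ≫ g = 𝟙 _ ∧ p ≫ F = p} :=
    fun w => ⟨pointOfClosedPoint g (ι w) (key w).2, pointOfClosedPoint_comp _ _ _, by
      refine ext_of_apply_closedPoint_eq g ?_ (pointOfClosedPoint_comp _ _ _) ?_
      · rw [Category.assoc, hF, pointOfClosedPoint_comp]
      · have e := pointOfClosedPoint_apply g (ι w) (key w).2 (IsLocalRing.closedPoint K)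
        exact (congrArg F e).trans ((key w).1.trans e.symm)⟩
  have hΨ : Function.Bijective Ψ := by
    refine ⟨fun w w' h => ι.isEmbedding.injective ?_, fun p => ?_⟩
    · have := congrArg (fun t : {p : Spec (CommRingCat.of K) ⟶ Y // p ≫ g = 𝟙 _ ∧ p ≫ F = p} =>
        t.1 (IsLocalRing.closedPoint K)) h
      exact ((pointOfClosedPoint_apply g (ι w) (key w).2 _).symm.trans this).trans
        (pointOfClosedPoint_apply g (ι w') (key w').2 _)
    · have hl : p.1 ≫ (pullback.lift (𝟙 Y) F (by rw [hF, Category.id_comp]) : Y ⟶ pullback g g) =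
          p.1 ≫ (pullback.lift (𝟙 Y) (𝟙 Y) rfl : Y ⟶ pullback g g) := by
        apply pullback.hom_ext <;> simp [p.2.2]
      let z : Spec (CommRingCat.of K) ⟶ FinFr.fixScheme g F hF := pullback.lift p.1 p.1 hl
      have hz : z ≫ ι = p.1 := pullback.lift_fst _ _ _
      refine ⟨z (IsLocalRing.closedPoint K), Subtype.ext
        (ext_of_apply_closedPoint_eq g (pointOfClosedPoint_comp _ _ _) p.2.1 ?_)⟩
      refine (pointOfClosedPoint_apply g (ι (z (IsLocalRing.closedPoint K))) (key _).2 _).trans ?_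
      exact congrArg (fun m : Spec (CommRingCat.of K) ⟶ Y => m (IsLocalRing.closedPoint K)) hz
  refine ⟨hred, Finite.of_injective Ψ hΨ.1, ?_⟩
  rw [Nat.card_congr (Equiv.ofBijective Ψ hΨ), card_fixed_eq_nPts f hn hFX hpb hFπ hF]

end Fix

section Deg

variable {k₀ : Type u} [Field k₀] {K : Type u} [Field K] [IsAlgClosed K] [Algebra k₀ K]
variable {X C : Scheme.{u}} {f : X ⟶ Spec (CommRingCat.of k₀)} {π : C ⟶ X} [C.Over (Spec (CommRingCat.of K))]

/-- A lift of the `Q`-power map of a curve has degree `Q`. -/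
theorem deg_pullback_powLift (h : Curve.IsSmoothProperCurve K C (C ↘ Spec (CommRingCat.of K)))
    (hpb : IsPullback π (C ↘ Spec (CommRingCat.of K)) f (Spec.map (CommRingCat.ofHom (algebraMap k₀ K))))
    (F : C ⟶ C) (hF : F ≫ (C ↘ Spec (CommRingCat.of K)) = C ↘ Spec (CommRingCat.of K)) {Q : ℕ} (hQ : 0 < Q)
    (hG : IsPowLift π F Q) {M : C.Modules} (hM : PicF.IsInvertible M) :
    Curv2.deg K C ((Scheme.Modules.pullback F).obj M) 1 = (Q : ℤ) * Curv2.deg K C M 1 := by
  obtain ⟨hp, hs, hI, hd⟩ := h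
  obtain ⟨n, i, hi, hiw⟩ := S7645.result K C hd.le
  obtain ⟨e, he⟩ := PicGlue.exists_projSpace_iso n K
  have hproj : Neron.IsProjectiveOver K (Over.mk (C ↘ Spec (CommRingCat.of K))) := by
    haveI := hi
    exact ⟨n, i ≫ e.hom, inferInstance, (Category.assoc _ _ _).trans ((congrArg (i ≫ ·) he).trans hiw)⟩
  let Xb : WeilCoh.Var K := ⟨Over.mk (C ↘ Spec (CommRingCat.of K)), hs, hproj, inferInstanceAs (IrreducibleSpace C)⟩
  let F' : Xb ⟶ Xb := ObjectProperty.homMk (Over.homMk F hF)
  have hgen : F (genericPoint C) = genericPoint C := map_gen_of_isPowLift (Xb := Xb) (F := F') hpb hQ hG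
  have hres : F.residueDegree (genericPoint C) = Q ^ WeilCoh.dim C :=
    residueDegree_gen_of_isPowLift (Xb := Xb) (F := F') hpb hQ hG
  have hdim : WeilCoh.dim C = 1 := natDim_eq (n := 1) (by rw [hd]; rfl)
  haveI : IsFinite F := CurveFinMap.isFinite_of_generic K hd hd F hF hgen
  rw [CurveFinMap.deg_pullback K F hd hF hgen (InvEnd.isFinLocFreeOfRank_one hM), hres, hdim, pow_one]

end Deg

/-- Geometrically irreducible implies geometrically connected. -/
theorem geometricallyConnected {X Y : Scheme.{u}} (f : X ⟶ Y) [GeometricallyIrreducible f] :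
    GeometricallyConnected f := by
  refine ⟨fun K _ y P fst snd h => ?_⟩
  haveI := GeometricallyIrreducible.geometrically_irreducibleSpace (f := f) y fst snd h
  exact inferInstanceAs (ConnectedSpace P)

/-- **The bound on the number of points.** -/
theorem sq_le {k : Type u} [Field k] [Finite k] {X : Scheme.{u}} [X.Over (Spec (CommRingCat.of k))]
    [GeometricallyIrreducible (X ↘ Spec (CommRingCat.of k))]
    (h : Curve.IsSmoothProperCurve k X (X ↘ Spec (CommRingCat.of k))) {n : ℕ} (hn : 0 < n) :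
    ((Zeta.nPts (X ↘ Spec (CommRingCat.of k)) n : ℤ) - (Nat.card k : ℤ) ^ n - 1) ^ 2 ≤
      4 * (Curv2.genus k X : ℤ) ^ 2 * (Nat.card k : ℤ) ^ n := by
  obtain ⟨hp, hs, hI, hd⟩ := h
  haveI := geometricallyConnected (X ↘ Spec (CommRingCat.of k))
  haveI := QuasiCompact.compactSpace_of_compactSpace (X ↘ Spec (CommRingCat.of k))
  haveI := quasiSeparatedSpace_of_quasiSeparated (X ↘ Spec (CommRingCat.of k))
  have h0 := CurveBC.finrank_h0_of_geometricallyConnected k X
  obtain ⟨hp', hs', hI', hd', -, -⟩ := CurveBC.bar_facts k X hd h0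
  letI := CurveBC.overBar k X
  let K := AlgebraicClosure k
  let C := Curv2.bc k X K
  have hpb := CurveBC.isPullback_bar k X
  obtain ⟨Φ, hΦ, -, -, -⟩ := Deform.Chev.PowFrob.exists_frob (k := k)
  let FX := (Φ (Over.mk (X ↘ Spec (CommRingCat.of k))) n).left
  have hFX : IsPowMap FX (Nat.card k ^ n) := hΦ _ n
  have hFXf : FX ≫ (X ↘ Spec (CommRingCat.of k)) = X ↘ Spec (CommRingCat.of k) :=
    Over.w (Φ (Over.mk (X ↘ Spec (CommRingCat.of k))) n)
  let F : C ⟶ C := hpb.lift (Curv2.bcFst k X K ≫ FX) (C ↘ Spec (CommRingCat.of K))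
    (by rw [Category.assoc, hFXf]; exact hpb.w)
  have hF1 : F ≫ Curv2.bcFst k X K = Curv2.bcFst k X K ≫ FX := hpb.lift_fst _ _ _
  have hF2 : F ≫ (C ↘ Spec (CommRingCat.of K)) = C ↘ Spec (CommRingCat.of K) := hpb.lift_snd _ _ _
  haveI : IsSeparated (C ↘ Spec (CommRingCat.of K)) := inferInstance
  obtain ⟨hred, hfin, hcard⟩ := card_fixScheme hF2 hpb hn hFX hF1
  have hQ : 0 < Nat.card k ^ n := pow_pos Nat.card_pos n
  have h := FrobGraph.sq_le K (C := C) ⟨hp', hs', hI', hd'⟩ F hF2 (Nat.card k ^ n)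
    fun M hM => deg_pullback_powLift ⟨hp', hs', hI', hd'⟩ hpb F hF2 hQ (isPowLift_of_comm hFX _ hF1) hM
  rw [hcard, CurveBC.genus_eq k K (Curv2.bcFst k X K) hpb] at h
  exact_mod_cast h

end Groth.Agent.H9PB.FrobCurve
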