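import Groth.Agent.H9PB.ProdCurve
import Groth.Agent.H9PB.FiniteSet
import Groth.Agent.ZetaLib.FixScheme
import Groth.Agent.CurveFinMap.Degree
import Groth.Agent.CurveFF.Canonical

/-! The Castelnuovo inequality for the graph of an endomorphism of a curve. -/

set_option autoImplicit false
set_option linter.unusedSectionVars false
set_option linter.style.haveILetI false
set_option backward.isDefEq.respectTransparency false
set_option backward.isDefEq.respectTransparency.types false
set_option maxHeartbeats 1000000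

universe u

open CategoryTheory CategoryTheory.Limits AlgebraicGeometry TopologicalSpace Opposite
open Groth.Agent.H23.PicMul

noncomputable section

namespace Groth.Agent.H9PB.FrobGraph

open Groth.Agent Groth.Agent.Big

variable (k : Type u) [Field k] [IsAlgClosed k]

/-- Pairing with the inverse of the ideal of a curve. -/
theorem pair_inverse_ideal {S : Scheme.{u}} [S.Over (Spec (CommRingCat.of k))] [IsProper (S ↘ Spec (CommRingCat.of k))]
    [IsIntegral S] [Smooth (S ↘ Spec (CommRingCat.of k))] (hdim : topologicalKrullDim S = 2)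
    {C : Scheme.{u}} [C.Over (Spec (CommRingCat.of k))] [IsProper (C ↘ Spec (CommRingCat.of k))] [IsIntegral C]
    (hC : topologicalKrullDim C = 1) (i : C ⟶ S) [IsClosedImmersion i]
    (hi : i ≫ (S ↘ Spec (CommRingCat.of k)) = C ↘ Spec (CommRingCat.of k))
    {F : S.Modules} (hF : PicF.IsInvertible F) (hIF : PicF.cl (ClSub.idealMod i.ker) * PicF.cl F = 1)
    {L : S.Modules} (hL : PicF.IsInvertible L) :
    pair k L F = (Curv2.deg k C ((Scheme.Modules.pullback i).obj L) 1 : ℚ) := by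
  haveI := CurveCohLib.isNoetherian_of_proper (k := k) (X := S)
  have hI := SurfStab.isInvertible_ideal (k := k) hdim hC i
  obtain ⟨L', hL', ⟨δ'⟩⟩ := H23.PicInv.exists_inverse hL
  have hLL' : PicF.cl L * PicF.cl L' = 1 := Big.cl_mul_eq_one ⟨δ'⟩
  have h1 := SurfRR.intNum_ideal_inverse hdim.le hC i hi hI hL hL' hLL'
  have h2 : pair k (ClSub.idealMod i.ker) L' = (Curv2.deg k C ((Scheme.Modules.pullback i).obj L) 1 : ℚ) := by
    rw [← Big.intNum_eq_pair k hdim.le hI hL', h1]
  rw [← h2, pair_inverse k hdim.le hF hI (by rw [mul_comm]; exact hIF) hL', pair_symm k (L := F),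
    pair_inverse k hdim.le hL hL' hLL' hF, neg_neg]

/-- Degrees of inverse classes pulled back to a curve. -/
theorem deg_pullback_inv {S : Scheme.{u}} {Z : Scheme.{u}} [Z.Over (Spec (CommRingCat.of k))]
    [IsProper (Z ↘ Spec (CommRingCat.of k))] [IsIntegral Z] (hZ : topologicalKrullDim Z = 1)
    {I F : S.Modules} (hI : PicF.IsInvertible I) (hF : PicF.IsInvertible F) (hIF : PicF.cl I * PicF.cl F = 1)
    (g : Z ⟶ S) :
    Curv2.deg k Z ((Scheme.Modules.pullback g).obj F) 1 = - Curv2.deg k Z ((Scheme.Modules.pullback g).obj I) 1 := by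
  haveI : IsNoetherian Z := CurveCohLib.isNoetherian_of_proper (k := k)
  obtain ⟨c⟩ : Nonempty (CohB1.tensorMod ((Scheme.Modules.pullback g).obj I)
      ((Scheme.Modules.pullback g).obj F) ≅ Coh.structureModule Z) := cl_eq_iff.1 (by
    have := congrArg (PicF.pullCl g) hIF
    rw [H23.PicMul.pullCl_mul, H23.PicMul.pullCl_one] at this
    exact this)
  have h1 := CurveRR.deg_tensor k hZ (PicClLib.isInvertible_pullback g hI) (PicClLib.isInvertible_pullback g hF)
  have h0 := (CurveRR.deg_congr k c 1).trans (CurveDeg.deg_structureModule k)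
  linarith [h1.symm.trans h0]

/-- Composite pullbacks have the same degree. -/
theorem deg_pullback_comp {A B D : Scheme.{u}} [A.Over (Spec (CommRingCat.of k))]
    [IsProper (A ↘ Spec (CommRingCat.of k))] [IsIntegral A] (a : A ⟶ B) (b : B ⟶ D)
    (c : A ⟶ D) (h : a ≫ b = c) (M : D.Modules) :
    Curv2.deg k A ((Scheme.Modules.pullback a).obj ((Scheme.Modules.pullback b).obj M)) 1 =
      Curv2.deg k A ((Scheme.Modules.pullback c).obj M) 1 := by
  subst h
  exact CurveRR.deg_congr k ((Scheme.Modules.pullbackComp a b).app M) 1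

variable {C : Scheme.{u}} [C.Over (Spec (CommRingCat.of k))]

/-- **The inequality for the fixed points.** -/
theorem sq_le (h : Curve.IsSmoothProperCurve k C (C ↘ Spec (CommRingCat.of k))) (F : C ⟶ C)
    (hF : F ≫ (C ↘ Spec (CommRingCat.of k)) = C ↘ Spec (CommRingCat.of k)) (Q : ℕ)
    (hdeg : ∀ M : C.Modules, PicF.IsInvertible M →
      Curv2.deg k C ((Scheme.Modules.pullback F).obj M) 1 = (Q : ℤ) * Curv2.deg k C M 1)
    [IsReduced (FinFr.fixScheme (C ↘ Spec (CommRingCat.of k)) F hF)]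
    [Finite ↥(FinFr.fixScheme (C ↘ Spec (CommRingCat.of k)) F hF)] :
    ((Nat.card ↥(FinFr.fixScheme (C ↘ Spec (CommRingCat.of k)) F hF) : ℤ) - Q - 1) ^ 2 ≤
      4 * (Curv2.genus k C : ℤ) ^ 2 * Q := by
  obtain ⟨hp, hs, hI, hd⟩ := h
  haveI := CurveCohLib.isNoetherian_of_proper (k := k) (X := C)
  let g := C ↘ Spec (CommRingCat.of k)
  -- a rational point
  obtain ⟨x₀, hx₀⟩ : ∃ x : C, IsClosed ({x} : Set C) := by
    obtain ⟨T, hT2, hTcl⟩ := CurveSection.exists_closed_finset k hd 1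
    obtain ⟨x, hx⟩ := Finset.card_pos.1 (by omega : 0 < T.card)
    exact ⟨x, hTcl x hx⟩
  let y : Spec (CommRingCat.of k) ⟶ C := pointOfClosedPoint g x₀ hx₀
  have hy : y ≫ g = 𝟙 _ := pointOfClosedPoint_comp _ _ _
  let P := pullback g g
  letI : P.Over (Spec (CommRingCat.of k)) := ⟨pullback.fst _ _ ≫ g⟩
  let i₁ : C ⟶ P := pullback.lift (𝟙 C) (g ≫ y) (by rw [Category.assoc, hy, Category.id_comp, Category.comp_id])
  let i₂ : C ⟶ P := pullback.lift (g ≫ y) (𝟙 C) (by rw [Category.assoc, hy, Category.id_comp, Category.comp_id])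
  obtain ⟨hpP, hIP, hdim, H, F₁, F₂, hH, hF₁, hF₂, h11, h22, h12, g₁, g₂, t₁, t₂⟩ :=
    ProdCurve.exists_classes k (C₁ := C) (C₂ := C) ⟨hp, hs, hI, hd⟩ ⟨hp, hs, hI, hd⟩ y hy y hy i₁
      ⟨pullback.lift_fst _ _ _, pullback.lift_snd _ _ _⟩ i₂ ⟨pullback.lift_snd _ _ _, pullback.lift_fst _ _ _⟩
  haveI : Smooth (P ↘ Spec (CommRingCat.of k)) := inferInstanceAs (Smooth (pullback.fst g g ≫ g))
  let δ : C ⟶ P := pullback.lift (𝟙 C) (𝟙 C) rfl
  have hδ1 : δ ≫ pullback.fst g g = 𝟙 C := pullback.lift_fst _ _ _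
  have hδ2 : δ ≫ pullback.snd g g = 𝟙 C := pullback.lift_snd _ _ _
  let γ : C ⟶ P := pullback.lift F (𝟙 C) (by rw [hF, Category.id_comp])
  have hγ1 : γ ≫ pullback.fst g g = F := pullback.lift_fst _ _ _
  have hγ2 : γ ≫ pullback.snd g g = 𝟙 C := pullback.lift_snd _ _ _
  let φ : C ⟶ P := pullback.lift (𝟙 C) F (by rw [hF, Category.id_comp])
  let Φ : P ⟶ P := pullback.lift (pullback.fst g g) (pullback.snd g g ≫ F)
    (by rw [Category.assoc, hF]; exact pullback.condition)
  have hΦ1 : Φ ≫ pullback.fst g g = pullback.fst g g := pullback.lift_fst _ _ _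
  have hΦ2 : Φ ≫ pullback.snd g g = pullback.snd g g ≫ F := pullback.lift_snd _ _ _
  haveI : IsClosedImmersion δ := inferInstanceAs (IsClosedImmersion (pullback.diagonal g))
  haveI : IsClosedImmersion (γ ≫ pullback.snd g g) := by rw [hγ2]; infer_instance
  haveI : IsClosedImmersion γ := IsClosedImmersion.of_comp γ (pullback.snd g g)
  have hδo : δ ≫ (P ↘ Spec (CommRingCat.of k)) = g := by
    show δ ≫ pullback.fst g g ≫ g = g
    rw [reassoc_of% hδ1]
  have hγo : γ ≫ (P ↘ Spec (CommRingCat.of k)) = g := by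
    show γ ≫ pullback.fst g g ≫ g = g
    rw [reassoc_of% hγ1]; exact hF
  have eδ : δ ≫ Φ = φ := by
    apply pullback.hom_ext
    · rw [Category.assoc, hΦ1, hδ1]; exact (pullback.lift_fst _ _ _).symm
    · rw [Category.assoc, hΦ2, reassoc_of% hδ2]; exact (pullback.lift_snd _ _ _).symm
  have eγ : γ ≫ Φ = F ≫ δ := by
    apply pullback.hom_ext
    · rw [Category.assoc, hΦ1, hγ1, Category.assoc, hδ1, Category.comp_id]
    · rw [Category.assoc, hΦ2, reassoc_of% hγ2, Category.assoc, hδ2, Category.comp_id]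
  have ei₂ : i₂ ≫ Φ = F ≫ i₂ := by
    apply pullback.hom_ext
    · rw [Category.assoc, hΦ1, Category.assoc]
      show pullback.lift _ _ _ ≫ pullback.fst g g = F ≫ pullback.lift _ _ _ ≫ pullback.fst g g
      rw [pullback.lift_fst, reassoc_of% hF]
    · rw [Category.assoc, hΦ2, Category.assoc]
      show pullback.lift _ _ _ ≫ pullback.snd g g ≫ F = F ≫ pullback.lift _ _ _ ≫ pullback.snd g g
      rw [pullback.lift_snd_assoc, pullback.lift_snd, Category.id_comp, Category.comp_id]
  have sq : IsPullback γ F Φ δ := by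
    refine ⟨⟨eγ⟩, ⟨PullbackCone.IsLimit.mk _ (fun c => c.fst ≫ pullback.snd g g) ?_ ?_ ?_⟩⟩
    all_goals intro c
    all_goals have h1 := congrArg (· ≫ pullback.fst g g) c.condition
    all_goals have h2 := congrArg (· ≫ pullback.snd g g) c.condition
    all_goals simp only [Category.assoc, hΦ1, hΦ2, hδ1, hδ2, Category.comp_id] at h1 h2
    · apply pullback.hom_ext
      · rw [Category.assoc, Category.assoc, hγ1, h2, h1]
      · rw [Category.assoc, Category.assoc, hγ2, Category.comp_id]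
    · rw [Category.assoc]
      exact h2
    · intro m hm _
      rw [← hm, Category.assoc, hγ2, Category.comp_id]
  -- the classes
  have hID := SurfStab.isInvertible_ideal (k := k) hdim hd δ
  have hIG := SurfStab.isInvertible_ideal (k := k) hdim hd γ
  obtain ⟨L, hL, ⟨εL⟩⟩ := H23.PicInv.exists_inverse hID
  have hIL : PicF.cl (ClSub.idealMod δ.ker) * PicF.cl L = 1 := Big.cl_mul_eq_one ⟨εL⟩
  let L' : P.Modules := (Scheme.Modules.pullback Φ).obj L
  have hL' : PicF.IsInvertible L' := PicClLib.isInvertible_pullback Φ hL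
  obtain ⟨eG⟩ := CurveAlgEquiv.nonempty_pullback_idealMod Φ δ.ker hID γ.ker hIG (FComplLib.ker_of_isPullback sq).symm
  have hGL : PicF.cl (ClSub.idealMod γ.ker) * PicF.cl L' = 1 := by
    have := congrArg (PicF.pullCl Φ) hIL
    rw [H23.PicMul.pullCl_mul, H23.PicMul.pullCl_one] at this
    rw [← (cl_eq_iff.2 ⟨eG⟩)]
    exact this
  have pD : ∀ M, PicF.IsInvertible M → pair k M L = (Curv2.deg k C ((Scheme.Modules.pullback δ).obj M) 1 : ℚ) :=
    fun M hM => pair_inverse_ideal k hdim hd δ hδo hL hIL hM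
  have pG : ∀ M, PicF.IsInvertible M → pair k M L' = (Curv2.deg k C ((Scheme.Modules.pullback γ).obj M) 1 : ℚ) :=
    fun M hM => pair_inverse_ideal k hdim hd γ hγo hL' hGL hM
  -- self-intersection of the diagonal
  have hω : Curv2.deg k C ((Scheme.Modules.pullback δ).obj (ClSub.idealMod δ.ker)) 1 =
      2 * (Curv2.genus k C : ℤ) - 2 := (CurveFF.canonical_invariants k C hd).2
  have hd0 : Curv2.deg k C ((Scheme.Modules.pullback δ).obj L) 1 = 2 - 2 * (Curv2.genus k C : ℤ) := by
    rw [deg_pullback_inv k hd hID hL hIL δ, hω]; ring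
  -- the fixed points
  let Z := FinFr.fixScheme g F hF
  let ι : Z ⟶ C := ZetaLib.incl hF
  haveI : IsClosedImmersion ι := MorphismProperty.pullback_fst (P := @IsClosedImmersion) φ δ inferInstance
  haveI : LocallyOfFiniteType (ι ≫ g) := inferInstance
  haveI : JacobsonSpace ↥Z := LocallyOfFiniteType.jacobsonSpace (ι ≫ g)
  let SZ : Closeds C := ⟨Set.range ι, ι.isClosedEmbedding.isClosed_range⟩
  have hSfin : (SZ : Set C).Finite := Set.finite_range ι
  have hScl : ∀ z ∈ (SZ : Set C), IsClosed ({z} : Set C) := by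
    rintro _ ⟨w, rfl⟩
    rw [← Set.image_singleton]
    exact ι.isClosedEmbedding.isClosedMap _ isClosed_singleton
  have hJ := FiniteSet.isInvertible_idealMod SZ hScl k hd
  have hcomap : δ.ker.comap φ = FiniteSet.setIdeal SZ := by
    rw [← Scheme.IdealSheafData.ker_fst_of_isClosedImmersion]
    exact FiniteSet.ker_eq_setIdeal SZ ι rfl
  obtain ⟨eF⟩ := CurveAlgEquiv.nonempty_pullback_idealMod φ δ.ker hID _ hJ hcomap
  have hN : Curv2.deg k C ((Scheme.Modules.pullback φ).obj L) 1 = (Nat.card ↥Z : ℤ) := by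
    rw [deg_pullback_inv k hd hID hL hIL φ, CurveRR.deg_congr k eF 1, FiniteSet.deg_idealMod SZ hSfin hScl k,
      neg_neg]
    show ((Set.range ι).ncard : ℤ) = _
    rw [← Nat.card_coe_set_eq, Nat.card_range_of_injective ι.isClosedEmbedding.injective]
  -- the numbers
  have ha : pair k L F₁ = (1 : ℤ) := by rw [pair_symm k, pD F₁ hF₁, t₁ δ hδ2]
  have hb : pair k L F₂ = (1 : ℤ) := by rw [pair_symm k, pD F₂ hF₂, t₂ δ hδ1]
  have ha' : pair k L' F₁ = (1 : ℤ) := by rw [pair_symm k, pG F₁ hF₁, t₁ γ hγ2]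
  have hb' : pair k L' F₂ = (Q : ℤ) := by
    have h1 : Curv2.deg k C ((Scheme.Modules.pullback i₂).obj L) 1 = 1 := by
      have := (g₂ L hL).symm.trans hb
      exact_mod_cast this
    rw [g₂ L' hL', deg_pullback_comp k i₂ Φ _ ei₂ L, ← deg_pullback_comp k F i₂ _ rfl L,
      hdeg _ (PicClLib.isInvertible_pullback i₂ hL), h1, mul_one]
  have hdd : pair k L L = ((2 - 2 * (Curv2.genus k C : ℤ) : ℤ) : ℚ) := by rw [pD L hL, hd0]
  have hcc : pair k L L' = ((Nat.card ↥Z : ℤ) : ℚ) := by
    rw [pair_symm k, pD L' hL', deg_pullback_comp k δ Φ _ eδ L, hN]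
  have hd' : pair k L' L' = (((Q : ℤ) * (2 - 2 * (Curv2.genus k C : ℤ)) : ℤ) : ℚ) := by
    rw [pG L' hL', deg_pullback_comp k γ Φ _ eγ L, ← deg_pullback_comp k F δ _ rfl L,
      hdeg _ (PicClLib.isInvertible_pullback δ hL), hd0]
  have key := ProdCurve.mixed_sq_le k hdim hH hF₁ hF₂ h11 h22 h12 hL hL' ha hb ha' hb' hdd hcc hd'
  refine le_of_le_of_eq (le_of_eq_of_le ?_ key) ?_ <;> ring

end Groth.Agent.H9PB.FrobGraph
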