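import Groth.Agent.H9PB.Alg
import Groth.Agent.QuotRep.GrassUniv
import Groth.Agent.AmpleX.Sect

/-! Standard coordinates on the model of a projective space of rank one quotients. -/

set_option autoImplicit false
set_option linter.style.haveILetI false
set_option linter.unusedSectionVars false
set_option backward.isDefEq.respectTransparency false
set_option backward.isDefEq.respectTransparency.types false
set_option maxHeartbeats 1000000

universe u

open CategoryTheory CategoryTheory.Limits AlgebraicGeometry TopologicalSpace Opposite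

attribute [-instance] CategoryTheory.catToReflQuiver

noncomputable section

namespace Groth.Agent.H9PB.Model

open Groth.Agent Groth.Agent.QuotRep Groth.Agent.QuotRep.Gr

theorem isInvertible_of_rank {T : Scheme.{u}} {L : T.Modules} (h : FlatMod.IsFinLocFreeOfRank 1 L) :
    PicF.IsInvertible L :=
  fun x => let ⟨U, hx, ⟨e⟩⟩ := h x
    ⟨U, hx, ⟨e ≪≫ (show FlatMod.freeMod (U : Scheme.{u}) 1 ≅ Coh.structureModule (↑U) from coproductUniqueIso _)⟩⟩

theorem locus_of_isIso_secHom {T : Scheme.{u}} {L : T.Modules} (w : Fin 1 → Γ(L, (⊤ : T.Opens))) [IsIso (secHom w)] :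
    AmpleX.locus (w 0) = ⊤ := by
  haveI : IsIso (Sigma.ι (fun _ : Fin 1 => Coh.structureModule T) 0) :=
    ⟨Sigma.desc fun _ => 𝟙 _, by simp, Sigma.hom_ext _ _ fun j => by
      obtain rfl : j = 0 := Subsingleton.elim _ _
      simp⟩
  haveI : IsIso (InvX.ofSect (w 0)) := by rw [← ι_secHom]; infer_instance
  refine top_le_iff.1 (AmpleX.le_locus _ le_rfl ?_)
  have h := (InvX.isIso_restrict_iff (InvX.ofSect (w 0)) ⊤).1 inferInstance
  rwa [InvX.one_ofSect] at h

theorem locus_pullTop {T G : Scheme.{u}} {Q : G.Modules} (hQ : PicF.IsInvertible Q) (e : T ⟶ G)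
    (s : Γ(Q, (⊤ : G.Opens))) : AmpleX.locus (pullTop e Q s) = e ⁻¹ᵁ AmpleX.locus s := by
  rw [← AmpleX.locus_pullElt hQ e s, pullTop_eq_unit]
  rfl

variable {R : Type u} [CommRing R] {M : Type u} [AddCommGroup M] [Module R M] {n : ℕ}
  (b : Module.Basis (Fin (n + 1)) R M) (D : GrPlucker.Rep R M 1)

/-- The column of a chart. -/
abbrev col (i : Fin (n + 1)) : Fin 1 → Fin (n + 1) := fun _ => i

theorem normed_row (i : Fin (n + 1)) :
    GrPlucker.Normed (col i) (fun (_ : Fin 1) l => (y i l : H9PB.Ch R i)) := by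
  refine Matrix.ext fun a c => ?_
  obtain rfl : a = c := Subsingleton.elim _ _
  simp [Matrix.submatrix_apply, col]

/-- The coordinates of a chart. -/
def chartHom (i : Fin (n + 1)) : GrPlucker.Ch (k := R) (col i) →ₐ[R] H9PB.Ch R i :=
  (GrPlucker.exists_hom (k := R) (col i) _ (normed_row i)).choose

theorem chartHom_univ (i l : Fin (n + 1)) : chartHom i (GrPlucker.univ (k := R) (col i) 0 l) = y i l :=
  congrFun (congrFun (GrPlucker.exists_hom (k := R) (col i) _ (normed_row i)).choose_spec 0) l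

theorem chartHom_bijective (i : Fin (n + 1)) : Function.Bijective (chartHom (R := R) i) := by
  let g : H9PB.Ch R i →ₐ[R] GrPlucker.Ch (k := R) (col i) :=
    MvPolynomial.aeval fun l => GrPlucker.univ (k := R) (col i) 0 l.1
  have h1 : g.comp (chartHom i) = AlgHom.id R _ := by
    refine GrPlucker.hom_unique (col i) _ _ (Matrix.ext fun r l => ?_)
    obtain rfl : r = 0 := Subsingleton.elim _ _
    rw [Matrix.map_apply, Matrix.map_apply, AlgHom.comp_apply, chartHom_univ, AlgHom.id_apply]
    by_cases h : l = i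
    · subst h
      rw [y_self, map_one]
      have := congrFun (congrFun (GrPlucker.normed_univ (k := R) (col l)) 0) 0
      rw [Matrix.one_apply_eq] at this
      exact this.symm
    · rw [y_ne h, MvPolynomial.aeval_X]
  have h2 : (chartHom i).comp g = AlgHom.id R _ := MvPolynomial.algHom_ext fun l => by
    rw [AlgHom.comp_apply, MvPolynomial.aeval_X, chartHom_univ, y_ne l.2, AlgHom.id_apply]
  exact Function.bijective_iff_has_inverse.2
    ⟨g, fun x => AlgHom.congr_fun h1 x, fun x => AlgHom.congr_fun h2 x⟩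

/-- A standard chart of the model. -/
def chart (i : Fin (n + 1)) : Spec (CommRingCat.of (H9PB.Ch R i)) ⟶ D.X.left :=
  Spec.map (CommRingCat.ofHom (chartHom (R := R) i).toRingHom) ≫ GrPlucker.σ D (col i) b

instance isIso_chartHom (i : Fin (n + 1)) : IsIso (CommRingCat.ofHom (chartHom (R := R) i).toRingHom) :=
  (ConcreteCategory.isIso_iff_bijective _).2 (chartHom_bijective i)

instance isOpenImmersion_chart (i : Fin (n + 1)) : IsOpenImmersion (chart b D i) := by
  haveI := GrPlucker.isOpenImmersion_σ D (col i) b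
  unfold chart
  infer_instance

theorem chart_comp (i : Fin (n + 1)) :
    chart b D i ≫ D.X.hom = Spec.map (CommRingCat.ofHom (MvPolynomial.C : R →+* H9PB.Ch R i)) := by
  rw [chart, Category.assoc, GrPlucker.σ_hom, ← Spec.map_comp]
  exact congrArg Spec.map (CommRingCat.hom_ext (chartHom (R := R) i).comp_algebraMap)

theorem range_chart (i : Fin (n + 1)) : Set.range (chart b D i) = Set.range (GrPlucker.σ D (col i) b) := by
  refine Set.ext fun x => ⟨fun ⟨w, h⟩ => ⟨Spec.map (CommRingCat.ofHom (chartHom (R := R) i).toRingHom) w, h⟩, fun ⟨w, h⟩ => ?_⟩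
  obtain ⟨v, rfl⟩ := (Spec.map (CommRingCat.ofHom (chartHom (R := R) i).toRingHom)).surjective w
  exact ⟨v, h⟩

theorem exists_mem_range (x : D.X.left) : ∃ i, x ∈ Set.range (chart b D i) := by
  obtain ⟨I, hI⟩ := Gr.exists_chart_mem (b := b) (D := D) x
  refine ⟨I 0, ?_⟩
  rw [range_chart]
  rwa [show col (I 0) = I from funext fun r => congrArg I (Subsingleton.elim 0 r)]

/-- A map into a chart given by a point of its ring. -/
theorem mat_specMap {A : Type u} [CommRing A] [Algebra R A] (i l : Fin (n + 1)) (φ : H9PB.Ch R i →ₐ[R] A) :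
    mat (Spec.map (CommRingCat.ofHom (φ.comp (chartHom (R := R) i)).toRingHom)) 0 l =
      (Scheme.ΓSpecIso (CommRingCat.of A)).inv.hom (φ (y i l)) := by
  rw [mat_spec (R := CommRingCat.of A) (Spec.map (CommRingCat.ofHom (φ.comp (chartHom (R := R) i)).toRingHom))
    (φ.comp (chartHom (R := R) i)) rfl]
  show (Scheme.ΓSpecIso (CommRingCat.of A)).inv.hom (φ (chartHom i (GrPlucker.univ (k := R) (col i) 0 l))) = _
  rw [chartHom_univ]

theorem chart_mem_range_iff (i l : Fin (n + 1)) (z : Spec (CommRingCat.of (H9PB.Ch R i))) :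
    chart b D i z ∈ Set.range (chart b D l) ↔ y i l ∉ (z : PrimeSpectrum (H9PB.Ch R i)).asIdeal := by
  let P : Ideal (H9PB.Ch R i) := (z : PrimeSpectrum (H9PB.Ch R i)).asIdeal
  haveI : P.IsPrime := (z : PrimeSpectrum (H9PB.Ch R i)).isPrime
  let K := P.ResidueField
  let φ : H9PB.Ch R i →ₐ[R] K := IsScalarTower.toAlgHom R _ _
  let T : Scheme.{u} := Spec (CommRingCat.of K)
  let a : T ⟶ Gr.Y R (col i) := Spec.map (CommRingCat.ofHom (φ.comp (chartHom (R := R) i)).toRingHom)
  obtain ⟨o⟩ : Nonempty T := inferInstanceAs (Nonempty (PrimeSpectrum K))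
  haveI : Subsingleton T := inferInstanceAs (Subsingleton (PrimeSpectrum K))
  have ho : (a ≫ GrPlucker.σ D (col i) b) o = chart b D i z := by
    have hz : Spec.map (CommRingCat.ofHom φ.toRingHom) o = z := by
      refine PrimeSpectrum.ext ?_
      show Ideal.comap φ.toRingHom (o : PrimeSpectrum K).asIdeal = P
      rw [((Ideal.eq_bot_or_top (o : PrimeSpectrum K).asIdeal).resolve_right (o : PrimeSpectrum K).isPrime.ne_top)]
      exact Ideal.ker_algebraMap_residueField P
    rw [chart, Scheme.Hom.comp_apply, Scheme.Hom.comp_apply, ← hz, ← Scheme.Hom.comp_apply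
      (Spec.map (CommRingCat.ofHom φ.toRingHom)) (Spec.map _), ← Spec.map_comp]
    rfl
  have hunit : y i l ∉ P ↔ IsUnit (mat a 0 l) := by
    rw [mat_specMap, isUnit_map_iff, isUnit_iff_ne_zero]
    show y i l ∉ P ↔ algebraMap (H9PB.Ch R i) K (y i l) ≠ 0
    rw [Ne, Ideal.algebraMap_residueField_eq_zero]
  rw [hunit, range_chart, ← ho]
  haveI := GrPlucker.isOpenImmersion_σ D (col l) b
  constructor
  · rintro ⟨w, hw⟩
    let a' := IsOpenImmersion.lift (GrPlucker.σ D (col l) b) (a ≫ GrPlucker.σ D (col i) b) (by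
      rintro _ ⟨x, rfl⟩
      exact ⟨w, hw.trans (congrArg _ (Subsingleton.elim o x))⟩)
    have h := congrFun (congrFun (mat_eq_mul b D a a' (IsOpenImmersion.lift_fac _ _ _).symm) 0) i
    rw [Matrix.mul_apply, Fin.sum_univ_one] at h
    have h1 : mat a 0 i = 1 := by
      have := congrFun (congrFun (mat_normed a) 0) 0
      rwa [Matrix.one_apply_eq] at this
    rw [h1] at h
    exact IsUnit.of_mul_eq_one _ h.symm
  · intro hu
    obtain ⟨u, hu⟩ := hu
    obtain ⟨a', ha', hm⟩ := exists_map (k := R) (a ≫ Gr.str R (col i)) (I := col l)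
      (fun (r : Fin 1) m => (↑u⁻¹ : Γ(T, ⊤)) * mat a r m) (Matrix.ext fun r s => by
        obtain rfl : r = s := Subsingleton.elim _ _
        obtain rfl : r = 0 := Subsingleton.elim _ _
        rw [Matrix.submatrix_apply, Matrix.one_apply_eq]
        show (↑u⁻¹ : Γ(T, ⊤)) * mat a 0 l = 1
        rw [← hu, Units.inv_mul])
    have he := comp_σ_eq b D a a' ha'.symm (fun _ _ => (u : Γ(T, ⊤))) (fun _ _ => (↑u⁻¹ : Γ(T, ⊤)))
      (Matrix.ext fun r m => by
        rw [hm, Matrix.mul_apply, Fin.sum_univ_one, ← mul_assoc, Units.mul_inv, one_mul]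
        obtain rfl : r = default := Subsingleton.elim _ _
        rfl)
      (Matrix.ext fun r m => by
        rw [hm, Matrix.mul_apply, Fin.sum_univ_one]
        obtain rfl : r = default := Subsingleton.elim _ _
        rfl)
    exact ⟨a' o, (congrArg (fun f : T ⟶ D.X.left => f o) he).symm⟩

theorem range_le_locus (i : Fin (n + 1)) :
    (GrPlucker.σ D (col i) b).opensRange (H := GrPlucker.isOpenImmersion_σ D (col i) b) ≤
      AmpleX.locus (sig b D i) := by
  haveI := isIso_frame_chart (b := b) (D := D) (col i)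
  rintro _ ⟨w, rfl⟩
  have h := locus_of_isIso_secHom fun r : Fin 1 => pullTop (GrPlucker.σ D (col i) b) (Q b D) (sig b D (col i r))
  rw [locus_pullTop (isInvertible_of_rank isFinLocFreeOfRank_Q)] at h
  exact h.ge (trivial : w ∈ (⊤ : (Gr.Y R (col i)).Opens))

/-- The ratio of two tautological sections on a chart. -/
theorem exists_coord (i l : Fin (n + 1)) :
    ∃ (c : Γ(D.X.left, (chart b D i).opensRange))
      (e : (⊤ : (Spec (CommRingCat.of (H9PB.Ch R i))).Opens) ≤ chart b D i ⁻¹ᵁ (chart b D i).opensRange),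
      InvX.IsFrame (AModX.res (Q b D) (le_top : (chart b D i).opensRange ≤ ⊤) (sig b D i)) ∧
      AModX.res (Q b D) (le_top : (chart b D i).opensRange ≤ ⊤) (sig b D l) =
        c • AModX.res (Q b D) (le_top : (chart b D i).opensRange ≤ ⊤) (sig b D i) ∧
      ((chart b D i).appLE _ ⊤ e).hom c = (Scheme.ΓSpecIso (CommRingCat.of (H9PB.Ch R i))).inv.hom (y i l) := by
  have hle : (chart b D i).opensRange ≤ AmpleX.locus (sig b D i) := fun x hx => range_le_locus b D i (by
    show x ∈ Set.range _
    rw [← range_chart]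
    exact hx)
  have hf : InvX.IsFrame (AModX.res (Q b D) (le_top : (chart b D i).opensRange ≤ ⊤) (sig b D i)) :=
    AmpleX.isFrame_res_of_le (sig b D i) hle
  obtain ⟨c, hc⟩ := hf.exists_coord le_rfl (AModX.res (Q b D) (le_top : (chart b D i).opensRange ≤ ⊤) (sig b D l))
  rw [AModX.res_self] at hc
  have e : (⊤ : (Spec (CommRingCat.of (H9PB.Ch R i))).Opens) ≤ chart b D i ⁻¹ᵁ (chart b D i).opensRange :=
    fun x _ => ⟨x, rfl⟩
  refine ⟨c, e, hf, hc, ?_⟩
  let a : Spec (CommRingCat.of (H9PB.Ch R i)) ⟶ Gr.Y R (col i) :=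
    Spec.map (CommRingCat.ofHom (chartHom (R := R) i).toRingHom)
  obtain ⟨hiso, hco⟩ := frame_of_map (b := b) (D := D) a (h := chart b D i) rfl
  haveI := hiso
  have hps : ∀ m, QCoh.pullSec (chart b D i) (Q b D) e (AModX.res (Q b D) le_top (sig b D m)) =
      pullTop (chart b D i) (Q b D) (sig b D m) := fun m => by
    refine (ExistEasy.pullSec_res (chart b D i) (Q b D) le_top le_rfl le_top e (sig b D m)).symm.trans ?_
    exact QCoh.map_id' (M := (Scheme.Modules.pullback (chart b D i)).obj (Q b D)) (homOfLE le_rfl) _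
  have h1 := congrArg (QCoh.pullSec (chart b D i) (Q b D) e) hc
  rw [QCoh.pullSec_smul, hps, hps] at h1
  have h2 := comb_injective (fun r : Fin 1 => pullTop (chart b D i) (Q b D) (sig b D (col i r)))
    (a := fun _ => ((chart b D i).appLE _ ⊤ e).hom c) (b := fun r => mat a r l)
    (Eq.trans (by rw [comb, Fin.sum_univ_one]; exact h1.symm) (hco l))
  refine (congrFun h2 0).trans ?_
  rw [mat_spec (R := CommRingCat.of (H9PB.Ch R i)) a (chartHom i) rfl]
  show (Scheme.ΓSpecIso (CommRingCat.of (H9PB.Ch R i))).inv.hom (chartHom i (GrPlucker.univ (k := R) (col i) 0 l)) = _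
  rw [chartHom_univ]

end Groth.Agent.H9PB.Model

end
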