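import Groth.Agent.Big.Hodge
import Groth.Agent.Big.SurfCurve
import Groth.Agent.SurfRR.Curve
import Groth.Agent.SurfStab.LMEuler
import Groth.Agent.CurveAlgEquiv.Main
import Groth.Agent.CurveAlgEquiv.PullIdeal
import Groth.Agent.FComplLib.IdealComap
import Groth.Agent.PicGlue.AmpleDimOne
import Groth.Agent.FibDim.BaseField
import Groth.Agent.S1582
import Groth.Agent.S9816
import Groth.Agent.FMBase.Polarization

/-! The intersection pairing on a product of two curves. -/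

set_option autoImplicit false
set_option linter.unusedSectionVars false
set_option linter.style.haveILetI false
set_option backward.isDefEq.respectTransparency false
set_option backward.isDefEq.respectTransparency.types false
set_option maxHeartbeats 1000000

universe u

open CategoryTheory CategoryTheory.Limits AlgebraicGeometry TopologicalSpace Opposite
open Groth.Agent.H23.PicMul

noncomputable section

namespace Groth.Agent.H9PB.ProdCurve

open Groth.Agent Groth.Agent.Big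

variable (k : Type u) [Field k] [IsAlgClosed k]

/-- An invertible module on a point is trivial. -/
theorem trivial_cl_of_point {M : (Spec (CommRingCat.of k)).Modules} (hM : PicF.IsInvertible M) :
    PicF.cl M = 1 := by
  haveI := FibDim.subsingleton_spec_field k
  obtain ⟨U, hU, e, he⟩ := InvX.exists_frame hM (IsLocalRing.closedPoint k)
  obtain rfl : U = ⊤ := top_unique fun w _ => by
    rw [Subsingleton.elim (α := ↥(Spec (CommRingCat.of k))) w (IsLocalRing.closedPoint k)]; exact hU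
  haveI : IsIso (InvX.ofSect e) := DivX.isIso_of_frames (InvX.ofSect e) fun w =>
    ⟨⊤, trivial, _, InvX.isFrame_one ⊤, by
      show InvX.IsFrame (InvX.one (InvX.ofSect e))
      rw [InvX.one_ofSect]; exact he⟩
  exact cl_eq_iff.2 ⟨(asIso (InvX.ofSect e)).symm⟩

/-- A fibre curve of a surface fibred over a curve. -/
theorem exists_fibre {S : Scheme.{u}} [S.Over (Spec (CommRingCat.of k))] [IsProper (S ↘ Spec (CommRingCat.of k))]
    [IsIntegral S] [Smooth (S ↘ Spec (CommRingCat.of k))] (hdim : topologicalKrullDim S = 2)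
    {C D : Scheme.{u}} [C.Over (Spec (CommRingCat.of k))] [IsProper (C ↘ Spec (CommRingCat.of k))] [IsIntegral C]
    [D.Over (Spec (CommRingCat.of k))] [IsProper (D ↘ Spec (CommRingCat.of k))] [IsIntegral D]
    [Smooth (D ↘ Spec (CommRingCat.of k))] (hC : topologicalKrullDim C = 1) (hD : topologicalKrullDim D = 1)
    (i : C ⟶ S) [IsClosedImmersion i] (hi : i ≫ (S ↘ Spec (CommRingCat.of k)) = C ↘ Spec (CommRingCat.of k))
    (q : S ⟶ D) (y : Spec (CommRingCat.of k) ⟶ D) (hy : y ≫ (D ↘ Spec (CommRingCat.of k)) = 𝟙 _)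
    (h : IsPullback i (C ↘ Spec (CommRingCat.of k)) q y) :
    ∃ (F : S.Modules), PicF.IsInvertible F ∧
      (∀ L, PicF.IsInvertible L → pair k L F = (Curv2.deg k C ((Scheme.Modules.pullback i).obj L) 1 : ℚ)) ∧
      Curv2.deg k C ((Scheme.Modules.pullback i).obj F) 1 = 0 ∧
      ∀ (g : D ⟶ S), g ≫ q = 𝟙 D → Curv2.deg k D ((Scheme.Modules.pullback g).obj F) 1 = 1 := by
  haveI := CurveCohLib.isNoetherian_of_proper (k := k) (X := S)
  haveI : IsClosedImmersion y := AlgebraicGeometry.isClosedImmersion_of_comp_eq_id _ _ hy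
  have hI := SurfStab.isInvertible_ideal (k := k) hdim hC i
  have hcl : IsClosed ({y (IsLocalRing.closedPoint k)} : Set D) := by
    haveI := FibDim.subsingleton_spec_field k
    have : Set.range y = {y (IsLocalRing.closedPoint k)} := Set.ext fun z =>
      ⟨fun ⟨w, hw⟩ => by rw [← hw, Subsingleton.elim w (IsLocalRing.closedPoint k)]; rfl, fun hz => ⟨_, hz.symm⟩⟩
    exact this ▸ y.isClosedEmbedding.isClosed_range
  have hker : y.ker = CurvePoint.ptIdeal (y (IsLocalRing.closedPoint k)) hcl :=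
    CurveAlgEquiv.ker_rational _ hcl y hy rfl
  have hJ : PicF.IsInvertible (ClSub.idealMod y.ker) := by
    rw [hker]; exact CurvePoint.isInvertible_ptMod _ hcl k hD
  have hJd : Curv2.deg k D (ClSub.idealMod y.ker) 1 = -1 := by
    rw [hker]; exact CurvePoint.deg_ptMod _ hcl k
  obtain ⟨e⟩ := CurveAlgEquiv.nonempty_pullback_idealMod q y.ker hJ i.ker hI (FComplLib.ker_of_isPullback h).symm
  have hI' : PicF.cl (ClSub.idealMod i.ker) = PicF.pullCl q (PicF.cl (ClSub.idealMod y.ker)) :=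
    (cl_eq_iff.2 ⟨e⟩).symm
  obtain ⟨F, hF, ⟨δ⟩⟩ := H23.PicInv.exists_inverse hI
  have hIF : PicF.cl (ClSub.idealMod i.ker) * PicF.cl F = 1 := Big.cl_mul_eq_one ⟨δ⟩
  have hdeg : ∀ {Z : Scheme.{u}} [Z.Over (Spec (CommRingCat.of k))] [IsProper (Z ↘ Spec (CommRingCat.of k))]
      [IsIntegral Z], topologicalKrullDim Z = 1 → ∀ (g : Z ⟶ S),
      Curv2.deg k Z ((Scheme.Modules.pullback g).obj F) 1 =
        - Curv2.deg k Z ((Scheme.Modules.pullback g).obj (ClSub.idealMod i.ker)) 1 := fun {Z} _ _ _ hZ g => by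
    haveI : IsNoetherian Z := CurveCohLib.isNoetherian_of_proper (k := k)
    obtain ⟨c⟩ : Nonempty (CohB1.tensorMod ((Scheme.Modules.pullback g).obj (ClSub.idealMod i.ker))
        ((Scheme.Modules.pullback g).obj F) ≅ Coh.structureModule Z) := cl_eq_iff.1 (by
      have := congrArg (PicF.pullCl g) hIF
      rw [H23.PicMul.pullCl_mul, H23.PicMul.pullCl_one] at this
      exact this)
    have h1 := CurveRR.deg_tensor k hZ (PicClLib.isInvertible_pullback g hI) (PicClLib.isInvertible_pullback g hF)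
    have h0 := (CurveRR.deg_congr k c 1).trans (CurveDeg.deg_structureModule k)
    linarith [h1.symm.trans h0]
  refine ⟨F, hF, fun L hL => ?_, ?_, fun g hg => ?_⟩
  · obtain ⟨L', hL', ⟨δ'⟩⟩ := H23.PicInv.exists_inverse hL
    have hLL' : PicF.cl L * PicF.cl L' = 1 := Big.cl_mul_eq_one ⟨δ'⟩
    have h1 := SurfRR.intNum_ideal_inverse hdim.le hC i hi hI hL hL' hLL'
    have h2 : pair k (ClSub.idealMod i.ker) L' = (Curv2.deg k C ((Scheme.Modules.pullback i).obj L) 1 : ℚ) := by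
      rw [← Big.intNum_eq_pair k hdim.le hI hL', h1]
    rw [← h2, pair_inverse k hdim.le hF hI (by rw [mul_comm]; exact hIF) hL', pair_symm k (L := F),
      pair_inverse k hdim.le hL hL' hLL' hF, neg_neg]
  · rw [hdeg hC i]
    obtain ⟨ε⟩ : Nonempty ((Scheme.Modules.pullback i).obj (ClSub.idealMod i.ker) ≅ Coh.structureModule C) :=
      cl_eq_iff.1 (by
        show PicF.pullCl i (PicF.cl (ClSub.idealMod i.ker)) = _
        rw [hI', PicClLib.pullCl_comp, h.w, ← PicClLib.pullCl_comp,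
          show PicF.pullCl y (PicF.cl (ClSub.idealMod y.ker)) = 1 from ?_, H23.PicMul.pullCl_one, H23.PicMul.one_def]
        exact trivial_cl_of_point k (PicClLib.isInvertible_pullback y hJ))
    rw [CurveRR.deg_congr k ε 1, CurveDeg.deg_structureModule k, neg_zero]
  · rw [hdeg hD g]
    obtain ⟨ε⟩ : Nonempty ((Scheme.Modules.pullback g).obj (ClSub.idealMod i.ker) ≅ ClSub.idealMod y.ker) :=
      cl_eq_iff.1 (by
        show PicF.pullCl g (PicF.cl (ClSub.idealMod i.ker)) = _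
        rw [hI', PicClLib.pullCl_comp, hg, PicClLib.pullCl_id])
    rw [CurveRR.deg_congr k ε 1, hJd, neg_neg]

/-- The classes of the two fibres on a product of two curves. -/
theorem exists_classes {C₁ C₂ : Scheme.{u}} [C₁.Over (Spec (CommRingCat.of k))]
    [C₂.Over (Spec (CommRingCat.of k))]
    (h₁ : Curve.IsSmoothProperCurve k C₁ (C₁ ↘ Spec (CommRingCat.of k)))
    (h₂ : Curve.IsSmoothProperCurve k C₂ (C₂ ↘ Spec (CommRingCat.of k)))
    (x : Spec (CommRingCat.of k) ⟶ C₁) (hx : x ≫ (C₁ ↘ Spec (CommRingCat.of k)) = 𝟙 _)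
    (y : Spec (CommRingCat.of k) ⟶ C₂) (hy : y ≫ (C₂ ↘ Spec (CommRingCat.of k)) = 𝟙 _)
    (i₁ : C₁ ⟶ pullback (C₁ ↘ Spec (CommRingCat.of k)) (C₂ ↘ Spec (CommRingCat.of k)))
    (hi₁ : i₁ ≫ pullback.fst _ _ = 𝟙 C₁ ∧ i₁ ≫ pullback.snd _ _ = (C₁ ↘ Spec (CommRingCat.of k)) ≫ y)
    (i₂ : C₂ ⟶ pullback (C₁ ↘ Spec (CommRingCat.of k)) (C₂ ↘ Spec (CommRingCat.of k)))
    (hi₂ : i₂ ≫ pullback.snd _ _ = 𝟙 C₂ ∧ i₂ ≫ pullback.fst _ _ = (C₂ ↘ Spec (CommRingCat.of k)) ≫ x) :
    letI : (pullback (C₁ ↘ Spec (CommRingCat.of k)) (C₂ ↘ Spec (CommRingCat.of k))).Over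
        (Spec (CommRingCat.of k)) := ⟨pullback.fst _ _ ≫ (C₁ ↘ Spec (CommRingCat.of k))⟩
    ∃ _ : IsProper (pullback (C₁ ↘ Spec (CommRingCat.of k)) (C₂ ↘ Spec (CommRingCat.of k)) ↘ Spec (CommRingCat.of k)),
    ∃ _ : IsIntegral (pullback (C₁ ↘ Spec (CommRingCat.of k)) (C₂ ↘ Spec (CommRingCat.of k))),
    topologicalKrullDim ↥(pullback (C₁ ↘ Spec (CommRingCat.of k)) (C₂ ↘ Spec (CommRingCat.of k)) : Scheme.{u}) = 2 ∧
    ∃ (H F₁ F₂ : (pullback (C₁ ↘ Spec (CommRingCat.of k)) (C₂ ↘ Spec (CommRingCat.of k))).Modules),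
      CohB1.IsAmple H ∧ PicF.IsInvertible F₁ ∧ PicF.IsInvertible F₂ ∧
      pair k F₁ F₁ = 0 ∧ pair k F₂ F₂ = 0 ∧ pair k F₁ F₂ = 1 ∧
      (∀ L, PicF.IsInvertible L → pair k L F₁ = (Curv2.deg k C₁ ((Scheme.Modules.pullback i₁).obj L) 1 : ℚ)) ∧
      (∀ L, PicF.IsInvertible L → pair k L F₂ = (Curv2.deg k C₂ ((Scheme.Modules.pullback i₂).obj L) 1 : ℚ)) ∧
      (∀ g : C₂ ⟶ _, g ≫ pullback.snd _ _ = 𝟙 C₂ → Curv2.deg k C₂ ((Scheme.Modules.pullback g).obj F₁) 1 = 1) ∧
      ∀ g : C₁ ⟶ _, g ≫ pullback.fst _ _ = 𝟙 C₁ → Curv2.deg k C₁ ((Scheme.Modules.pullback g).obj F₂) 1 = 1 := by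
  obtain ⟨hp₁, hs₁, hI₁, hd₁⟩ := h₁
  obtain ⟨hp₂, hs₂, hI₂, hd₂⟩ := h₂
  haveI := CurveCohLib.isNoetherian_of_proper (k := k) (X := C₁)
  haveI := CurveCohLib.isNoetherian_of_proper (k := k) (X := C₂)
  haveI := FibDim.subsingleton_spec_field k
  let P := pullback (C₁ ↘ Spec (CommRingCat.of k)) (C₂ ↘ Spec (CommRingCat.of k))
  letI : P.Over (Spec (CommRingCat.of k)) := ⟨pullback.fst _ _ ≫ (C₁ ↘ Spec (CommRingCat.of k))⟩
  haveI : IsProper (P ↘ Spec (CommRingCat.of k)) :=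
    inferInstanceAs (IsProper (pullback.fst _ _ ≫ (C₁ ↘ Spec (CommRingCat.of k))))
  haveI : Smooth (P ↘ Spec (CommRingCat.of k)) :=
    inferInstanceAs (Smooth (pullback.fst _ _ ≫ (C₁ ↘ Spec (CommRingCat.of k))))
  haveI : IsIntegral P := S1582.result k C₁ C₂ _ _
  have hdim : topologicalKrullDim P = 2 := by
    rw [FibDim.topologicalKrullDim_pullback, hd₁, hd₂]
    rfl
  have q₁ : IsPullback i₁ (C₁ ↘ Spec (CommRingCat.of k)) (pullback.snd _ _) y := by
    refine IsPullback.of_right ?_ hi₁.2 (IsPullback.of_hasPullback _ _).flip.flip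
    rw [hi₁.1, hy]
    exact IsPullback.of_horiz_isIso ⟨by simp⟩
  have q₂ : IsPullback i₂ (C₂ ↘ Spec (CommRingCat.of k)) (pullback.fst _ _) x := by
    refine IsPullback.of_right ?_ hi₂.2 (IsPullback.of_hasPullback _ _).flip
    rw [hi₂.1, hx]
    exact IsPullback.of_horiz_isIso ⟨by simp⟩
  haveI : IsClosedImmersion (i₁ ≫ pullback.fst (C₁ ↘ Spec (CommRingCat.of k)) (C₂ ↘ Spec (CommRingCat.of k))) := by
    rw [hi₁.1]; infer_instance
  haveI : IsClosedImmersion i₁ := IsClosedImmersion.of_comp i₁ (pullback.fst (C₁ ↘ Spec (CommRingCat.of k)) (C₂ ↘ Spec (CommRingCat.of k)))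
  haveI : IsClosedImmersion (i₂ ≫ pullback.snd (C₁ ↘ Spec (CommRingCat.of k)) (C₂ ↘ Spec (CommRingCat.of k))) := by
    rw [hi₂.1]; infer_instance
  haveI : IsClosedImmersion i₂ := IsClosedImmersion.of_comp i₂ (pullback.snd (C₁ ↘ Spec (CommRingCat.of k)) (C₂ ↘ Spec (CommRingCat.of k)))
  have e₁ : i₁ ≫ (P ↘ Spec (CommRingCat.of k)) = C₁ ↘ Spec (CommRingCat.of k) := by
    show i₁ ≫ pullback.fst _ _ ≫ _ = _
    rw [reassoc_of% hi₁.1]
  have e₂ : i₂ ≫ (P ↘ Spec (CommRingCat.of k)) = C₂ ↘ Spec (CommRingCat.of k) := by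
    show i₂ ≫ pullback.fst _ _ ≫ _ = _
    rw [reassoc_of% hi₂.2, hx, Category.comp_id]
  obtain ⟨F₁, hF₁, g₁, s₁, t₁⟩ := exists_fibre k hdim hd₁ hd₂ i₁ e₁ (pullback.snd _ _) y hy q₁
  obtain ⟨F₂, hF₂, g₂, s₂, t₂⟩ := exists_fibre k hdim hd₂ hd₁ i₂ e₂ (pullback.fst _ _) x hx q₂
  haveI : C₁.IsSeparated := AmpleVan.isSeparated_of_proper (X := C₁) (A := k)
  haveI : C₂.IsSeparated := AmpleVan.isSeparated_of_proper (X := C₂) (A := k)
  obtain ⟨A₁, hA₁⟩ := PicGlue.exists_isAmple_of_dim_le_one hd₁.le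
  obtain ⟨A₂, hA₂⟩ := PicGlue.exists_isAmple_of_dim_le_one hd₂.le
  refine ⟨inferInstance, inferInstance, hdim, _, F₁, F₂, S9816.result _ _ A₁ A₂ hA₁ hA₂, hF₁, hF₂, ?_, ?_, ?_, g₁, g₂, t₁, t₂⟩
  · rw [g₁ F₁ hF₁, s₁, Int.cast_zero]
  · rw [g₂ F₂ hF₂, s₂, Int.cast_zero]
  · rw [g₂ F₁ hF₁, t₁ i₂ hi₂.1, Int.cast_one]

section Form

variable {S : Scheme.{u}} [S.Over (Spec (CommRingCat.of k))] [IsProper (S ↘ Spec (CommRingCat.of k))] [IsIntegral S]
  {H F₁ F₂ : S.Modules}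

/-- The inequality `D·D ≤ 2 (D·F₁)(D·F₂)`. -/
theorem self_le (hdim : topologicalKrullDim S = 2) (hH : CohB1.IsAmple H) (hF₁ : PicF.IsInvertible F₁)
    (hF₂ : PicF.IsInvertible F₂) (h11 : pair k F₁ F₁ = 0) (h22 : pair k F₂ F₂ = 0) (h12 : pair k F₁ F₂ = 1)
    {L : S.Modules} (hL : PicF.IsInvertible L) {a b : ℤ} (ha : pair k L F₁ = a) (hb : pair k L F₂ = b) :
    pair k L L ≤ 2 * a * b := by
  obtain ⟨P₁, hP₁, e₁⟩ := exists_smul k hdim.le hF₁ (-b)
  obtain ⟨P₂, hP₂, e₂⟩ := exists_smul k hdim.le hF₂ (-a)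
  have hN := InvX.isInvertible_tensorMod hF₁ hF₂
  have hQ := InvX.isInvertible_tensorMod hP₁ hP₂
  have hP := InvX.isInvertible_tensorMod hL hQ
  have q : ∀ M, PicF.IsInvertible M → pair k (CohB1.tensorMod L (CohB1.tensorMod P₁ P₂)) M =
      pair k L M - b * pair k F₁ M - a * pair k F₂ M := fun M hM => by
    rw [pair_add k hdim.le hL hQ hM, pair_add k hdim.le hP₁ hP₂ hM, e₁ M hM, e₂ M hM]
    push_cast
    ring
  have h21 : pair k F₂ F₁ = 1 := by rw [pair_symm k (L := F₂), h12]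
  have hpos : 0 < pair k (CohB1.tensorMod F₁ F₂) (CohB1.tensorMod F₁ F₂) := by
    rw [pair_add k hdim.le hF₁ hF₂ hN, pair_symm k (L := F₁), pair_symm k (L := F₂),
      pair_add k hdim.le hF₁ hF₂ hF₁, pair_add k hdim.le hF₁ hF₂ hF₂, h11, h22, h12, h21]
    norm_num
  have horth : pair k (CohB1.tensorMod F₁ F₂) (CohB1.tensorMod L (CohB1.tensorMod P₁ P₂)) = 0 := by
    rw [pair_add k hdim.le hF₁ hF₂ hP, pair_symm k (L := F₁), pair_symm k (L := F₂), q _ hF₁, q _ hF₂,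
      h11, h22, h12, h21, ha, hb]
    ring
  have h := pair_self_nonpos_of_orth k hdim hH hN hP hpos horth
  rw [q _ hP, pair_symm k (L := L), pair_symm k (L := F₁), pair_symm k (L := F₂), q _ hL, q _ hF₁, q _ hF₂,
    h11, h22, h12, h21, ha, hb, pair_symm k (L := F₁), ha, pair_symm k (L := F₂), hb] at h
  nlinarith [h]

/-- The bound on the mixed defect. -/
theorem mixed_sq_le (hdim : topologicalKrullDim S = 2) (hH : CohB1.IsAmple H) (hF₁ : PicF.IsInvertible F₁)
    (hF₂ : PicF.IsInvertible F₂) (h11 : pair k F₁ F₁ = 0) (h22 : pair k F₂ F₂ = 0) (h12 : pair k F₁ F₂ = 1)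
    {L L' : S.Modules} (hL : PicF.IsInvertible L) (hL' : PicF.IsInvertible L') {a b a' b' c d d' : ℤ}
    (ha : pair k L F₁ = a) (hb : pair k L F₂ = b) (ha' : pair k L' F₁ = a') (hb' : pair k L' F₂ = b')
    (hd : pair k L L = d) (hc : pair k L L' = c) (hd' : pair k L' L' = d') :
    (c - a * b' - b * a') ^ 2 ≤ (2 * a * b - d) * (2 * a' * b' - d') := by
  have key : ∀ m n : ℤ, 0 ≤ (2 * a * b - d) * m ^ 2 - 2 * (c - a * b' - b * a') * m * n +
      (2 * a' * b' - d') * n ^ 2 := fun m n => by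
    obtain ⟨P, hP, eP⟩ := exists_smul k hdim.le hL m
    obtain ⟨Q, hQ, eQ⟩ := exists_smul k hdim.le hL' n
    have hR := InvX.isInvertible_tensorMod hP hQ
    have h := self_le k hdim hH hF₁ hF₂ h11 h22 h12 hR (a := m * a + n * a') (b := m * b + n * b')
      (by rw [pair_add k hdim.le hP hQ hF₁, eP _ hF₁, eQ _ hF₁, ha, ha']; push_cast; ring)
      (by rw [pair_add k hdim.le hP hQ hF₂, eP _ hF₂, eQ _ hF₂, hb, hb']; push_cast; ring)
    rw [pair_add k hdim.le hP hQ hR, eP _ hR, eQ _ hR, pair_symm k (L := L), pair_symm k (L := L'),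
      pair_add k hdim.le hP hQ hL, pair_add k hdim.le hP hQ hL', eP _ hL, eQ _ hL, eP _ hL', eQ _ hL',
      pair_symm k (L := L') (M := L), hd, hd', hc] at h
    have : ((((2 * a * b - d) * m ^ 2 - 2 * (c - a * b' - b * a') * m * n +
        (2 * a' * b' - d') * n ^ 2 : ℤ)) : ℚ) ≥ 0 := by push_cast at h ⊢; linarith
    exact_mod_cast this
  set q := 2 * a * b - d
  set q' := 2 * a' * b' - d'
  set Δ := c - a * b' - b * a'
  have hq : 0 ≤ q := by simpa using key 1 0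
  rcases hq.lt_or_eq with hq | hq
  · have h := key Δ q
    nlinarith
  · have h1 := key 1 0
    have h2 : Δ = 0 := by
      by_contra hne
      have h := key ((|q'| + 1) * Δ) 1
      rw [← hq] at h
      have h3 : 1 ≤ Δ ^ 2 := by
        have : 0 < Δ ^ 2 := by positivity
        omega
      nlinarith [abs_nonneg q', le_abs_self q']
    rw [h2, ← hq]; simp

end Form

/-- The intersection number with inverses. -/
theorem intNum_inv {S : Scheme.{u}} [S.Over (Spec (CommRingCat.of k))] [IsProper (S ↘ Spec (CommRingCat.of k))]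
    (hdim : topologicalKrullDim S ≤ 2) {L M L' M' : S.Modules} (hL : PicF.IsInvertible L) (hL' : PicF.IsInvertible L')
    (hM : Nonempty (CohB1.tensorMod L M ≅ Coh.structureModule S))
    (hM' : Nonempty (CohB1.tensorMod L' M' ≅ Coh.structureModule S)) :
    (FGA.intNum k S 2 ![M, M'] (Coh.structureModule S) : ℚ) = pair k L L' := by
  have hMi : PicF.IsInvertible M := FMBase.isInvertible_of_tensor hL hM.some
  have hMi' : PicF.IsInvertible M' := FMBase.isInvertible_of_tensor hL' hM'.some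
  rw [intNum_eq_pair k hdim hMi hMi', pair_inverse k hdim hL hMi (Big.cl_mul_eq_one hM) hMi', pair_symm k (L := L),
    pair_inverse k hdim hL' hMi' (Big.cl_mul_eq_one hM') hL, pair_symm k (L := L'), neg_neg]

end Groth.Agent.H9PB.ProdCurve
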