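import Groth.Agent.H9PB.ZeroScheme
import Groth.Agent.ZeroSchX.Basic
import Groth.Agent.H23.PicInv
import Groth.Agent.InvX.BilinIso

/-! A map of invertible modules as a section of a twist. -/

set_option autoImplicit false
set_option linter.style.haveILetI false
set_option linter.unusedSectionVars false
set_option backward.isDefEq.respectTransparency false
set_option backward.isDefEq.respectTransparency.types false

universe u

open CategoryTheory AlgebraicGeometry TopologicalSpace Opposite

namespace Groth.Agent.H9PB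

open Groth.Agent AModX H23.PicInv

variable {X : Scheme.{u}} {M N : X.Modules}

/-- Dual frames change inversely. -/
theorem dualFrame_change {U : X → X.Opens} (hU : ∀ x, x ∈ U x) {e : ∀ x, Γ(M, U x)}
    (he : ∀ x, InvX.IsFrame (e x)) (x y : X) {V : X.Opens} (hx : V ≤ U x) (hy : V ≤ U y) {a b : Γ(X, V)}
    (ha : res M hy (e y) = a • res M hx (e x))
    (hb : res (dual he) hy (dualFrame he y) = b • res (dual he) hx (dualFrame he x)) : a * b = 1 := by
  have key : ∀ (z : X) (hz : V ≤ U z), (bilin he hU).b V (res M hz (e z)) (res (dual he) hz (dualFrame he z)) =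
      (1 : Γ(X, V)) := fun z hz => by
    refine ((bilin he hU).res hz (e z) (dualFrame he z)).symm.trans ?_
    show resR hz (pair he hU (U z) (e z) (dualFrame he z)) = 1
    rw [pair_frames, map_one]
  have h1 := key y hy
  rw [ha, hb, (bilin he hU).smul_left, (bilin he hU).smul_right, key x hx] at h1
  refine Eq.trans ?_ h1
  show a * b = a * (b * 1)
  rw [mul_one]

/-- The pairing with the dual frames is perfect. -/
theorem isIso_desc_pair {U : X → X.Opens} (hU : ∀ x, x ∈ U x) {e : ∀ x, Γ(M, U x)}
    (he : ∀ x, InvX.IsFrame (e x)) (hMq : Coh.IsQCoh M) (hDq : Coh.IsQCoh (dual he)) :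
    IsIso (H23.TensorDesc.desc (bilin he hU)) := by
  refine InvX.isIso_desc_of_frames hMq hDq _ fun V x hx => ?_
  obtain ⟨W, hW, hxW, hle⟩ := exists_isAffineOpen_mem_and_subset (x := x) (U := V ⊓ U x) ⟨hx, hU x⟩
  have hWV : W ≤ V := hle.trans inf_le_left
  have hWU : W ≤ U x := hle.trans inf_le_right
  refine ⟨W, res (dual he) hWU (dualFrame he x), hWV, hxW, hW, (isFrame_dualFrame he x).res hWU, ?_⟩
  have key : ∀ r : Γ(X, W), (bilin he hU).b W (r • res M hWU (e x)) (res (dual he) hWU (dualFrame he x)) =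
      (r : Γ(X, W)) := fun r => by
    rw [(bilin he hU).smul_left]
    refine (congrArg (fun t : Γ(X, W) => r * t) ?_).trans (mul_one r)
    refine ((bilin he hU).res hWU (e x) (dualFrame he x)).symm.trans ?_
    show resR hWU (pair he hU (U x) (e x) (dualFrame he x)) = 1
    rw [pair_frames, map_one]
  refine ⟨fun a b hab => ?_, fun r => ⟨(show Γ(X, W) from r) • res M hWU (e x), key r⟩⟩
  obtain ⟨ra, rfl⟩ := (he x).exists_coord hWU a
  obtain ⟨rb, rfl⟩ := (he x).exists_coord hWU b
  rw [show ra = rb from (key ra).symm.trans (hab.trans (key rb))]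

/-- A map of invertible modules is given by the same local equations as a section of the twisted target. -/
theorem exists_twist (hM : PicF.IsInvertible M) (hN : PicF.IsInvertible N) (u : M ⟶ N) :
    ∃ (D : X.Modules) (_ : PicF.IsInvertible D) (_ : Nonempty (CohB1.tensorMod M D ≅ Coh.structureModule X))
      (s : Γ(CohB1.tensorMod N D, (⊤ : X.Opens))), ∀ w : X, ∃ (U : X.Opens) (eM : Γ(M, U)) (eN : Γ(N, U))
        (eL : Γ(CohB1.tensorMod N D, U)) (c : Γ(X, U)), w ∈ U ∧ InvX.IsFrame eM ∧ InvX.IsFrame eN ∧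
        InvX.IsFrame eL ∧ u.app U eM = c • eN ∧ res (CohB1.tensorMod N D) (le_top : U ≤ ⊤) s = c • eL := by
  choose U hU e f he hf using InvX.exists_frame₂ hM hN
  let D := dual he
  have hD : PicF.IsInvertible D := InvX.isInvertible_of_frames fun x => ⟨U x, hU x, _, isFrame_dualFrame he x⟩
  let T := CohB1.tensorMod N D
  let t : ∀ x, Γ(T, U x) := fun x => InvX.tmul (u.app (U x) (e x)) (dualFrame he x)
  obtain ⟨s, hs, -⟩ := existsUnique_glue (M := T) (V := ⊤) U (fun _ => le_top) (fun p _ => ⟨p, hU p⟩) t fun x y => by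
    show res T _ (InvX.tmul _ _) = res T _ (InvX.tmul _ _)
    obtain ⟨a, ha⟩ := (he x).exists_coord (inf_le_left : U x ⊓ U y ≤ U x) (res M inf_le_right (e y))
    obtain ⟨b, hb⟩ := (isFrame_dualFrame he x).exists_coord (inf_le_left : U x ⊓ U y ≤ U x)
      (res D inf_le_right (dualFrame he y))
    rw [InvX.res_tmul, InvX.res_tmul, ← app_res, ← app_res, ha, hb, Scheme.Modules.Hom.app_smul,
      InvX.tmul_smul_left, InvX.tmul_smul_right, ← mul_smul, dualFrame_change hU he x y _ _ ha hb, one_smul]
  refine ⟨D, hD, ?_, s, fun w => ?_⟩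
  · haveI := isIso_desc_pair hU he (ZeroSchX.isQCoh_inv hM) (ZeroSchX.isQCoh_inv hD)
    exact ⟨asIso (H23.TensorDesc.desc (bilin he hU))⟩
  · obtain ⟨c, hc⟩ := (hf w).exists_coord le_rfl (u.app (U w) (e w))
    rw [res_self] at hc
    refine ⟨U w, e w, f w, InvX.tmul (f w) (dualFrame he w), c, hU w, he w, hf w,
      InvX.isFrame_tmul (hf w) (isFrame_dualFrame he w), hc, (hs w).trans ?_⟩
    show InvX.tmul (u.app (U w) (e w)) (dualFrame he w) = _
    rw [hc, InvX.tmul_smul_left]

end Groth.Agent.H9PB
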