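import Groth.Agent.H9PB.SubBundle
import Groth.Agent.H9PB.TwistSec
import Groth.Agent.H23.PicMul
import Groth.Agent.H23.RatSecTensor

/-! The divisor of a quotient by a line. -/

set_option autoImplicit false
set_option linter.style.haveILetI false
set_option linter.unusedSectionVars false
set_option backward.isDefEq.respectTransparency false
set_option backward.isDefEq.respectTransparency.types false
set_option maxHeartbeats 1000000
set_option synthInstance.maxHeartbeats 400000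

universe u

open CategoryTheory CategoryTheory.Limits AlgebraicGeometry TopologicalSpace Opposite

attribute [-instance] CategoryTheory.catToReflQuiver

noncomputable section

namespace Groth.Agent.H9PB

open Groth.Agent Groth.Agent.QuotRep Groth.Agent.GrassSch

variable {X G G₂ : Scheme.{u}} {E₁ E E₂ : X.Modules} {π : G ⟶ X} {π₂ : G₂ ⟶ X} {Q : G.Modules} {Q₂ : G₂.Modules}
  {q : (Scheme.Modules.pullback π).obj E ⟶ Q} {q₂ : (Scheme.Modules.pullback π₂).obj E₂ ⟶ Q₂}

/-- The quotient bundle as a divisor in the bundle. -/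
theorem exists_quotient_divisor_inv {n : ℕ} (hE : FlatMod.IsFinLocFreeOfRank (n + 1) E)
    (hE₂ : FlatMod.IsFinLocFreeOfRank n E₂) (hP : KRR.IsProjBundle π E Q q) (hP₂ : KRR.IsProjBundle π₂ E₂ Q₂ q₂)
    (hE₁ : PicF.IsInvertible E₁) (a : E₁ ⟶ E) (b : E ⟶ E₂) (hab : a ≫ b = 0)
    (hex : (ShortComplex.mk a b hab).ShortExact) :
    ∃ (h : G₂ ⟶ G) (_ : IsClosedImmersion h) (N : G.Modules) (_ : PicF.IsInvertible N)
      (_ : Nonempty (CohB1.tensorMod N ((Scheme.Modules.pullback π).obj E₁) ≅ Q))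
      (s : N.presheaf.obj (Opposite.op ⊤)),
      h ≫ π = π₂ ∧ Nonempty ((Scheme.Modules.pullback h).obj Q ≅ Q₂) ∧ Cyc.IsZeroSchemeOf h N s := by
  have hG := Grass.IsGrass.of_isProjBundle hP
  have hG₂ := Grass.IsGrass.of_isProjBundle hP₂
  haveI : Epi b := hex.epi_g
  haveI := hP.epi
  haveI := hP₂.epi
  haveI : Epi ((Scheme.Modules.pullback π₂).map b) := Grass.epi_pullback_map π₂ b
  obtain ⟨h, hc, -⟩ := existsUnique_class hG hP₂.invertible ((Scheme.Modules.pullback π₂).map b ≫ q₂)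
  haveI := isClosedImmersion_of_isClass (qcoh_ft hE).1 (qcoh_ft hE₂).1 b hG hG₂ hc
  have hM := PicClLib.isInvertible_pullback π hE₁
  have hQ := Model.isInvertible_of_rank hP.invertible
  let u : (Scheme.Modules.pullback π).obj E₁ ⟶ Q := (Scheme.Modules.pullback π).map a ≫ q
  obtain ⟨D, hD, ⟨φ⟩, s, hloc⟩ := exists_twist hM hQ u
  obtain ⟨hh, e, -⟩ := id hc
  refine ⟨h, inferInstance, CohB1.tensorMod Q D, InvX.isInvertible_tensorMod hQ hD, ?_, s, hh, ⟨e⟩, ?_⟩
  · obtain ⟨c₁⟩ := H23.PicMul.assoc Q D ((Scheme.Modules.pullback π).obj E₁)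
    obtain ⟨c₂⟩ := H23.PicMul.comm D ((Scheme.Modules.pullback π).obj E₁)
    obtain ⟨c₃⟩ := H23.PicMul.unit Q
    exact ⟨c₁ ≪≫ PicGrp.tensorModIso (Iso.refl Q) (c₂ ≪≫ φ) ≪≫ c₃⟩
  · exact isZeroSchemeOf_of_local u hM hQ h
      (fun {T} x => vanish_iff_factor a b hab hex.gIsCokernel hG hG₂ hc x) s hloc

end Groth.Agent.H9PB

end
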