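import Groth.Agent.H9PB.ChernComm
import Groth.Agent.AvramovLib.Two
import Groth.Agent.H23.ZeroSec

/-! A section of the twisting sheaf with small zero scheme is regular. -/

set_option autoImplicit false
set_option linter.style.haveILetI false
set_option linter.unusedSectionVars false
set_option backward.isDefEq.respectTransparency false
set_option backward.isDefEq.respectTransparency.types false
set_option maxHeartbeats 800000

universe u

open AlgebraicGeometry CategoryTheory TopologicalSpace RingTheory.Sequence IsLocalRing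

namespace Groth.Agent.H9PB

open Groth.Agent

variable {X P : Scheme.{u}} {p : P ⟶ X} {O1 : P.Modules} {n : ℕ}

/-- The kernel to the generic point of the fibre comes from the base. -/
theorem Frame.residue_gp_zero {U : X.Opens} (F : Frame p O1 n U) {η : U} {x : P} (hx : p x = η)
    (a : P.presheaf.stalk x)
    (ha : P.residue (F.gp η 0) (P.presheaf.stalkSpecializes (F.gp_zero_specializes hx) a) = 0) :
    a ∈ (maximalIdeal (X.presheaf.stalk (p x))).map (p.stalkMap x).hom := by
  obtain ⟨i, z, rfl⟩ := F.cover x (by rw [hx]; exact η.2)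
  letI := (F.el i z).toAlgebra
  haveI := F.isLocalization_el i z
  obtain ⟨⟨b, u⟩, hb⟩ := IsLocalization.surj (z : PrimeSpectrum (Ch Γ(X, U) i)).asIdeal.primeCompl a
  have hu : IsUnit (F.el i z u.1) := F.isUnit_el.2 u.2
  have hs : F.linPt η 0 i ⤳ z := F.linPt_specializes hx fun l hl => absurd hl (Nat.not_lt_zero _)
  have he : F.gp η 0 = F.emb i (F.linPt η 0 i) := F.gp_eq η (Fin.zero_le i)
  have hb' : a * F.el i z u.1 = F.el i z b := hb
  have hmem : b ∈ (F.linPt η 0 i : PrimeSpectrum (Ch Γ(X, U) i)).asIdeal := by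
    rw [← F.residue_el]
    have key : ∀ (w : P) (h : w ⤳ F.emb i z), w = F.gp η 0 →
        P.residue w (P.presheaf.stalkSpecializes h a) = 0 := by
      rintro w h rfl
      exact ha
    have h1 : F.emb i (F.linPt η 0 i) ⤳ F.emb i z := hs.map (F.emb i).continuous
    rw [← F.spec_el hs h1 b, ← hb', map_mul, map_mul, key _ h1 he.symm, zero_mul]
  rw [F.linPt_asIdeal, lin_zero] at hmem
  have hle : (Ideal.map MvPolynomial.C (F.affine.primeIdealOf η).asIdeal).map (F.el i z) ≤
      (maximalIdeal (X.presheaf.stalk (p (F.emb i z)))).map (p.stalkMap (F.emb i z)).hom := by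
    rw [Ideal.map_map, Ideal.map_le_iff_le_comap]
    intro r hr
    rw [Ideal.mem_comap, RingHom.comp_apply, F.el_C]
    refine Ideal.mem_map_of_mem _ ((IsLocalRing.mem_maximalIdeal _).2 fun hunit => ?_)
    have h2 : r ∈ (z : PrimeSpectrum (Ch Γ(X, U) i)).asIdeal.comap MvPolynomial.C := by
      rw [F.comap_C_eq i z η.2 hx]; exact hr
    refine F.isUnit_el.1 ?_ h2
    rw [F.el_C]
    exact hunit.map (p.stalkMap (F.emb i z)).hom
  have h3 := hle (Ideal.mem_map_of_mem (F.el i z) hmem)
  rw [← hb'] at h3
  exact (Ideal.mul_unit_mem_iff_mem _ hu).1 h3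

namespace Charted

variable (hfr : Charted p O1 n) [IsProper p]

include hfr in
/-- A section not vanishing at the generic point of a fibre is regular on the fibre. -/
theorem injective_smul_germ_at {N : P.Modules} (hL : PicF.IsInvertible N) [IsLocallyNoetherian X]
    (s : N.presheaf.obj (Opposite.op ⊤)) (x : P)
    (hgen : H23.RatSec.cls N (hfr.gpt (p x) 0) (N.presheaf.germ ⊤ (hfr.gpt (p x) 0) trivial s) ≠ 0) :
    Function.Injective (fun a : P.presheaf.stalk x => a • N.presheaf.germ ⊤ x trivial s) := by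
  haveI := hfr.flat
  haveI : IsLocallyNoetherian P := LocallyOfFiniteType.isLocallyNoetherian p
  obtain ⟨t, ht, ht'⟩ := H23.RatSec.exists_gen hL x
  obtain ⟨f, hf⟩ := Submodule.mem_span_singleton.1
    (ht.1.ge (Submodule.mem_top : N.presheaf.germ ⊤ x trivial s ∈ ⊤))
  letI := (p.stalkMap x).hom.toAlgebra
  haveI : IsLocalHom (algebraMap (X.presheaf.stalk (p x)) (P.presheaf.stalk x)) :=
    inferInstanceAs (IsLocalHom (p.stalkMap x).hom)
  haveI : Module.Flat (X.presheaf.stalk (p x)) (P.presheaf.stalk x) := Flat.stalkMap p x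
  let J : Ideal (P.presheaf.stalk x) := (maximalIdeal (X.presheaf.stalk (p x))).map (p.stalkMap x).hom
  let F := hfr.frame (p x)
  let η : hfr.opn (p x) := ⟨p x, hfr.mem_opn (p x)⟩
  have hs : F.gp η 0 ⤳ x := F.gp_zero_specializes rfl
  let ρ : P.presheaf.stalk x →+* P.residueField (F.gp η 0) :=
    (P.residue (F.gp η 0)).hom.comp (P.presheaf.stalkSpecializes hs).hom
  have hJ : J = RingHom.ker ρ := by
    refine le_antisymm ?_ fun a ha => F.residue_gp_zero (η := η) rfl a ha
    rw [Ideal.map_le_iff_le_comap]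
    intro b hb
    have e := Scheme.Hom.stalkSpecializes_stalkMap_apply p (F.gp η 0) x hs b
    show P.residue (F.gp η 0) (P.presheaf.stalkSpecializes hs (p.stalkMap x b)) = 0
    refine (congrArg (P.residue (F.gp η 0)) e).symm.trans ?_
    refine (IsLocalRing.residue_eq_zero_iff _).2 ((IsLocalRing.mem_maximalIdeal _).2 fun hu => ?_)
    have hu2 := (isUnit_map_iff (p.stalkMap (F.gp η 0)).hom _).1 hu
    have hpx : p x ⤳ p (F.gp η 0) := specializes_of_eq (F.p_gp η 0).symm
    have h3 := hu2.map (X.presheaf.stalkSpecializes hpx).hom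
    rw [← CommRingCat.comp_apply, TopCat.Presheaf.stalkSpecializes_comp] at h3
    exact (IsLocalRing.mem_maximalIdeal _).1 hb (by simpa using h3)
  have hfJ : ρ f ≠ 0 := by
    intro h0
    refine hgen ?_
    show H23.RatSec.cls N (F.gp η 0) (N.presheaf.germ ⊤ (F.gp η 0) trivial s) = 0
    have h1 : N.presheaf.germ ⊤ (F.gp η 0) trivial s =
        (P.presheaf.stalkSpecializes hs).hom f • N.presheaf.stalkSpecializes hs t := by
      rw [← H23.ZeroSec.stalkSpecializes_smul, hf, TopCat.Presheaf.germ_stalkSpecializes_apply]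
    rw [h1, H23.RatSec.cls_smul]
    by_contra hne
    exact (H23.RatSec.residue_ne_zero (ht' (F.gp η 0) hs)).2 hne h0
  have hreg : IsSMulRegular (P.presheaf.stalk x ⧸
      FlatLoc6.mN (X.presheaf.stalk (p x)) (P.presheaf.stalk x) (P.presheaf.stalk x)) f := by
    refine (isSMulRegular_iff_right_eq_zero_of_smul).2 fun c hc => ?_
    obtain ⟨c, rfl⟩ := Submodule.Quotient.mk_surjective _ c
    have hm : FlatLoc6.mN (X.presheaf.stalk (p x)) (P.presheaf.stalk x) (P.presheaf.stalk x) = J := by
      simp [FlatLoc6.mN, J, RingHom.algebraMap_toAlgebra]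
    rw [← Submodule.Quotient.mk_smul, Submodule.Quotient.mk_eq_zero, hm, hJ] at hc
    rw [Submodule.Quotient.mk_eq_zero, hm, hJ]
    rw [RingHom.mem_ker, smul_eq_mul, map_mul] at hc
    exact (mul_eq_zero.1 hc).resolve_left hfJ
  have hB := (AvramovLib.regular_of_fibre (A := X.presheaf.stalk (p x)) [f] (P.presheaf.stalk x)
    ((isWeaklyRegular_cons_iff _ f []).2 ⟨hreg, IsWeaklyRegular.nil _ _⟩)).1
  have hfreg : IsSMulRegular (P.presheaf.stalk x) f := ((isWeaklyRegular_cons_iff _ f []).1 hB).1
  intro a b hab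
  simp only [← hf, smul_smul] at hab
  have h2 : (a * f - b * f) • t = 0 := by rw [sub_smul, hab, sub_self]
  have h4 := sub_eq_zero.1 (ht.2 _ h2)
  exact hfreg (show f • a = f • b by rwa [smul_eq_mul, smul_eq_mul, mul_comm f, mul_comm f])

include hfr in
/-- A section not vanishing at the generic points of the fibres is regular. -/
theorem injective_smul_germ {N : P.Modules} (hL : PicF.IsInvertible N) [IsLocallyNoetherian X]
    (s : N.presheaf.obj (Opposite.op ⊤))
    (hgen : ∀ η : X, H23.RatSec.cls N (hfr.gpt η 0) (N.presheaf.germ ⊤ (hfr.gpt η 0) trivial s) ≠ 0) (x : P) :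
    Function.Injective (fun a : P.presheaf.stalk x => a • N.presheaf.germ ⊤ x trivial s) :=
  hfr.injective_smul_germ_at hL s x (hgen (p x))

end Charted

end Groth.Agent.H9PB
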