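import Groth.Agent.H9PB.Alg
import Groth.Agent.VeryAmpleX.ToPnProj
import Groth.Agent.VeryAmpleX.GrSym
import Groth.Agent.VeryAmpleX.SigTwist
import Mathlib.LinearAlgebra.SymmetricAlgebra.Basis

/-! The standard chart rings of the projective bundle of a free module. -/

set_option autoImplicit false
set_option linter.style.haveILetI false
set_option backward.isDefEq.respectTransparency false
set_option backward.isDefEq.respectTransparency.types false

universe u

open CategoryTheory AlgebraicGeometry TopologicalSpace Opposite HomogeneousLocalization MvPolynomial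
open scoped HomogeneousIdeal

namespace Groth.Agent.H9PB

open Groth.Agent Groth.Agent.VeryAmpleX

variable {S : Scheme.{u}} {E : S.Modules} {𝒮 : RelProj.QCGrAlg S} {j : E ⟶ 𝒮.toModule} {U : S.Opens}
  (hE : Coh.IsQCoh E) (hS : RelProj.IsGrSymAlg E 𝒮 j) (hU : IsAffineOpen U) {n : ℕ}
  (b : Module.Basis (Fin (n + 1)) Γ(S, U) Γ(E, U))

/-- Evaluation of a fraction under a map killing the denominator. -/
theorem lift_mk_eq {A B : Type u} [CommRing A] [CommRing B] (f : A) (g : A →+* B) (hu : IsUnit (g f))
    (a : A) (s : Submonoid.powers f) (hs : g s = 1) :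
    IsLocalization.Away.lift f hu (Localization.mk a s) = g a := by
  have h : Localization.mk a s * algebraMap A (Localization (Submonoid.powers f)) (s : A) =
      algebraMap A (Localization (Submonoid.powers f)) a := by
    rw [Localization.mk_eq_mk']
    exact IsLocalization.mk'_spec _ a s
  have h2 := congrArg (IsLocalization.Away.lift f hu) h
  rwa [map_mul, IsLocalization.Away.lift_eq, IsLocalization.Away.lift_eq, hs, mul_one] at h2

theorem val_fromZero {A σ : Type u} [CommRing A] [SetLike σ A] [AddSubgroupClass σ A] (𝒜 : ℕ → σ) [GradedRing 𝒜]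
    (M : Submonoid A) (a : 𝒜 0) : (fromZeroRingHom 𝒜 M a).val = Localization.mk (a : A) (1 : M) := by
  show (HomogeneousLocalization.mk _).val = _
  rw [val_mk]
  rfl

/-- The degree one elements of the basis. -/
noncomputable def xb (l : Fin (n + 1)) : 𝒮.presheaf.obj (op U) := Sig.jsec j (b l)

include hS in
theorem xb_mem (l : Fin (n + 1)) : xb (j := j) b l ∈ 𝒮.deg U hU 1 := hS.2 U hU (b l)

/-- The algebra as a polynomial ring. -/
noncomputable def polyMap : MvPolynomial (Fin (n + 1)) Γ(S, U) →+* 𝒮.presheaf.obj (op U) :=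
  eval₂Hom (𝒮.str.app (op U)).hom (xb (j := j) b)

include hE hS hU in
theorem polyMap_bijective : Function.Bijective (polyMap (j := j) (𝒮 := 𝒮) b) := by
  letI := VeryAmpleX.secAlg 𝒮.toQCAlg U
  have h : IsSymmetricAlgebra (VeryAmpleX.jLin j U) := VeryAmpleX.isSymmetricAlgebra_jLin hE hS.1 hU
  let e : MvPolynomial (Fin (n + 1)) Γ(S, U) ≃ₐ[Γ(S, U)] 𝒮.presheaf.obj (op U) :=
    (SymmetricAlgebra.equivMvPolynomial b).symm.trans h.equiv
  have he : polyMap (j := j) (𝒮 := 𝒮) b = e.toAlgHom.toRingHom := by
    refine ringHom_ext (fun r => ?_) fun l => ?_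
    · rw [polyMap, eval₂Hom_C]
      exact (e.commutes r).symm
    · rw [polyMap, eval₂Hom_X']
      show _ = h.equiv ((SymmetricAlgebra.equivMvPolynomial b).symm (X l))
      rw [SymmetricAlgebra.equivMvPolynomial_symm_X]
      exact (SymmetricAlgebra.lift_ι_apply (VeryAmpleX.jLin j U) (b l)).symm
  rw [he]
  exact e.bijective

/-- The coordinate of a chart. -/
noncomputable def coordRatio (i l : Fin (n + 1)) : Away (𝒮.deg U hU) (xb (j := j) b i) :=
  Away.mk (𝒮.deg U hU) (xb_mem hS hU b i) 1 (xb (j := j) b l) (by rw [one_smul]; exact xb_mem hS hU b l)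

theorem coordRatio_self (i : Fin (n + 1)) : coordRatio hS hU b i i = 1 :=
  val_injective _ (by
    rw [coordRatio, Away.val_mk, val_one]
    simp only [pow_one]
    exact Localization.mk_self (⟨_, Submonoid.mem_powers _⟩ : Submonoid.powers (xb (j := j) b i)))

/-- The chart ring to the degree zero localization. -/
noncomputable def chHom (i : Fin (n + 1)) : Ch Γ(S, U) i →+* Away (𝒮.deg U hU) (xb (j := j) b i) :=
  eval₂Hom ((fromZeroRingHom (𝒮.deg U hU) _).comp (𝒮.strZero U hU).hom) fun l => coordRatio hS hU b i l.1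

theorem chHom_y (i l : Fin (n + 1)) : chHom hS hU b i (y i l) = coordRatio hS hU b i l := by
  by_cases h : l = i
  · subst h; rw [y_self, map_one, coordRatio_self]
  · rw [y_ne h, chHom, eval₂Hom_X']

include hE in
theorem chHom_surjective (i : Fin (n + 1)) : Function.Surjective (chHom hS hU b i) := by
  rw [← RingHom.range_eq_top, eq_top_iff,
    ← closure_away (𝒮.deg U hU) (𝒮.strZero U hU).hom (closure_str_deg1 hE hS U hU) (xb_mem hS hU b i),
    Subring.closure_le]
  rintro w (⟨r, rfl⟩ | ⟨c, rfl⟩)
  · exact ⟨C r, eval₂Hom_C _ _ _⟩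
  · obtain ⟨m, hm⟩ := Sig.exists_jsec_eq hE hS hU c.2
    refine ⟨∑ l, C (b.repr m l) * y i l, val_injective _ ?_⟩
    have hc : (c : 𝒮.presheaf.obj (op U)) = ∑ l, (𝒮.str.app (op U)).hom (b.repr m l) * xb (j := j) b l := by
      rw [← hm]
      conv_lhs => rw [← b.sum_repr m]
      let J : Γ(E, U) →+ 𝒮.presheaf.obj (op U) := AddMonoidHom.mk' (Sig.jsec j) Sig.jsec_add
      show J (∑ l, b.repr m l • b l) = _
      rw [map_sum]
      exact Finset.sum_congr rfl fun l _ => Sig.jsec_smul _ _
    simp only [map_sum, map_mul, chHom_y]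
    rw [Away.val_mk, ← HomogeneousLocalization.algebraMap_apply, map_sum, hc, Localization.mk_sum]
    refine Finset.sum_congr rfl fun l _ => ?_
    rw [map_mul, HomogeneousLocalization.algebraMap_apply, HomogeneousLocalization.algebraMap_apply]
    show ((chHom hS hU b i) (C _)).val * _ = _
    rw [chHom, eval₂Hom_C, coordRatio, Away.val_mk, RingHom.comp_apply]
    show (HomogeneousLocalization.mk _).val * _ = _
    rw [val_mk, Localization.mk_mul]
    congr 1
    exact Subtype.ext (by simp)

include hE in
theorem chHom_injective (i : Fin (n + 1)) : Function.Injective (chHom hS hU b i) := by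
  let e := RingEquiv.ofBijective _ (polyMap_bijective (j := j) hE hS hU b)
  let d : MvPolynomial (Fin (n + 1)) Γ(S, U) →+* Ch Γ(S, U) i := eval₂Hom C (y i)
  let dh : 𝒮.presheaf.obj (op U) →+* Ch Γ(S, U) i := d.comp e.symm.toRingHom
  have hdX : ∀ l, dh (xb (j := j) b l) = y i l := fun l => by
    show d (e.symm _) = _
    rw [show xb (j := j) b l = e (X l) from (eval₂Hom_X' _ _ l).symm, e.symm_apply_apply]
    exact eval₂Hom_X' _ _ l
  have hdC : ∀ r, dh ((𝒮.str.app (op U)).hom r) = C r := fun r => by
    show d (e.symm _) = _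
    rw [show (𝒮.str.app (op U)).hom r = e (C r) from (eval₂Hom_C _ _ r).symm, e.symm_apply_apply]
    exact eval₂Hom_C _ _ r
  have hu : IsUnit (dh (xb (j := j) b i)) := by rw [hdX, y_self]; exact isUnit_one
  let L : Localization (Submonoid.powers (xb (j := j) b i)) →+* Ch Γ(S, U) i :=
    IsLocalization.Away.lift (xb (j := j) b i) hu
  let val : Away (𝒮.deg U hU) (xb (j := j) b i) →+* Localization (Submonoid.powers (xb (j := j) b i)) := algebraMap _ _
  have hL : ∀ a (s : Submonoid.powers (xb (j := j) b i)), dh s = 1 → L (Localization.mk a s) = dh a :=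
    fun a s hs => lift_mk_eq _ dh hu a s hs
  have h : (L.comp val).comp (chHom hS hU b i) = RingHom.id _ := by
    refine ringHom_ext (fun r => ?_) fun l => ?_
    · show L (((chHom hS hU b i) (C r)).val) = C r
      rw [chHom, eval₂Hom_C, RingHom.comp_apply, val_fromZero, hL _ 1 (map_one dh)]
      exact hdC r
    · show L (((chHom hS hU b i) (X l)).val) = X l
      rw [chHom, eval₂Hom_X', coordRatio, Away.val_mk, hL _ _ (by simp [hdX]), hdX, y_ne l.2]
  exact fun a c hac => by
    have := congrArg (L.comp val) hac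
    rwa [← RingHom.comp_apply, ← RingHom.comp_apply, h] at this

/-- The chart ring is the degree zero localization. -/
noncomputable def chEquiv (i : Fin (n + 1)) : Ch Γ(S, U) i ≃+* Away (𝒮.deg U hU) (xb (j := j) b i) :=
  RingEquiv.ofBijective _ ⟨chHom_injective hE hS hU b i, chHom_surjective hE hS hU b i⟩

theorem chEquiv_symm_coordRatio (i l : Fin (n + 1)) :
    (chEquiv hE hS hU b i).symm (coordRatio hS hU b i l) = y i l := by
  rw [← chHom_y hS hU b i l]
  exact (chEquiv hE hS hU b i).symm_apply_apply _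

theorem chEquiv_symm_base (i : Fin (n + 1)) (r : Γ(S, U)) :
    (chEquiv hE hS hU b i).symm (fromZeroRingHom (𝒮.deg U hU) (Submonoid.powers (xb (j := j) b i)) ((𝒮.strZero U hU).hom r)) = C r := by
  rw [RingEquiv.symm_apply_eq]
  show _ = chHom hS hU b i (C r)
  rw [chHom, eval₂Hom_C, RingHom.comp_apply]

end Groth.Agent.H9PB
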