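import Groth.Agent.H9PB.RelProjAlg
import Groth.Agent.H9PB.Cap
import Groth.Agent.VeryAmpleX.SigCriterion
import Groth.Agent.ProjPt.Sections
import Groth.Agent.QCoh.LocFree

/-! The standard charts of a projective bundle given as a relative `Proj`. -/

set_option autoImplicit false
set_option linter.style.haveILetI false
set_option linter.unusedSectionVars false
set_option backward.isDefEq.respectTransparency false
set_option backward.isDefEq.respectTransparency.types false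

universe u

open CategoryTheory AlgebraicGeometry TopologicalSpace Opposite HomogeneousLocalization
open scoped HomogeneousIdeal

namespace Groth.Agent.H9PB

open Groth.Agent Groth.Agent.VeryAmpleX

variable {S P : Scheme.{u}} {E : S.Modules} {𝒮 : RelProj.QCGrAlg S} {j : E ⟶ 𝒮.toModule} {p : P ⟶ S}
  {chart : ∀ (U : S.Opens) (hU : IsAffineOpen U), (((p ⁻¹ᵁ U : P.Opens) : Scheme.{u}) ≅ Proj (𝒮.deg U hU))}
  {O1 : P.Modules}
  {lam : ∀ (U : S.Opens) (hU : IsAffineOpen U),
    O1 ⟶ (Scheme.Modules.pushforward (RelProj.emb p chart U hU)).obj (GrTwist.twist (𝒮.deg U hU) 1)}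
  (hE : Coh.IsQCoh E) (hS : RelProj.IsGrSymAlg E 𝒮 j) (hP : RelProj.IsRelProj 𝒮 p chart)
  (hO1 : RelProj.IsRelTwist 𝒮 p chart 1 O1 lam) {σ : E ⟶ (Scheme.Modules.pushforward p).obj O1}
  (hσ : Sig.IsTwistMap hS lam σ) {U : S.Opens} (hU : IsAffineOpen U) {n : ℕ}
  (b : Module.Basis (Fin (n + 1)) Γ(S, U) Γ(E, U))

include hE hS hO1 hσ hU in
theorem locus_sg (et : Γ(E, U)) :
    AmpleX.locus (Sig.sg σ et) =
      RelProj.emb p chart U hU ''ᵁ Proj.basicOpen (𝒮.deg U hU) (Sig.jsec j et) := by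
  let 𝒜 := 𝒮.deg U hU
  let em := RelProj.emb p chart U hU
  have hrange : em ''ᵁ ⊤ = p ⁻¹ᵁ U := by
    rw [Scheme.Hom.image_top_eq_opensRange, RelTildeX.opensRange_emb]
  have hgen := isGenDegOne_of_isGrSymAlg hE hS
  have hcov : ⨆ a : {a // a ∈ 𝒜 1}, Proj.basicOpen 𝒜 (a : 𝒮.presheaf.obj (op U)) = ⊤ := by
    refine Proj.iSup_basicOpen_eq_top _ _ ?_
    rw [RelTildeX.irrelevant_eq_span_deg_one hgen U hU, Ideal.span_le]
    exact fun a ha => Ideal.subset_span ⟨⟨a, ha⟩, rfl⟩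
  let e := RelTildeX.twistIso hO1 U hU
  let t : {a // a ∈ 𝒜 1} := ⟨Sig.jsec j et, hS.2 U hU et⟩
  let bb : Γ(O1, em ''ᵁ ⊤) := e.symm.hom.app ⊤ (RelTwistX.sec1 𝒜 t.2)
  have hb : Sig.sg σ et = AModX.res O1 hrange.ge bb := by
    refine (hO1.bijective U hU _ le_rfl).1 ?_
    rw [show (lam U hU).app (p ⁻¹ᵁ U) (Sig.sg σ et) = _ from hσ U hU et]
    exact (Sig.twist_lam hO1 hU hrange _).symm
  rw [hb, AmpleX.locus_res, inf_eq_left.2 ((AmpleX.locus_le _).trans hrange.le),
    ← AmpleX.image_locus em (RelTwistX.sec1 𝒜 t.2 |> e.symm.hom.app ⊤), AmpleX.locus_iso e.symm]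
  congr 1
  have h1 := RelTwistX.genLocus_sec1 𝒜 _ (fun m : {a // a ∈ 𝒜 1} => m.2) hcov t.2
  rw [AmpleX.genLocus_eq_locus, InvX.one_ofSect] at h1
  exact h1

include hS hO1 hσ hU in
set_option maxHeartbeats 1000000 in
theorem sg_eq_smul (i l : Fin (n + 1)) :
    ∃ c : Γ(P, RelProj.emb p chart U hU ''ᵁ Proj.basicOpen (𝒮.deg U hU) (xb (j := j) b i)),
      ((RelProj.emb p chart U hU).appIso _).hom c =
        (Proj.awayToSection (𝒮.deg U hU) (xb (j := j) b i)).hom (coordRatio hS hU b i l) ∧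
      ∀ h : RelProj.emb p chart U hU ''ᵁ Proj.basicOpen (𝒮.deg U hU) (xb (j := j) b i) ≤ p ⁻¹ᵁ U,
        AModX.res O1 h (Sig.sg σ (b l)) = c • AModX.res O1 h (Sig.sg σ (b i)) := by
  let 𝒜 := 𝒮.deg U hU
  let em := RelProj.emb p chart U hU
  have hrange : em ''ᵁ ⊤ = p ⁻¹ᵁ U := by
    rw [Scheme.Hom.image_top_eq_opensRange, RelTildeX.opensRange_emb]
  let e := RelTildeX.twistIso hO1 U hU
  let D := Proj.basicOpen 𝒜 (xb (j := j) b i)
  let co : Γ(Proj 𝒜, D) := (Proj.awayToSection 𝒜 (xb (j := j) b i)).hom (coordRatio hS hU b i l)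
  refine ⟨(em.appIso D).inv co, Iso.inv_hom_id_apply _ _, fun h => ?_⟩
  have hb : ∀ et : Γ(E, U), Sig.sg σ et =
      AModX.res O1 hrange.ge (e.symm.hom.app ⊤ (RelTwistX.sec1 𝒜 (hS.2 U hU et))) := fun et => by
    refine (hO1.bijective U hU _ le_rfl).1 ?_
    rw [show (lam U hU).app (p ⁻¹ᵁ U) (Sig.sg σ et) = _ from hσ U hU et]
    exact (Sig.twist_lam hO1 hU hrange _).symm
  have h1 : AModX.res (GrTwist.twist 𝒜 1) (le_top : D ≤ ⊤) (RelTwistX.sec1 𝒜 (hS.2 U hU (b l))) =
      co • AModX.res (GrTwist.twist 𝒜 1) (le_top : D ≤ ⊤) (RelTwistX.sec1 𝒜 (hS.2 U hU (b i))) := by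
    refine RelTwistX.val_ext fun y => ?_
    refine Eq.trans ?_ (GrTwist.coe_smul_val (1 : ℤ) y.1 _ _).symm
    have v1 := RelTwistX.val_sec1 𝒜 (a := (Sig.jsec j (b l) : 𝒮.presheaf.obj (op U))) (hS.2 U hU (b l)) D y
    have v2 := RelTwistX.val_sec1 𝒜 (a := (Sig.jsec j (b i) : 𝒮.presheaf.obj (op U))) (hS.2 U hU (b i)) D y
    refine v1.trans ?_
    show _ = (GrModX.oval 𝒜 co y).val * _
    rw [show (GrModX.oval 𝒜 co y).val = _ from GrModX.oval_awayToSection 𝒜 (xb_mem hS hU b i) 1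
      (a := (xb (j := j) b l)) (by rw [one_smul]; exact xb_mem hS hU b l) y]
    refine Eq.trans ?_ (congrArg _ v2).symm
    rw [Localization.mk_mul, Localization.mk_eq_mk_iff, Localization.r_iff_exists]
    exact ⟨1, by simp only [Submonoid.coe_mul, Submonoid.coe_one, one_mul, mul_one, pow_one]; exact mul_comm _ _⟩
  have h3 := congrArg (e.symm.hom.app D) h1
  rw [Scheme.Modules.Hom.app_smul, AModX.app_res, AModX.app_res] at h3
  have h4 : AModX.res O1 (em.image_mono (le_top : D ≤ ⊤)) (e.symm.hom.app ⊤ (RelTwistX.sec1 𝒜 (hS.2 U hU (b l)))) =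
      (em.appIso D).inv co •
        AModX.res O1 (em.image_mono (le_top : D ≤ ⊤)) (e.symm.hom.app ⊤ (RelTwistX.sec1 𝒜 (hS.2 U hU (b i)))) := h3
  rw [hb, hb, AModX.res_res, AModX.res_res]
  exact h4

/-- The embedding of a standard chart. -/
noncomputable def chartEmb (i : Fin (n + 1)) : ChS S U i ⟶ P :=
  Spec.map (CommRingCat.ofHom (chEquiv hE hS hU b i).symm.toRingHom) ≫
    Proj.awayι (𝒮.deg U hU) (xb (j := j) b i) (xb_mem hS hU b i) Nat.one_pos ≫ RelProj.emb p chart U hU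

instance isOpenImmersion_chartEmb (i : Fin (n + 1)) :
    IsOpenImmersion (chartEmb (p := p) (chart := chart) hE hS hU b i) := by
  haveI : IsIso (CommRingCat.ofHom (chEquiv hE hS hU b i).symm.toRingHom) :=
    (ConcreteCategory.isIso_iff_bijective _).2 (chEquiv hE hS hU b i).symm.bijective
  unfold chartEmb
  infer_instance

theorem opensRange_chartEmb (i : Fin (n + 1)) :
    (chartEmb (p := p) (chart := chart) hE hS hU b i).opensRange =
      RelProj.emb p chart U hU ''ᵁ Proj.basicOpen (𝒮.deg U hU) (xb (j := j) b i) := by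
  haveI : IsIso (CommRingCat.ofHom (chEquiv hE hS hU b i).symm.toRingHom) :=
    (ConcreteCategory.isIso_iff_bijective _).2 (chEquiv hE hS hU b i).symm.bijective
  unfold chartEmb
  rw [Scheme.Hom.opensRange_comp_of_isIso, Scheme.Hom.opensRange_comp, Proj.opensRange_awayι]

include hP in
theorem chartEmb_comp (i : Fin (n + 1)) :
    chartEmb (p := p) (chart := chart) hE hS hU b i ≫ p =
      Spec.map (CommRingCat.ofHom MvPolynomial.C) ≫ hU.fromSpec := by
  rw [chartEmb, Category.assoc, Category.assoc, emb_comp hP U hU, Category.assoc, Proj.awayι_toSpecZero_assoc,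
    ← Category.assoc, ← Category.assoc, ← Spec.map_comp, ← Spec.map_comp]
  congr 2
  exact CommRingCat.hom_ext (RingHom.ext fun r => chEquiv_symm_base hE hS hU b i r)

theorem chartEmb_mem_range_iff (i l : Fin (n + 1)) (z : ChS S U i) :
    chartEmb (p := p) (chart := chart) hE hS hU b i z ∈ Set.range (chartEmb (p := p) (chart := chart) hE hS hU b l) ↔
      y i l ∉ (z : PrimeSpectrum (Ch Γ(S, U) i)).asIdeal := by
  have h0 := opensRange_chartEmb (p := p) (chart := chart) hE hS hU b l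
  rw [← Scheme.Hom.coe_opensRange, h0]
  let w := Spec.map (CommRingCat.ofHom (chEquiv hE hS hU b i).symm.toRingHom) z
  show RelProj.emb p chart U hU (Proj.awayι _ _ (xb_mem hS hU b i) Nat.one_pos w) ∈ _ ↔ _
  rw [Scheme.Hom.coe_image, (RelProj.emb p chart U hU).isOpenEmbedding.injective.mem_set_image]
  show w ∈ Proj.awayι _ _ (xb_mem hS hU b i) Nat.one_pos ⁻¹ᵁ Proj.basicOpen (𝒮.deg U hU) (xb (j := j) b l) ↔ _
  rw [Proj.awayι_preimage_basicOpen (𝒮.deg U hU) (xb_mem hS hU b i) Nat.one_pos (xb_mem hS hU b l) Nat.one_pos]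
  have hel : Away.isLocalizationElem (xb_mem hS hU b i) (xb_mem hS hU b l) = coordRatio hS hU b i l :=
    val_injective _ (by simp [Away.isLocalizationElem, coordRatio, Away.val_mk])
  rw [hel]
  show (chEquiv hE hS hU b i).symm (coordRatio hS hU b i l) ∉ (z : PrimeSpectrum (Ch Γ(S, U) i)).asIdeal ↔ _
  rw [chEquiv_symm_coordRatio]

theorem appLE_chartEmb (i : Fin (n + 1))
    (c : Γ(P, RelProj.emb p chart U hU ''ᵁ Proj.basicOpen (𝒮.deg U hU) (xb (j := j) b i)))
    (a : Away (𝒮.deg U hU) (xb (j := j) b i))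
    (hc : ((RelProj.emb p chart U hU).appIso _).hom c =
      (Proj.awayToSection (𝒮.deg U hU) (xb (j := j) b i)).hom a)
    (e : (⊤ : (ChS S U i).Opens) ≤ chartEmb (p := p) (chart := chart) hE hS hU b i ⁻¹ᵁ
      (RelProj.emb p chart U hU ''ᵁ Proj.basicOpen (𝒮.deg U hU) (xb (j := j) b i))) :
    ((chartEmb (p := p) (chart := chart) hE hS hU b i).appLE _ ⊤ e).hom c =
      (Scheme.ΓSpecIso (CommRingCat.of (Ch Γ(S, U) i))).inv.hom ((chEquiv hE hS hU b i).symm a) := by
  let g := Spec.map (CommRingCat.ofHom (chEquiv hE hS hU b i).symm.toRingHom)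
  let aw := Proj.awayι (𝒮.deg U hU) (xb (j := j) b i) (xb_mem hS hU b i) Nat.one_pos
  let em := RelProj.emb p chart U hU
  let D := Proj.basicOpen (𝒮.deg U hU) (xb (j := j) b i)
  have e1 : D ≤ em ⁻¹ᵁ (em ''ᵁ D) := (em.preimage_image_eq D).ge
  have e2 : (⊤ : (Spec (CommRingCat.of (Away (𝒮.deg U hU) (xb (j := j) b i)))).Opens) ≤ aw ⁻¹ᵁ D := by
    show _ ≤ aw ⁻¹ᵁ Proj.basicOpen (𝒮.deg U hU) (xb (j := j) b i)
    rw [← Proj.opensRange_awayι (𝒮.deg U hU) (xb (j := j) b i) (xb_mem hS hU b i) Nat.one_pos,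
      Scheme.Hom.preimage_opensRange]
  have key : (g ≫ aw ≫ em).appLE (em ''ᵁ D) ⊤ e =
      em.appLE (em ''ᵁ D) D e1 ≫ aw.appLE D ⊤ e2 ≫ g.appLE ⊤ ⊤ le_top := by
    rw [Scheme.Hom.appLE_comp_appLE, Scheme.Hom.appLE_comp_appLE]
    simp only [Category.assoc]
  show ((g ≫ aw ≫ em).appLE (em ''ᵁ D) ⊤ e).hom c = _
  rw [key, CommRingCat.hom_comp, CommRingCat.hom_comp, RingHom.comp_apply, RingHom.comp_apply]
  have h1 : (em.appLE (em ''ᵁ D) D e1).hom c = (Proj.awayToSection (𝒮.deg U hU) (xb (j := j) b i)).hom a := by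
    rw [← hc, Scheme.Hom.appIso_hom']
  rw [h1]
  have h2 : Proj.awayToSection (𝒮.deg U hU) (xb (j := j) b i) ≫ aw.appLE D ⊤ e2 =
      (Scheme.ΓSpecIso (CommRingCat.of (Away (𝒮.deg U hU) (xb (j := j) b i)))).inv :=
    ProjPt.awayι_appLE (𝒮.deg U hU) (xb_mem hS hU b i) Nat.one_pos e2
  have h3 : (aw.appLE D ⊤ e2).hom ((Proj.awayToSection (𝒮.deg U hU) (xb (j := j) b i)).hom a) =
      (Scheme.ΓSpecIso (CommRingCat.of (Away (𝒮.deg U hU) (xb (j := j) b i)))).inv.hom a :=
    congrArg (fun f => f.hom a) h2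
  refine (congrArg (g.appLE ⊤ ⊤ le_top).hom h3).trans ?_
  rw [show g.appLE ⊤ ⊤ le_top = g.appTop from (g.app_eq_appLE (U := ⊤)).symm]
  exact (congrArg (fun f => f.hom a)
    (Scheme.ΓSpecIso_inv_naturality (CommRingCat.ofHom (chEquiv hE hS hU b i).symm.toRingHom))).symm

include hE hS hP hO1 hU b in
/-- The standard charts over an affine open on which the module is free. -/
theorem nonempty_frame : Nonempty (Frame p O1 n U) := by
  obtain ⟨σ, hσ⟩ := Sig.exists_twistMap hE hS hP hO1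
  have hσ' : Sig.IsTwistMap hS lam σ := hσ
  have hloc : ∀ i, AmpleX.locus (Sig.sg σ (b i)) =
      RelProj.emb p chart U hU ''ᵁ Proj.basicOpen (𝒮.deg U hU) (xb (j := j) b i) := fun i =>
    locus_sg hE hS hO1 hσ' hU (b i)
  refine ⟨{ affine := hU
            σ := fun l => Sig.sg σ (b l)
            emb := chartEmb hE hS hU b
            openImm := isOpenImmersion_chartEmb hE hS hU b
            emb_comp := chartEmb_comp hE hS hP hU b
            cover := ?_
            mem_range_iff := chartEmb_mem_range_iff hE hS hU b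
            gen := ?_
            coord := ?_ }⟩
  · intro x hx
    obtain ⟨z, hz⟩ : x ∈ (RelProj.emb p chart U hU).opensRange := by rw [RelTildeX.opensRange_emb]; exact hx
    obtain ⟨et, het⟩ := Opens.mem_iSup.1 ((Sig.iSup_basicOpen_jsec hE hS hU).ge
      (trivial : z ∈ (⊤ : (Proj (𝒮.deg U hU)).Opens)))
    have hsum : ∀ l, xb (j := j) b l ∈ z.asHomogeneousIdeal.toIdeal → True := fun _ _ => trivial
    by_contra hn
    push Not at hn
    apply (ProjectiveSpectrum.mem_basicOpen _ _ _).1 het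
    let J : Γ(E, U) →+ 𝒮.presheaf.obj (op U) := AddMonoidHom.mk' (Sig.jsec j) Sig.jsec_add
    show J et ∈ z.asHomogeneousIdeal.toIdeal
    rw [← b.sum_repr et, map_sum]
    refine Ideal.sum_mem _ fun l _ => ?_
    rw [show J (b.repr et l • b l) = _ from Sig.jsec_smul _ _]
    refine Ideal.mul_mem_left _ _ (not_not.1 fun h => hn l ?_)
    rw [← Scheme.Hom.coe_opensRange, opensRange_chartEmb, ← hz]
    exact ⟨z, (ProjectiveSpectrum.mem_basicOpen _ _ _).2 h, rfl⟩
  · intro i z h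
    have hm : chartEmb (p := p) (chart := chart) hE hS hU b i z ∈ AmpleX.locus (Sig.sg σ (b i)) := by
      rw [hloc, ← opensRange_chartEmb (p := p) (chart := chart) hE hS hU b i]
      exact ⟨z, rfl⟩
    have := (H23.RatSec.isGen_germ (AmpleX.isFrame_res_locus (Sig.sg σ (b i))) _ hm).1
    rw [show (O1.presheaf.germ _ _ hm).hom (AModX.res O1 (AmpleX.locus_le (Sig.sg σ (b i))) (Sig.sg σ (b i))) =
      (O1.presheaf.germ (p ⁻¹ᵁ U) _ h).hom (Sig.sg σ (b i)) from
      O1.presheaf.germ_res_apply (homOfLE (AmpleX.locus_le (Sig.sg σ (b i)))) _ hm (Sig.sg σ (b i))] at this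
    exact this
  · intro i l z h
    obtain ⟨c, hc, heq⟩ := sg_eq_smul hS hO1 hσ' hU b i l
    let em := RelProj.emb p chart U hU
    let V := em ''ᵁ Proj.basicOpen (𝒮.deg U hU) (xb (j := j) b i)
    have hm : chartEmb (p := p) (chart := chart) hE hS hU b i z ∈ V := by
      show _ ∈ RelProj.emb p chart U hU ''ᵁ Proj.basicOpen (𝒮.deg U hU) (xb (j := j) b i)
      rw [← opensRange_chartEmb (p := p) (chart := chart) hE hS hU b i]
      exact ⟨z, rfl⟩
    have hVU : V ≤ p ⁻¹ᵁ U := by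
      show RelProj.emb p chart U hU ''ᵁ _ ≤ _
      rw [← RelTildeX.opensRange_emb p chart U hU]
      exact Scheme.Hom.image_le_opensRange _ _
    refine ⟨(P.presheaf.germ V _ hm).hom c, ?_, ?_⟩
    · have he : (⊤ : (ChS S U i).Opens) ≤ chartEmb (p := p) (chart := chart) hE hS hU b i ⁻¹ᵁ V := by
        intro w _
        show _ ∈ RelProj.emb p chart U hU ''ᵁ Proj.basicOpen (𝒮.deg U hU) (xb (j := j) b i)
        rw [← opensRange_chartEmb (p := p) (chart := chart) hE hS hU b i]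
        exact ⟨w, rfl⟩
      have h1 := appLE_chartEmb (p := p) (chart := chart) hE hS hU b i c (coordRatio hS hU b i l) hc he
      rw [chEquiv_symm_coordRatio] at h1
      rw [Scheme.Hom.germ_stalkMap_apply]
      have h2 := congrArg ((ChS S U i).presheaf.germ ⊤ z trivial).hom h1
      rw [Scheme.Hom.appLE, CommRingCat.hom_comp, RingHom.comp_apply] at h2
      refine Eq.trans ?_ h2
      exact (TopCat.Presheaf.germ_res_apply _ _ _ _ _).symm
    · have h3 := congrArg (O1.presheaf.germ V _ hm).hom (heq hVU)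
      erw [QCoh.germ_smul' O1 hm] at h3
      rw [show (O1.presheaf.germ V _ hm).hom (AModX.res O1 hVU (Sig.sg σ (b l))) = _ from
          O1.presheaf.germ_res_apply (homOfLE hVU) _ hm (Sig.sg σ (b l)),
        show (O1.presheaf.germ V _ hm).hom (AModX.res O1 hVU (Sig.sg σ (b i))) = _ from
          O1.presheaf.germ_res_apply (homOfLE hVU) _ hm (Sig.sg σ (b i))] at h3
      exact h3

include hE hS hP hO1 in
/-- A projective bundle of a locally free module of rank `n + 1` has standard charts everywhere. -/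
theorem charted_of_isRelProj (hr : FlatMod.IsFinLocFreeOfRank (n + 1) E) : Charted p O1 n := by
  intro η
  obtain ⟨W, hη, ⟨e⟩⟩ := hr η
  obtain ⟨V, hV, hηV, hle⟩ := exists_isAffineOpen_mem_and_subset hη
  obtain ⟨l⟩ := QCoh.free_sections hV hle e
  exact ⟨V, hηV, nonempty_frame hE hS hP hO1 hV
    ((Module.Basis.ofRepr l).reindex Equiv.ulift)⟩

end Groth.Agent.H9PB
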