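import Mathlib.Algebra.Polynomial.Coeff
import Mathlib.Algebra.Polynomial.Eval.Degree
import Mathlib.Algebra.Polynomial.BigOperators
import Mathlib.Algebra.BigOperators.Ring.Finset
import Mathlib.Tactic

/-! Elementary symmetric expressions of shifted roots. -/

set_option autoImplicit false

universe u
open Polynomial

namespace Groth.Agent.H9PB

variable {R : Type u} [CommRing R] {r : ℕ}

/-- The elementary symmetric expressions. -/
def esum (ν : Fin r → R) (j : ℕ) : R := ∑ t ∈ Finset.powersetCard j Finset.univ, ∏ i ∈ t, ν i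

theorem prod_shift (ν : Fin r → R) (a : R) :
    ∏ i, (1 + C (a + ν i) * X) = ∑ j ∈ Finset.range (r + 1), C (esum ν j) * X ^ j * (1 + C a * X) ^ (r - j) := by
  classical
  rw [Finset.prod_congr rfl (fun i _ => show 1 + C (a + ν i) * X = C (ν i) * X + (1 + C a * X) by
      rw [map_add]; ring),
    Finset.prod_add, Finset.sum_powerset, Finset.card_univ, Fintype.card_fin]
  refine Finset.sum_congr rfl fun j _ => ?_
  rw [esum, map_sum, Finset.sum_mul, Finset.sum_mul]
  refine Finset.sum_congr rfl fun t ht => ?_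
  rw [Finset.mem_powersetCard] at ht
  rw [Finset.prod_mul_distrib, Finset.prod_const, Finset.prod_const, map_prod, ht.2,
    Finset.card_sdiff_of_subset ht.1, ht.2, Finset.card_univ, Fintype.card_fin]

theorem coeff_rootProd (ν : Fin r → R) (j : ℕ) : (∏ i, (1 + C (ν i) * X)).coeff j = esum ν j := by
  have h := prod_shift ν 0
  simp only [zero_add, map_zero, zero_mul, add_zero, one_pow, mul_one] at h
  rw [h, finsetSum_coeff]
  simp only [coeff_C_mul_X_pow, Finset.sum_ite_eq, Finset.mem_range]
  split_ifs with hj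
  · rfl
  · rw [esum, Finset.powersetCard_eq_empty.2 (by simp; omega), Finset.sum_empty]

theorem coeff_prod_shift (ν : Fin r → R) (a : R) {i : ℕ} (hi : i ≤ r) :
    (∏ l, (1 + C (a + ν l) * X)).coeff i =
      ∑ j ∈ Finset.range (i + 1), ((r - i + j).choose j : R) * (a ^ j * esum ν (i - j)) := by
  rw [prod_shift, finsetSum_coeff, ← Finset.sum_range_reflect _ (i + 1)]
  have hcoeff : ∀ j, (C (esum ν j) * X ^ j * (1 + C a * X) ^ (r - j)).coeff i =
      if j ≤ i then esum ν j * (((r - j).choose (i - j) : R) * a ^ (i - j)) else 0 := by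
    intro j
    rw [mul_assoc, coeff_C_mul, coeff_X_pow_mul',
      show ((1 : R[X]) + C a * X) ^ (r - j) = ((1 + X) ^ (r - j)).comp (C a * X) by simp]
    split_ifs
    · rw [comp_C_mul_X_coeff, coeff_one_add_X_pow]
    · rw [mul_zero]
  simp only [hcoeff]
  rw [← Finset.sum_filter]
  refine Finset.sum_congr ?_ fun j hj => ?_
  · ext j
    simp only [Finset.mem_filter, Finset.mem_range]
    omega
  · rw [Finset.mem_range] at hj
    rw [show i + 1 - 1 - j = i - j by omega, show i - (i - j) = j by omega, show r - i + (i - j) = r - j by omega]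
    ring

theorem esum_zero (ν : Fin r → R) : esum ν 0 = 1 := by simp [esum]

theorem esum_one (ν : Fin r → R) : esum ν 1 = ∑ i, ν i := by
  simp [esum, Finset.powersetCard_one]

theorem esum_neg (ν : Fin r → R) (j : ℕ) : esum (fun i => -ν i) j = (-1) ^ j * esum ν j := by
  rw [esum, esum, Finset.mul_sum]
  refine Finset.sum_congr rfl fun t ht => ?_
  rw [Finset.mem_powersetCard] at ht
  rw [Finset.prod_neg, ht.2]

/-- Pair sums: coefficients one and two. -/
theorem coeff_pairs {s : ℕ} : ∀ {r : ℕ} (ν : Fin r → R) (μ : Fin s → R),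
    (∏ a, ∏ b, (1 + C (ν a + μ b) * X)).coeff 1 = (s : R) * esum ν 1 + (r : R) * esum μ 1 ∧
    (∏ a, ∏ b, (1 + C (ν a + μ b) * X)).coeff 2 = (r : R) * esum μ 2 + (s : R) * esum ν 2 +
      (r.choose 2 : R) * (esum μ 1 * esum μ 1) + ((r * s : ℕ) - 1 : R) * (esum ν 1 * esum μ 1) +
      (s.choose 2 : R) * (esum ν 1 * esum ν 1) := by
  intro r
  induction r with
  | zero =>
    intro ν μ
    have hz : esum ν 2 = 0 := by rw [esum, Finset.powersetCard_eq_empty.2 (by simp), Finset.sum_empty]
    simp [esum_one, hz, coeff_one]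
  | succ r ih =>
    intro ν μ
    obtain ⟨h1, h2⟩ := ih (ν ∘ Fin.castSucc) μ
    let a := ν (Fin.last r)
    have q1 : (∏ b, (1 + C (a + μ b) * X)).coeff 1 = (s : R) * a + esum μ 1 := by
      rw [coeff_rootProd, esum_one, esum_one, Finset.sum_add_distrib, Finset.sum_const, Finset.card_univ,
        Fintype.card_fin, nsmul_eq_mul]
    have q2 : (∏ b, (1 + C (a + μ b) * X)).coeff 2 =
        (s.choose 2 : R) * a ^ 2 + ((s : R) - 1) * a * esum μ 1 + esum μ 2 := by
      by_cases hs : 2 ≤ s
      · rw [coeff_prod_shift μ a hs]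
        simp only [Finset.sum_range_succ, Finset.sum_range_zero, esum_zero, Nat.choose_zero_right, Nat.choose_one_right,
          show s - 2 + 1 = s - 1 by omega, show s - 2 + 2 = s by omega, pow_zero, pow_one, Nat.cast_one, Nat.sub_self, Nat.sub_zero, show 2 - 1 = 1 from rfl,
          Nat.cast_sub (show 1 ≤ s by omega)]
        ring
      · rw [coeff_rootProd]
        have hz : ∀ f : Fin s → R, esum f 2 = 0 := fun f => by
          rw [esum, Finset.powersetCard_eq_empty.2 (by simp; omega), Finset.sum_empty]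
        rw [hz, hz, Nat.choose_eq_zero_of_lt (by omega)]
        rcases (show s = 0 ∨ s = 1 by omega) with rfl | rfl <;> simp [esum_one]
    have n1 : esum ν 1 = esum (ν ∘ Fin.castSucc) 1 + a := by
      rw [esum_one, esum_one, Fin.sum_univ_castSucc]; rfl
    have n2 : esum ν 2 = esum (ν ∘ Fin.castSucc) 2 + esum (ν ∘ Fin.castSucc) 1 * a := by
      rw [← coeff_rootProd, Fin.prod_univ_castSucc, ← coeff_rootProd (ν ∘ Fin.castSucc) 2,
        ← coeff_rootProd (ν ∘ Fin.castSucc) 1]
      simp only [mul_add, mul_one, coeff_add, ← mul_assoc, coeff_mul_X, coeff_mul_C, Function.comp_apply, a]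
    have h0 : (∏ x : Fin r, ∏ b, (1 + C (ν x.castSucc + μ b) * X)).coeff 0 = 1 := by
      simp [coeff_zero_prod]
    have h0' : (∏ b, (1 + C (a + μ b) * X)).coeff 0 = 1 := by simp [coeff_zero_prod]
    have hA : (∏ x, ∏ b, (1 + C (ν x + μ b) * X)) =
        (∏ x : Fin r, ∏ b, (1 + C (ν x.castSucc + μ b) * X)) * ∏ b, (1 + C (a + μ b) * X) := Fin.prod_univ_castSucc _
    simp only [Function.comp_apply] at h1 h2
    constructor
    · rw [hA, coeff_mul, Finset.Nat.sum_antidiagonal_eq_sum_range_succ_mk]
      simp only [Finset.sum_range_succ, Finset.sum_range_zero, Nat.sub_zero, Nat.sub_self]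
      rw [h0, h0', h1, q1, n1]
      push_cast
      ring
    · rw [hA, coeff_mul, Finset.Nat.sum_antidiagonal_eq_sum_range_succ_mk]
      simp only [Finset.sum_range_succ, Finset.sum_range_zero, Nat.sub_zero, Nat.sub_self, show 2 - 1 = 1 from rfl]
      rw [h0, h0', h1, h2, q1, q2, n1, n2]
      have hc : (s.choose 2 : R) * 2 + (s : R) = (s : R) * (s : R) := by
        have : s.choose 2 * 2 + s = s * s := by
          have h2 : s.choose 2 * 2 = s * (s - 1) := by
            rw [Nat.choose_two_right]
            exact Nat.div_mul_cancel (Nat.two_dvd_mul_sub_one s)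
          rw [h2]; cases s with
          | zero => rfl
          | succ t => simp; ring
        exact_mod_cast congrArg (Nat.cast : ℕ → R) this
      rw [Nat.choose_succ_succ', Nat.choose_one_right]
      push_cast
      linear_combination (-(esum (ν ∘ Fin.castSucc) 1 * a)) * hc

end Groth.Agent.H9PB
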