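import Groth.Agent.H9PB.Whitney
import Groth.Agent.Lib.CurveTensor
import Groth.Agent.KFlatLib.Perfect.Tensor
import Groth.Agent.ExtPowSh.Lambda
import Groth.Agent.ExtPowSh.Iso
import Groth.Agent.ExtShX.Adjunction
import Groth.Agent.H23.RatSecTensor
import Groth.Agent.ASB.Tensor

/-! Chern roots of filtered modules. -/

set_option autoImplicit false
set_option linter.style.haveILetI false
set_option linter.unusedSectionVars false
set_option backward.isDefEq.respectTransparency false
set_option backward.isDefEq.respectTransparency.types false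
set_option maxHeartbeats 800000
set_option synthInstance.maxHeartbeats 200000

universe u

open AlgebraicGeometry CategoryTheory CategoryTheory.Limits Polynomial
open scoped IsMulCommutative

namespace Groth.Agent.H9PB

open Groth.Agent

variable {X : Scheme.{u}} {δ : X → ℤ}

noncomputable instance ringEndGCH : Ring (AddMonoid.End (GCH X δ)) := AddMonoid.End.instRing

noncomputable instance ringPolyEndGCH : Ring (Polynomial (AddMonoid.End (GCH X δ))) := Polynomial.ring

/-- The rank of a tensor product. -/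
theorem isFinLocFreeOfRank_tensor {M N : X.Modules} {a b : ℕ} (hM : FlatMod.IsFinLocFreeOfRank a M)
    (hN : FlatMod.IsFinLocFreeOfRank b N) : FlatMod.IsFinLocFreeOfRank (a * b) (CohB1.tensorMod M N) := fun x => by
  have fM := ExtPowSh.flf_of_rank hM
  have fN := ExtPowSh.flf_of_rank hN
  have hT : FlatMod.IsFinLocFree (CohB1.tensorMod M N) := KFlatLib.isFinLocFree_tensor fM fN
  obtain ⟨U, n, hx, ⟨e⟩⟩ := hT x
  obtain ⟨V, hV, hxV, hle⟩ := exists_isAffineOpen_mem_and_subset (U := U) (x := x) hx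
  obtain ⟨l⟩ := QCoh.free_sections hV hle e
  have h1 : ExtPowSh.rk (CohB1.tensorMod M N) x = n :=
    QCoh.finrank_stalk_of_freeChart hV (QCoh.isQCoh_of_isFinLocFree hT) l hxV
  have h2 : ExtPowSh.rk (CohB1.tensorMod M N) x = a * b := by
    refine (ExtPowSh.rk_tensor fM fN x).trans ?_
    rw [ExtPowSh.rk_eq hM x, ExtPowSh.rk_eq hN x]
  obtain rfl : n = a * b := h1.symm.trans h2
  exact ⟨U, hx, ⟨e⟩⟩

section Ops

variable (hX : Cyc.IsSetup X δ)

include hX in
theorem opL_iso {L L' : X.Modules} (hL : PicF.IsInvertible L) (hL' : PicF.IsInvertible L') (e : L ≅ L') :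
    opL hX hL = opL hX hL' := by
  have h := totC_iso hX (InvEnd.isFinLocFreeOfRank_one hL) (InvEnd.isFinLocFreeOfRank_one hL') e rfl
  rw [totC_line hX hL, totC_line hX hL'] at h
  simpa [lineC, Polynomial.coeff_one] using congrArg (fun f => Polynomial.coeff f 1) h

include hX in
theorem opL_tensor {L N : X.Modules} (hL : PicF.IsInvertible L) (hN : PicF.IsInvertible N) :
    opL hX (InvX.isInvertible_tensorMod hL hN) = opL hX hL + opL hX hN := by
  haveI := hX.1
  obtain ⟨v, hv⟩ := H23.RatSec.exists_sections hL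
  obtain ⟨w, hw⟩ := H23.RatSec.exists_sections hN
  obtain ⟨t, ht⟩ := H23.RatSec.exists_sections (InvX.isInvertible_tensorMod hL hN)
  refine end_ext hX 1 fun x k α hx => ⟨_, _, rep_opL hX (InvX.isInvertible_tensorMod hL hN) hx t ht,
    (rep_opL hX hL hx v hv).add (rep_opL hX hN hx w hw), ?_⟩
  rw [← neg_mem_iff, neg_sub]
  exact H23.RatSecTensor.ratEquiv_c1Cap_tensor hL hN hX.2.2 (α := ⇑α) (fun ξ hξ => hx.1 ξ (by omega))
    (H23.GysinLib.locFin α) hv hw ht (coe_cap1 _ _ _ _ _) (coe_cap1 _ _ _ _ _) (coe_cap1 _ _ _ _ _)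

include hX in
theorem opL_structureModule : opL hX (InvX.isInvertible_structureModule (X := X)) = 0 := by
  have h := opL_tensor hX (InvX.isInvertible_structureModule (X := X)) (InvX.isInvertible_structureModule (X := X))
  rw [opL_iso hX _ (InvX.isInvertible_structureModule (X := X)) (CurveTensor.structureTensorIso _)] at h
  exact left_eq_add.1 h

/-- The ring of the classes of line bundles. -/
noncomputable abbrev Rt : Subring (AddMonoid.End (GCH X δ)) :=
  Subring.closure (Set.range fun L : {L : X.Modules // PicF.IsInvertible L} => opL hX L.2)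

instance isMulCommutative_Rt : IsMulCommutative (Rt hX) :=
  Subring.isMulCommutative_closure (by
    rintro _ ⟨L, rfl⟩ _ ⟨N, rfl⟩
    exact opL_comm hX L.2 N.2)

noncomputable instance commRing_Rt : CommRing (Rt hX) := inferInstance

noncomputable instance commRing_polyRt : CommRing (Polynomial (Rt hX)) := Polynomial.commRing

/-- The class of a line bundle. -/
noncomputable def rt {L : X.Modules} (hL : PicF.IsInvertible L) : Rt hX :=
  ⟨opL hX hL, Subring.subset_closure ⟨⟨L, hL⟩, rfl⟩⟩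

theorem rt_val {L : X.Modules} (hL : PicF.IsInvertible L) : (rt hX hL : AddMonoid.End (GCH X δ)) = opL hX hL := rfl

/-- The product of `1 + λX`. -/
noncomputable def rootProd {r : ℕ} (ν : Fin r → Rt hX) : Polynomial (Rt hX) := ∏ i, (1 + C (ν i) * Polynomial.X)

/-- Polynomials over the classes of line bundles as polynomials of endomorphisms. -/
noncomputable def toEnd : Polynomial (Rt hX) →+* Polynomial (AddMonoid.End (GCH X δ)) :=
  Polynomial.mapRingHom (Rt hX).subtype

theorem toEnd_coeff (f : Polynomial (Rt hX)) (j : ℕ) :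
    (toEnd hX f).coeff j = ((f.coeff j : Rt hX) : AddMonoid.End (GCH X δ)) := Polynomial.coeff_map _ _

theorem toEnd_line {L : X.Modules} (hL : PicF.IsInvertible L) :
    toEnd hX (1 + C (rt hX hL) * Polynomial.X) = lineC hX hL := by
  simp [toEnd, lineC, rt_val]

theorem rootProd_zero (ν : Fin 0 → Rt hX) : rootProd hX ν = 1 := Fin.prod_univ_zero _

theorem rootProd_succ {r : ℕ} (ν : Fin (r + 1) → Rt hX) :
    rootProd hX ν = rootProd hX (ν ∘ Fin.castSucc) * (1 + C (ν (Fin.last r)) * Polynomial.X) :=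
  Fin.prod_univ_castSucc _

/-- Filtered with the given roots. -/
def HasFil : (r : ℕ) → X.Modules → (Fin r → Rt hX) → Prop
  | 0, G, _ => IsZero G
  | r + 1, G, ν => ∃ (F L : X.Modules) (hL : PicF.IsInvertible L) (a : F ⟶ G) (b : G ⟶ L) (hab : a ≫ b = 0),
      (ShortComplex.mk a b hab).ShortExact ∧ HasFil r F (ν ∘ Fin.castSucc) ∧ ν (Fin.last r) = rt hX hL

theorem exists_hasFil : ∀ {r : ℕ} {G : X.Modules}, IsFiltered r G → ∃ ν, HasFil hX r G ν
  | 0, G, h => ⟨Fin.elim0, h⟩
  | r + 1, G, ⟨F, L, a, b, hab, hse, hL, hF⟩ => by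
    obtain ⟨ν, hν⟩ := exists_hasFil hF
    refine ⟨Fin.snoc (α := fun _ => Rt hX) ν (rt hX hL), F, L, hL, a, b, hab, hse, ?_, Fin.snoc_last (α := fun _ => Rt hX) _ _⟩
    rwa [show Fin.snoc (α := fun _ => Rt hX) ν (rt hX hL) ∘ Fin.castSucc = ν from funext fun i => Fin.snoc_castSucc (α := fun _ => Rt hX) _ _ i]

theorem HasFil.rank : ∀ {r : ℕ} {G : X.Modules} {ν : Fin r → Rt hX}, HasFil hX r G ν →
    FlatMod.IsFinLocFreeOfRank r G
  | 0, _, _, h => isFinLocFreeOfRank_zero_of_isZero h
  | _ + 1, _, _, ⟨_, _, hL, _, _, _, hse, hF, _⟩ =>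
    isFinLocFreeOfRank_extension hse hF.rank (InvEnd.isFinLocFreeOfRank_one hL)

theorem HasFil.totC : ∀ {r : ℕ} {G : X.Modules} {ν : Fin r → Rt hX}, HasFil hX r G ν →
    ∀ hG : FlatMod.IsFinLocFreeOfRank r G, H9PB.totC hX hG = toEnd hX (rootProd hX ν)
  | 0, G, ν, _, hG => by rw [totC_of_rank_zero, rootProd_zero, map_one]
  | r + 1, G, ν, ⟨F, L, hL, a, b, hab, hse, hF, hl⟩, hG => by
    rw [whitney hX hF.rank (InvEnd.isFinLocFreeOfRank_one hL) hG a b hab hse, hF.totC hF.rank, totC_line hX hL,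
      rootProd_succ, map_mul, hl, toEnd_line]

/-- Twisting shifts the roots. -/
theorem HasFil.totC_tensor {N : X.Modules} (hN : PicF.IsInvertible N) :
    ∀ {r : ℕ} {G : X.Modules} {ν : Fin r → Rt hX}, HasFil hX r G ν →
      ∀ hG : FlatMod.IsFinLocFreeOfRank r (CohB1.tensorMod N G),
        H9PB.totC hX hG = toEnd hX (rootProd hX fun i => rt hX hN + ν i)
  | 0, G, ν, _, hG => by rw [totC_of_rank_zero, rootProd_zero, map_one]
  | r + 1, G, ν, ⟨F, L, hL, a, b, hab, hse, hF, hl⟩, hG => by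
    have hNF : FlatMod.IsFinLocFreeOfRank r (CohB1.tensorMod N F) := by
      simpa using isFinLocFreeOfRank_tensor (InvEnd.isFinLocFreeOfRank_one hN) hF.rank
    have hNL := InvX.isInvertible_tensorMod hN hL
    have hse' := CurveTensor.shortExact_tensor (H23.PullPush.isFinLocFree_of_isInvertible hN) a b hab hse
    refine (whitney hX hNF (InvEnd.isFinLocFreeOfRank_one hNL) hG _ _ _ hse').trans ?_
    rw [hF.totC_tensor hN hNF, totC_line hX hNL, rootProd_succ, map_mul]
    congr 1
    rw [hl, ← toEnd_line]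
    refine congrArg (fun z : Rt hX => toEnd hX (1 + C z * Polynomial.X)) (Subtype.ext ?_)
    exact opL_tensor hX hN hL

/-- The top exterior power is the sum of the roots. -/
theorem HasFil.det : ∀ {r : ℕ} {G : X.Modules} {ν : Fin r → Rt hX}, HasFil hX r G ν →
    ∀ {D : X.Modules} (hD : PicF.IsInvertible D), ExtPow.IsExtPow r G D → rt hX hD = ∑ i, ν i
  | 0, G, ν, _, D, hD, hDG => by
    obtain ⟨e⟩ := ExtPowSh.nonempty_iso hDG (ExtPowSh.isExtPow_zero G)
    rw [Fin.sum_univ_zero]
    refine Subtype.ext ?_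
    exact (opL_iso hX hD InvX.isInvertible_structureModule e).trans (opL_structureModule hX)
  | r + 1, G, ν, ⟨F, L, hL, a, b, hab, hse, hF, hl⟩, D, hD, hDG => by
    have hL1 := InvEnd.isFinLocFreeOfRank_one hL
    have qF := QCoh.isQCoh_of_isFinLocFree (ExtPowSh.flf_of_rank hF.rank)
    have qG := QCoh.isQCoh_of_isFinLocFree (ExtPowSh.flf_of_rank
      (isFinLocFreeOfRank_extension hse hF.rank hL1))
    have qL := QCoh.isQCoh_of_isFinLocFree (ExtPowSh.flf_of_rank hL1)
    obtain ⟨e⟩ := ExtShX.nonempty_det_iso hse hF.rank hL1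
    obtain ⟨eD⟩ := ExtPowSh.nonempty_iso (ExtPowSh.isExtPow G (r + 1) qG) hDG
    obtain ⟨eL⟩ := ExtPowSh.nonempty_iso (ExtPowSh.isExtPow L 1 qL) (ExtPowSh.isExtPow_one L)
    have hDF : PicF.IsInvertible (ExtPowSh.L F r) :=
      TopDiff.isInvertible_of_isExtPow hF.rank (ExtPowSh.isExtPow F r qF)
    obtain ⟨e'⟩ := ASB.tensor_congr (Iso.refl (ExtPowSh.L F r)) eL
    rw [Fin.sum_univ_castSucc, hl, show ∑ i : Fin r, ν i.castSucc = rt hX hDF from
      (hF.det hDF (ExtPowSh.isExtPow F r qF)).symm]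
    refine Subtype.ext ?_
    refine ((opL_iso hX hD (InvX.isInvertible_tensorMod hDF hL) (eD.symm ≪≫ e.symm ≪≫ e')).trans ?_)
    exact opL_tensor hX hDF hL

end Ops

end Groth.Agent.H9PB
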