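import Groth.Agent.H9PB.Roots
import Groth.Agent.H9PB.RootAlg

/-! Identities between Chern classes by the splitting principle. -/

set_option autoImplicit false
set_option linter.style.haveILetI false
set_option linter.unusedSectionVars false
set_option backward.isDefEq.respectTransparency false
set_option backward.isDefEq.respectTransparency.types false
set_option maxHeartbeats 800000
set_option synthInstance.maxHeartbeats 200000

universe u

open AlgebraicGeometry CategoryTheory CategoryTheory.Limits Polynomial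
open scoped IsMulCommutative

namespace Groth.Agent.H9PB

open Groth.Agent

section Pull

variable {P X : Scheme.{u}} (π : P ⟶ X) [Flat π] [LocallyOfFiniteType π] {δ : X → ℤ} {δP : P → ℤ}
  (hX : Cyc.IsSetup X δ) (hP : Cyc.IsSetup P δP) (hπ : Cyc.DeltaCompat π δP δ) {d : ℕ} (hd : Cyc.HasRelDim π d)

theorem inter_opL {L : X.Modules} {L' : P.Modules} (hL : PicF.IsInvertible L) (hL' : PicF.IsInvertible L')
    (ε : (Scheme.Modules.pullback π).obj L ≅ L') :
    Inter π hX hP hπ hd (opL hX hL) (opL hP hL') := by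
  rw [← opL_iso hP (PicClLib.isInvertible_pullback π hL) hL' ε]
  haveI := hX.1
  haveI := hP.1
  intro x
  funext m
  obtain ⟨α, hx⟩ := Rep.exists x (m - d + 1)
  obtain ⟨v, hv⟩ := H23.RatSec.exists_sections hL
  have hc := H23.FlatShift.hasShift_of_hasRelDim π hd hπ
  have h1 := rep_pullG π hX hP hπ hd (rep_opL hX hL hx v hv)
  have h2 := rep_opL hP (PicClLib.isInvertible_pullback π hL) (rep_pullG π hX hP hπ hd hx) (H23.C1Pull.vPull π L v)
    (H23.C1Pull.vPull_ne_zero hL hv)
  rw [show flatAdd π hc hP.2.2 (cap1 hL hX.2.2 v hv α) = cap1 (PicClLib.isInvertible_pullback π hL) hP.2.2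
      (H23.C1Pull.vPull π L v) (H23.C1Pull.vPull_ne_zero hL hv) (flatAdd π hc hP.2.2 α) from
    DFunLike.coe_injective (by
      rw [coe_flatAdd, coe_cap1, coe_cap1, coe_flatAdd]
      exact H23.C1Pull.pullFun_c1CapFun hL (PicClLib.isInvertible_pullback π hL) hc hX.2.2 hP.2.2 (H23.GysinLib.locFin α) hv),
    show m - (d : ℤ) + 1 - 1 + d = m by ring] at h1
  rw [show m - (d : ℤ) + 1 + d - 1 = m by ring] at h2
  obtain ⟨_, e1⟩ := h1
  obtain ⟨_, e2⟩ := h2
  exact e1.trans e2.symm

variable {A B : AddMonoid.End (GCH X δ)} {A' B' : AddMonoid.End (GCH P δP)}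

theorem Inter.pow (h : Inter π hX hP hπ hd A A') (n : ℕ) : Inter π hX hP hπ hd (A ^ n) (A' ^ n) := by
  induction n with
  | zero => simpa using Inter.one π hX hP hπ hd
  | succ n ih => rw [pow_succ, pow_succ]; exact ih.mul π hX hP hπ hd h

theorem Inter.eq (hs : IsSplitting π d) (h : Inter π hX hP hπ hd A A') (h' : Inter π hX hP hπ hd B B')
    (e : A' = B') : A = B :=
  AddMonoidHom.ext fun x => pullG_injective π hX hP hπ hd hs (by rw [h x, h' x, e])

end Pull

section Ident

variable {X : Scheme.{u}} {δ : X → ℤ} (hX : Cyc.IsSetup X δ)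

theorem HasFil.opC {r : ℕ} {G : X.Modules} {ν : Fin r → Rt hX} (h : HasFil hX r G ν)
    (hG : FlatMod.IsFinLocFreeOfRank r G) (j : ℕ) :
    H9PB.opC hX hG j = ((esum ν j : Rt hX) : AddMonoid.End (GCH X δ)) := by
  rw [← coeff_totC, h.totC hX hG, toEnd_coeff, rootProd, coeff_rootProd]

include hX in
/-- The first Chern class is that of the determinant. -/
theorem opC_one_eq_det {r : ℕ} {E : X.Modules} (hE : FlatMod.IsFinLocFreeOfRank r E) {D : X.Modules}
    (hD : PicF.IsInvertible D) (hDE : ExtPow.IsExtPow r E D) : opC hX hE 1 = opL hX hD := by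
  obtain ⟨P, π, d, hs, hfil⟩ := exists_splitting r hX hE
  haveI := hs.proper
  haveI := hs.flat
  have hπ := H23.ChowDesc.deltaCompat_rd π δ
  have hP := H23.SetupLFT.isSetup π hX hπ
  refine Inter.eq π hX hP hπ hs.rel hs
    (inter_opC π hX hP hπ hs.rel hE (KRRReg.isFinLocFreeOfRank_pullback π hE) (Iso.refl _) 1)
    (inter_opL π hX hP hπ hs.rel hD (PicClLib.isInvertible_pullback π hD) (Iso.refl _)) ?_
  obtain ⟨ν, hν⟩ := exists_hasFil hP hfil
  rw [hν.opC hP, esum_one, ← hν.det hP (PicClLib.isInvertible_pullback π hD)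
    (ExtPowSh.isExtPow_pullback π (QCoh.isQCoh_of_isFinLocFree (ExtPowSh.flf_of_rank hE)) hDE), rt_val]

include hX in
/-- The Chern classes of a twist. -/
theorem opC_tensor {r : ℕ} {E : X.Modules} (hE : FlatMod.IsFinLocFreeOfRank r E) {N : X.Modules}
    (hN : PicF.IsInvertible N) (hT : FlatMod.IsFinLocFreeOfRank r (CohB1.tensorMod N E)) {i : ℕ} (hi : i ≤ r) :
    opC hX hT i =
      ∑ j ∈ Finset.range (i + 1), (((r - i + j).choose j : ℕ) : ℤ) • (opL hX hN ^ j * opC hX hE (i - j)) := by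
  obtain ⟨P, π, d, hs, hfil⟩ := exists_splitting r hX hE
  haveI := hs.proper
  haveI := hs.flat
  have hπ := H23.ChowDesc.deltaCompat_rd π δ
  have hP := H23.SetupLFT.isSetup π hX hπ
  have hE' := KRRReg.isFinLocFreeOfRank_pullback π hE
  have hN' := PicClLib.isInvertible_pullback π hN
  obtain ⟨ε⟩ := ASB.pullback_tensor π N E
  have hT' := (ConsPropLib.isFinLocFreeOfRank_iso ε).1 (KRRReg.isFinLocFreeOfRank_pullback π hT)
  refine Inter.eq π hX hP hπ hs.rel hs (inter_opC π hX hP hπ hs.rel hT hT' ε i)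
    (Inter.sum π hX hP hπ hs.rel (A' := fun j => (((r - i + j).choose j : ℕ) : ℤ) • (opL hP hN' ^ j * opC hP hE' (i - j)))
      fun j _ => (((inter_opL π hX hP hπ hs.rel hN hN' (Iso.refl _)).pow π hX hP hπ hs.rel j).mul π hX hP hπ hs.rel
      (inter_opC π hX hP hπ hs.rel hE hE' (Iso.refl _) (i - j))).zsmul π hX hP hπ hs.rel _) ?_
  obtain ⟨ν, hν⟩ := exists_hasFil hP hfil
  rw [← coeff_totC, hν.totC_tensor hP hN' hT', toEnd_coeff, rootProd, coeff_prod_shift ν (rt hP hN') hi,
    AddSubmonoidClass.coe_finsetSum]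
  refine Finset.sum_congr rfl fun j _ => ?_
  rw [hν.opC hP, ← rt_val hP hN', zsmul_eq_mul]
  push_cast
  rfl

end Ident

end Groth.Agent.H9PB
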