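import Groth.Agent.H9PB.RootsPull

/-! Chern classes of a tensor product. -/

set_option autoImplicit false
set_option linter.style.haveILetI false
set_option linter.unusedSectionVars false
set_option backward.isDefEq.respectTransparency false
set_option backward.isDefEq.respectTransparency.types false
set_option maxHeartbeats 800000
set_option synthInstance.maxHeartbeats 200000

universe u

open AlgebraicGeometry CategoryTheory CategoryTheory.Limits Polynomial
open scoped IsMulCommutative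

namespace Groth.Agent.H9PB

open Groth.Agent

variable {X : Scheme.{u}} {δ : X → ℤ} (hX : Cyc.IsSetup X δ)

/-- The roots of a tensor product. -/
theorem HasFil.totC_tensor₂ {s : ℕ} {G : X.Modules} {μ : Fin s → Rt hX} (hG : HasFil hX s G μ) :
    ∀ {r : ℕ} {E : X.Modules} {ν : Fin r → Rt hX}, HasFil hX r E ν →
      ∀ {n : ℕ} (hn : n = r * s) (hT : FlatMod.IsFinLocFreeOfRank n (CohB1.tensorMod G E)),
        H9PB.totC hX hT = toEnd hX (∏ a, ∏ b, (1 + C (ν a + μ b) * Polynomial.X)) := by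
  intro r
  induction r with
  | zero =>
    intro E ν _ n hn hT
    obtain rfl : n = 0 := by simpa using hn
    rw [totC_of_rank_zero, Fin.prod_univ_zero, map_one]
  | succ r ih =>
    rintro E ν ⟨F, L, hL, a, b, hab, hse, hF, hl⟩ n hn hT
    have hG₁ := hG.rank
    have hGF : FlatMod.IsFinLocFreeOfRank (r * s) (CohB1.tensorMod G F) := by
      rw [mul_comm]; exact isFinLocFreeOfRank_tensor hG₁ hF.rank
    have hGL : FlatMod.IsFinLocFreeOfRank s (CohB1.tensorMod G L) := by
      simpa using isFinLocFreeOfRank_tensor hG₁ (InvEnd.isFinLocFreeOfRank_one hL)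
    have hLG : FlatMod.IsFinLocFreeOfRank s (CohB1.tensorMod L G) := by
      simpa using isFinLocFreeOfRank_tensor (InvEnd.isFinLocFreeOfRank_one hL) hG₁
    have hT' : FlatMod.IsFinLocFreeOfRank (r * s + s) (CohB1.tensorMod G E) := by
      rwa [← Nat.succ_mul, ← hn]
    have hse' := CurveTensor.shortExact_tensor (ExtPowSh.flf_of_rank hG₁) a b hab hse
    rw [totC_iso hX hT hT' (Iso.refl _) (by rw [hn, Nat.succ_mul])]
    refine (whitney hX hGF hGL hT' _ _ _ hse').trans ?_
    rw [ih hF rfl hGF, totC_iso hX hGL hLG (CurveTensor.commIso G L) rfl,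
      hG.totC_tensor hX hL hLG, ← map_mul, rootProd, ← hl]
    refine congrArg (toEnd hX) ?_
    simp only [Function.comp_apply]
    exact (Fin.prod_univ_castSucc fun a => ∏ b, (1 + C (ν a + μ b) * Polynomial.X)).symm

include hX in
/-- The first two Chern classes of a tensor product. -/
theorem opC_tensor₂ {r s : ℕ} {E F : X.Modules} (hE : FlatMod.IsFinLocFreeOfRank r E)
    (hF : FlatMod.IsFinLocFreeOfRank s F) (hT : FlatMod.IsFinLocFreeOfRank (r * s) (CohB1.tensorMod E F)) :
    opC hX hT 1 = (r : ℤ) • opC hX hF 1 + (s : ℤ) • opC hX hE 1 ∧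
    opC hX hT 2 = (r : ℤ) • opC hX hF 2 + (s : ℤ) • opC hX hE 2 + (r.choose 2 : ℤ) • (opC hX hF 1 * opC hX hF 1) +
      (((r * s : ℕ) : ℤ) - 1) • (opC hX hE 1 * opC hX hF 1) + (s.choose 2 : ℤ) • (opC hX hE 1 * opC hX hE 1) := by
  obtain ⟨P, π, d, hs, hfil⟩ := exists_splitting_fin 2 hX ![E, F] ![r, s] (fun i => by fin_cases i <;> assumption)
  haveI := hs.proper
  haveI := hs.flat
  have hπ := H23.ChowDesc.deltaCompat_rd π δ
  have hP := H23.SetupLFT.isSetup π hX hπ
  have hE' := KRRReg.isFinLocFreeOfRank_pullback π hE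
  have hF' := KRRReg.isFinLocFreeOfRank_pullback π hF
  obtain ⟨ε⟩ := ASB.pullback_tensor π E F
  have hT' : FlatMod.IsFinLocFreeOfRank (r * s) (CohB1.tensorMod ((Scheme.Modules.pullback π).obj F)
      ((Scheme.Modules.pullback π).obj E)) := (ConsPropLib.isFinLocFreeOfRank_iso
        (ε ≪≫ CurveTensor.commIso _ _)).1 (KRRReg.isFinLocFreeOfRank_pullback π hT)
  have iT := inter_opC π hX hP hπ hs.rel hT hT' (ε ≪≫ CurveTensor.commIso _ _)
  have iE := inter_opC π hX hP hπ hs.rel hE hE' (Iso.refl _)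
  have iF := inter_opC π hX hP hπ hs.rel hF hF' (Iso.refl _)
  obtain ⟨ν, hν⟩ := exists_hasFil hP (show IsFiltered r ((Scheme.Modules.pullback π).obj E) from hfil 0)
  obtain ⟨μ, hμ⟩ := exists_hasFil hP (show IsFiltered s ((Scheme.Modules.pullback π).obj F) from hfil 1)
  have key := fun j => congrArg (fun f => Polynomial.coeff f j) (hμ.totC_tensor₂ hP hν rfl hT')
  simp only [coeff_totC, toEnd_coeff] at key
  obtain ⟨k1, k2⟩ := coeff_pairs (R := Rt hP) ν μ
  constructor
  · refine Inter.eq π hX hP hπ hs.rel hs (iT 1) (((iF 1).zsmul π hX hP hπ hs.rel _).add π hX hP hπ hs.rel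
      ((iE 1).zsmul π hX hP hπ hs.rel _)) ?_
    rw [key 1, k1, hν.opC hP, hμ.opC hP, zsmul_eq_mul, zsmul_eq_mul]
    push_cast
    exact add_comm _ _
  · refine Inter.eq π hX hP hπ hs.rel hs (iT 2)
      ((((((iF 2).zsmul π hX hP hπ hs.rel _).add π hX hP hπ hs.rel ((iE 2).zsmul π hX hP hπ hs.rel _)).add π hX hP hπ
        hs.rel (((iF 1).mul π hX hP hπ hs.rel (iF 1)).zsmul π hX hP hπ hs.rel _)).add π hX hP hπ hs.rel
        (((iE 1).mul π hX hP hπ hs.rel (iF 1)).zsmul π hX hP hπ hs.rel _)).add π hX hP hπ hs.rel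
        (((iE 1).mul π hX hP hπ hs.rel (iE 1)).zsmul π hX hP hπ hs.rel _)) ?_
    rw [key 2, k2]
    simp only [hν.opC hP, hμ.opC hP, zsmul_eq_mul]
    push_cast
    rfl

end Groth.Agent.H9PB
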