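import Groth.Agent.GrassSch.Vanish
import Groth.Agent.RegImmLib.RegStalk
import Groth.Agent.InvX.Tensor
import Groth.Agent.QCoh.VanIdeal
import Groth.Agent.H23.RatSec
import Groth.Prelude.Def_C1

/-! A closed subscheme representing the vanishing of a section of an invertible module is its zero scheme. -/

set_option autoImplicit false
set_option linter.style.haveILetI false
set_option linter.unusedSectionVars false
set_option backward.isDefEq.respectTransparency false
set_option backward.isDefEq.respectTransparency.types false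
set_option maxHeartbeats 1000000
set_option synthInstance.maxHeartbeats 400000

universe u

open CategoryTheory CategoryTheory.Limits AlgebraicGeometry TopologicalSpace Opposite
open scoped TensorProduct

attribute [-instance] CategoryTheory.catToReflQuiver

noncomputable section

namespace Groth.Agent.H9PB

open Groth.Agent Groth.Agent.QuotRep

variable {W : Scheme.{u}} {L : W.Modules}

/-- Vanishing of a map of invertible modules on an affine point of a chart. -/
theorem pullback_map_eq_zero_iff {M : W.Modules} (u : M ⟶ L) (hM : PicF.IsInvertible M) (hL : PicF.IsInvertible L)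
    {U : W.Opens} (hU : IsAffineOpen U) {eM : Γ(M, U)} (heM : InvX.IsFrame eM) {e : Γ(L, U)}
    (he : InvX.IsFrame e) {c : Γ(W, U)} (hc : u.app U eM = c • e) {R : CommRingCat.{u}} (q : Γ(W, U) ⟶ R) :
    (Scheme.Modules.pullback (Spec.map q ≫ hU.fromSpec)).map u = 0 ↔ q c = 0 := by
  let x := Spec.map q ≫ hU.fromSpec
  have hle : (⊤ : (Spec R).Opens) ≤ x ⁻¹ᵁ U := fun y _ => hU.range_fromSpec.le ⟨Spec.map q y, rfl⟩
  have hqcL : Coh.IsQCoh L := QCoh.isQCoh_of_isFinLocFree fun y =>
    let ⟨V, hy, e⟩ := InvEnd.isFinLocFreeOfRank_one hL y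
    ⟨V, 1, hy, e⟩
  have hqcO : Coh.IsQCoh M := QCoh.isQCoh_of_isFinLocFree fun y =>
    let ⟨V, hy, e⟩ := InvEnd.isFinLocFreeOfRank_one hM y
    ⟨V, 1, hy, e⟩
  letI : Algebra Γ(W, U) Γ(Spec R, ⊤) := (x.appLE U ⊤ hle).hom.toAlgebra
  letI : Module Γ(W, U) Γ((Scheme.Modules.pullback x).obj M, ⊤) :=
    Module.compHom _ (x.appLE U ⊤ hle).hom
  letI : Module Γ(W, U) Γ((Scheme.Modules.pullback x).obj L, ⊤) := Module.compHom _ (x.appLE U ⊤ hle).hom
  haveI : IsScalarTower Γ(W, U) Γ(Spec R, ⊤) Γ((Scheme.Modules.pullback x).obj M, ⊤) :=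
    ⟨fun a b c => mul_smul ((x.appLE U ⊤ hle).hom a) b c⟩
  haveI : IsScalarTower Γ(W, U) Γ(Spec R, ⊤) Γ((Scheme.Modules.pullback x).obj L, ⊤) :=
    ⟨fun a b c => mul_smul ((x.appLE U ⊤ hle).hom a) b c⟩
  obtain ⟨lA, hlA, hbA⟩ := ExistEasy.exists_pullSec_baseChange x hqcO (isAffineOpen_top _) hU hle
  obtain ⟨lQ, hlQ, hbQ⟩ := ExistEasy.exists_pullSec_baseChange x hqcL (isAffineOpen_top _) hU hle
  let C := Γ(Spec R, ⊤)
  have hbM : Function.Bijective (fun r : Γ(W, U) => r • eM) := by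
    have := heM U le_rfl
    simpa [AModX.res] using this
  have hzero : (Scheme.Modules.pullback x).map u = 0 ↔
      ∀ a : Γ(M, U), QCoh.pullSec x L hle (u.app U a) = 0 := by
    refine ⟨fun h a => ?_, fun h => (QCoh.bijective_ΓMap (QCoh.isQCoh_pullback x hqcO) _).1 ?_⟩
    · rw [← ExistEasy.pullSec_natural x u hle a, h]
      rfl
    · refine ModuleCat.hom_ext (LinearMap.ext fun z => ?_)
      refine Eq.trans (?_ : ((Scheme.Modules.pullback x).map u).app ⊤ z = 0) rfl
      refine hbA.inductionOn z (fun z => ((Scheme.Modules.pullback x).map u).app ⊤ z = 0) (map_zero _)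
        (fun a => ?_) (fun c w hw => ?_) (fun a b ha hb => ?_)
      · rw [hlA a, ExistEasy.pullSec_natural x u hle a]
        exact h a
      · rw [Scheme.Modules.Hom.app_smul, hw]
        exact smul_zero _
      · rw [map_add, ha, hb, add_zero]
  have hb : Function.Bijective (fun r : Γ(W, U) => r • e) := by
    have := he U le_rfl
    simpa [AModX.res] using this
  let φ : Γ(L, U) ≃ₗ[Γ(W, U)] Γ(W, U) := (LinearEquiv.ofBijective (LinearMap.toSpanSingleton Γ(W, U) Γ(L, U) e) hb).symm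
  have hcoord : ∀ m : Γ(L, U), QCoh.pullSec x L hle m = 0 ↔ x.appLE U ⊤ hle (φ m) = 0 := fun m => by
    have hb1 : QCoh.pullSec x L hle m = hbQ.equiv ((1 : C) ⊗ₜ[Γ(W, U)] m) := by
      rw [IsBaseChange.equiv_tmul, one_smul, hlQ]
    rw [hb1, hbQ.equiv.map_eq_zero_iff, ← (φ.baseChange Γ(W, U) C _ _).map_eq_zero_iff,
      LinearEquiv.baseChange_tmul, ← (TensorProduct.AlgebraTensorModule.rid Γ(W, U) C C).map_eq_zero_iff,
      TensorProduct.AlgebraTensorModule.rid_tmul]
    exact Iff.of_eq (congrArg (· = 0)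
      (show φ m • (1 : C) = x.appLE U ⊤ hle (φ m) by rw [Algebra.smul_def, mul_one]; rfl))
  have hφ : ∀ r : Γ(W, U), φ (r • e) = r := fun r =>
    (LinearEquiv.ofBijective (LinearMap.toSpanSingleton Γ(W, U) Γ(L, U) e) hb).symm_apply_apply r
  have happle : ∀ r : Γ(W, U), x.appLE U ⊤ hle r = 0 ↔ q r = 0 := fun r => by
    rw [GrassSch.appLE_specMap_fromSpec hU q hle]
    exact map_eq_zero_iff _ (ConcreteCategory.bijective_of_isIso (Scheme.ΓSpecIso R).inv).1
  rw [hzero]
  refine ⟨fun h => ?_, fun h a => ?_⟩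
  · have h1 := (hcoord _).1 (h eM)
    rw [happle, hc, hφ] at h1
    exact h1
  · obtain ⟨r, rfl⟩ := hbM.2 a
    rw [hcoord, happle, Scheme.Modules.Hom.app_smul, hc, ← mul_smul, hφ, map_mul, h, mul_zero]

/-- A closed subscheme representing the vanishing of a map is the zero scheme of a section with the same local
equations. -/
theorem isZeroSchemeOf_of_local {M N : W.Modules} (u : M ⟶ N) (hM : PicF.IsInvertible M) (hN : PicF.IsInvertible N)
    {Z : Scheme.{u}} (i : Z ⟶ W) [IsClosedImmersion i]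
    (hi : ∀ {T : Scheme.{u}} (x : T ⟶ W), (Scheme.Modules.pullback x).map u = 0 ↔ ∃ z, z ≫ i = x)
    (s : Γ(L, (⊤ : W.Opens)))
    (hloc : ∀ w : W, ∃ (U : W.Opens) (eM : Γ(M, U)) (eN : Γ(N, U)) (eL : Γ(L, U)) (c : Γ(W, U)), w ∈ U ∧
      InvX.IsFrame eM ∧ InvX.IsFrame eN ∧ InvX.IsFrame eL ∧ u.app U eM = c • eN ∧
      AModX.res L (le_top : U ≤ ⊤) s = c • eL) :
    Cyc.IsZeroSchemeOf i L s := by
  have hchart : ∀ w : W, ∃ (U : W.Opens) (hU : IsAffineOpen U) (hw : w ∈ U) (e : Γ(L, U)) (c : Γ(W, U)),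
      InvX.IsFrame e ∧ L.presheaf.germ ⊤ w trivial s =
        (W.presheaf.germ U w hw c) • (show L.presheaf.stalk w from L.presheaf.germ U w hw e) ∧
      RingHom.ker (i.app U).hom = Ideal.span {c} ∧ (W.presheaf.germ U w hw c ∈ IsLocalRing.maximalIdeal _ →
        w ∈ Set.range i) := by
    intro w
    obtain ⟨U₀, eM₀, eN₀, eL₀, c₀, hwU₀, heM₀, heN₀, heL₀, hu₀, hs₀⟩ := hloc w
    obtain ⟨U, hU, hwU, hle⟩ := exists_isAffineOpen_mem_and_subset hwU₀
    let eM : Γ(M, U) := AModX.res M hle eM₀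
    let eN : Γ(N, U) := AModX.res N hle eN₀
    let e : Γ(L, U) := AModX.res L hle eL₀
    let c : Γ(W, U) := AModX.resR hle c₀
    have heM : InvX.IsFrame eM := heM₀.res hle
    have heN : InvX.IsFrame eN := heN₀.res hle
    have he : InvX.IsFrame e := heL₀.res hle
    have hc : u.app U eM = c • eN := by
      show u.app U (AModX.res M hle eM₀) = _
      rw [AModX.app_res, hu₀, AModX.res_smul]
    have hs : AModX.res L (le_top : U ≤ ⊤) s = c • e := by
      show _ = AModX.resR hle c₀ • AModX.res L hle eL₀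
      rw [← AModX.res_smul, ← hs₀, AModX.res_res]
    refine ⟨U, hU, hwU, e, c, he, ?_, ?_, fun hmem => ?_⟩
    · rw [← L.presheaf.germ_res_apply (homOfLE (le_top : U ≤ ⊤)) w hwU]
      exact (congrArg (L.presheaf.germ U w hwU) hs).trans (QCoh.germ_smul' L hwU c e)
    · refine le_antisymm ?_ ?_
      · let J := Ideal.span ({c} : Set Γ(W, U))
        let q : Γ(W, U) ⟶ CommRingCat.of (Γ(W, U) ⧸ J) := CommRingCat.ofHom (Ideal.Quotient.mk J)
        obtain ⟨z, hz⟩ := (hi _).1 ((pullback_map_eq_zero_iff u hM hN hU heM heN hc q).2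
          (Ideal.Quotient.eq_zero_iff_mem.2 (Ideal.mem_span_singleton_self c)))
        intro a ha
        have hle' : (⊤ : (Spec (CommRingCat.of (Γ(W, U) ⧸ J))).Opens) ≤ (Spec.map q ≫ hU.fromSpec) ⁻¹ᵁ U :=
          fun y _ => hU.range_fromSpec.le ⟨Spec.map q y, rfl⟩
        have h1 : (Spec.map q ≫ hU.fromSpec).appLE U ⊤ hle' a = 0 := by
          have h2 : (z ≫ i).appLE U ⊤ (by rw [hz]; exact hle') a = 0 := by
            rw [Scheme.Hom.comp_appLE, CommRingCat.comp_apply, RingHom.mem_ker.1 ha, map_zero]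
          simp only [hz] at h2
          exact h2
        rw [GrassSch.appLE_specMap_fromSpec hU q hle'] at h1
        exact Ideal.Quotient.eq_zero_iff_mem.1
          ((map_eq_zero_iff _ (ConcreteCategory.bijective_of_isIso (Scheme.ΓSpecIso _).inv).1).1 h1)
      · rw [Ideal.span_le, Set.singleton_subset_iff]
        have hV : IsAffineOpen (i ⁻¹ᵁ U) := hU.preimage i
        have hfac : Spec.map (i.app U) ≫ hU.fromSpec = hV.fromSpec ≫ i := by
          rw [Scheme.Hom.app_eq_appLE]
          exact IsAffineOpen.SpecMap_appLE_fromSpec i hU hV le_rfl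
        exact RingHom.mem_ker.2 ((pullback_map_eq_zero_iff u hM hN hU heM heN hc (i.app U)).1
          ((hi _).2 ⟨hV.fromSpec, hfac.symm⟩))
    · let q : Γ(W, U) ⟶ W.residueField w := W.presheaf.germ U w hwU ≫ W.residue w
      have hfac : Spec.map q ≫ hU.fromSpec = W.fromSpecResidueField w := by
        rw [Scheme.fromSpecResidueField, ← hU.fromSpecStalk_eq_fromSpecStalk hwU, IsAffineOpen.fromSpecStalk,
          ← Category.assoc, ← Spec.map_comp]
      obtain ⟨z, hz⟩ := (hi _).1 ((pullback_map_eq_zero_iff u hM hN hU heM heN hc q).2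
        ((IsLocalRing.residue_eq_zero_iff _).2 hmem))
      have hw := W.fromSpecResidueField_apply w (IsLocalRing.closedPoint (W.residueField w))
      rw [← hfac, ← hz, Scheme.Hom.comp_apply] at hw
      exact ⟨_, hw⟩
  refine ⟨Set.ext fun w => ?_, fun d => ?_⟩
  · obtain ⟨U, hU, hwU, e, c, he, hgerm, hker, hback⟩ := hchart w
    have hg := H23.RatSec.isGen_germ he w hwU
    show _ ↔ H23.RatSec.cls L w (L.presheaf.germ ⊤ w trivial s) = 0
    rw [hgerm, H23.RatSec.cls_smul, ← not_ne_iff, ← H23.RatSec.residue_ne_zero hg, not_ne_iff]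
    refine ⟨?_, fun h => hback ((IsLocalRing.residue_eq_zero_iff _).1 h)⟩
    rintro ⟨z, rfl⟩
    refine (IsLocalRing.residue_eq_zero_iff _).2 ((IsLocalRing.mem_maximalIdeal _).2 fun hunit => ?_)
    have h1 : W.presheaf.germ U (i z) hwU c ∈ RingHom.ker (i.stalkMap z).hom := by
      rw [RegImmLib.ker_stalkMap_eq_map i hU z hwU, hker]
      exact Ideal.mem_map_of_mem _ (Ideal.mem_span_singleton_self c)
    exact not_isUnit_zero ((RingHom.mem_ker.1 h1) ▸ hunit.map (i.stalkMap z).hom)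
  · obtain ⟨U, hU, hwU, e, c, he, hgerm, hker, -⟩ := hchart (i d)
    refine ⟨_, _, (H23.RatSec.isGen_germ he (i d) hwU).1, hgerm, ?_⟩
    rw [RegImmLib.ker_stalkMap_eq_map i hU d hwU, hker, Ideal.map_span, Set.image_singleton]

/-- A closed subscheme representing the vanishing of a section is its zero scheme. -/
theorem isZeroSchemeOf_of_vanish (u : Coh.structureModule W ⟶ L) (hL : PicF.IsInvertible L) {Z : Scheme.{u}}
    (i : Z ⟶ W) [IsClosedImmersion i]
    (hi : ∀ {T : Scheme.{u}} (x : T ⟶ W), (Scheme.Modules.pullback x).map u = 0 ↔ ∃ z, z ≫ i = x) :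
    Cyc.IsZeroSchemeOf i L (u.app ⊤ (1 : Γ(W, ⊤))) := by
  refine isZeroSchemeOf_of_local u InvX.isInvertible_structureModule hL i hi _ fun w => ?_
  obtain ⟨U, hwU, e, he⟩ := InvX.exists_frame hL w
  obtain ⟨c, hc⟩ := he.exists_coord le_rfl (u.app U (1 : Γ(W, U)))
  rw [AModX.res_self] at hc
  refine ⟨U, _, e, e, c, hwU, InvX.isFrame_one U, he, he, hc, ?_⟩
  rw [← AModX.app_res, ← hc]
  exact congrArg (u.app U) (map_one (W.presheaf.map (homOfLE (le_top : U ≤ ⊤)).op).hom)

end Groth.Agent.H9PB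

end
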