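import Groth.Agent.H9PB.ChernClass
import Groth.Agent.H9PB.ZeroScheme
import Groth.Agent.H9PB.Regular
import Groth.Agent.GrassSch.Epi
import Groth.Agent.CurveBC.Coh
import Groth.Agent.H23.CapFlat
import Groth.Agent.H23.GysinComm

/-! The projective bundle of a quotient by a trivial line, and its Chern classes. -/

set_option autoImplicit false
set_option linter.style.haveILetI false
set_option linter.unusedSectionVars false
set_option backward.isDefEq.respectTransparency false
set_option backward.isDefEq.respectTransparency.types false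
set_option maxHeartbeats 1000000
set_option synthInstance.maxHeartbeats 400000

universe u

open CategoryTheory CategoryTheory.Limits AlgebraicGeometry TopologicalSpace Opposite

attribute [-instance] CategoryTheory.catToReflQuiver

noncomputable section

namespace Groth.Agent.H9PB

open Groth.Agent Groth.Agent.QuotRep Groth.Agent.GrassSch

variable {X G G₂ : Scheme.{u}} {E₁ E E₂ : X.Modules} {π : G ⟶ X} {π₂ : G₂ ⟶ X} {Q : G.Modules} {Q₂ : G₂.Modules}
  {q : (Scheme.Modules.pullback π).obj E ⟶ Q} {q₂ : (Scheme.Modules.pullback π₂).obj E₂ ⟶ Q₂} {r : ℕ}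

/-- The sub-bundle of a quotient module is where the kernel goes to zero. -/
theorem vanish_iff_factor (a : E₁ ⟶ E) (b : E ⟶ E₂) [Epi b] (hab : a ≫ b = 0)
    (hcok : IsColimit (CokernelCofork.ofπ b hab)) (hG : Grass.IsGrass π E r Q q)
    (hG₂ : Grass.IsGrass π₂ E₂ r Q₂ q₂) {h : G₂ ⟶ G}
    (hc : IsClass π q ((Scheme.Modules.pullback π₂).map b ≫ q₂) h) {T : Scheme.{u}} (x : T ⟶ G) :
    (Scheme.Modules.pullback x).map ((Scheme.Modules.pullback π).map a ≫ q) = 0 ↔ ∃ z, z ≫ h = x := by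
  haveI := hG.epi
  haveI := hG₂.epi
  haveI : Epi ((Scheme.Modules.pullback π₂).map b) := Grass.epi_pullback_map π₂ b
  let g := x ≫ π
  let t := pullQ x π g rfl q
  have key : (Scheme.Modules.pullback x).map ((Scheme.Modules.pullback π).map a ≫ q) = 0 ↔
      (Scheme.Modules.pullback g).map a ≫ t = 0 := by
    rw [map_comp_pullQ, pullQ]
    exact ⟨fun h => by rw [h, comp_zero],
      fun h => by rwa [← cancel_epi ((LimMod.trIso x π g rfl).inv.app E₁), comp_zero]⟩
  rw [key]
  haveI : Epi t := epi_pullQ _ _ _ _ _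
  haveI := (Scheme.Modules.pullbackPushforwardAdjunction g).isLeftAdjoint
  constructor
  · intro h0
    obtain ⟨s₂, hs₂⟩ := CokernelCofork.IsColimit.desc' (CokernelCofork.mapIsColimit _ hcok
      (Scheme.Modules.pullback g)) t h0
    replace hs₂ : (Scheme.Modules.pullback g).map b ≫ s₂ = t := hs₂
    haveI : Epi ((Scheme.Modules.pullback g).map b ≫ s₂) := by rw [hs₂]; infer_instance
    haveI : Epi s₂ := epi_of_epi ((Scheme.Modules.pullback g).map b) s₂
    have hLr : FlatMod.IsFinLocFreeOfRank r ((Scheme.Modules.pullback x).obj Q) :=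
      KRRReg.isFinLocFreeOfRank_pullback x hG.rank
    obtain ⟨z, ⟨hz, hzs⟩, -⟩ := existsUnique_class hG₂ hLr s₂
    refine ⟨z, (existsUnique_class hG hLr t).unique ?_ ⟨rfl, Iso.refl _, Category.comp_id _⟩⟩
    refine (hc.comp z g hz).of_sameQ ?_
    rw [← map_comp_pullQ, ← hs₂]
    exact SameQ.comp _ hzs
  · rintro ⟨z, rfl⟩
    obtain ⟨hh, e, he⟩ := hc
    have hz : z ≫ π₂ = g := by rw [← hh, ← Category.assoc]
    have h1 : SameQ t ((Scheme.Modules.pullback g).map b ≫ pullQ z π₂ g hz q₂) := by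
      rw [map_comp_pullQ]
      exact (sameQ_pullQ_pullQ z h π π₂ hh g hz (z ≫ h) rfl q).symm.trans (SameQ.pullQ z g hz ⟨e, he⟩)
    obtain ⟨e', he'⟩ := h1
    rw [← cancel_mono e'.hom, Category.assoc, he', ← Category.assoc, ← Functor.map_comp, hab, Functor.map_zero,
      zero_comp, zero_comp]

/-- The quotient bundle as a divisor in the bundle. -/
theorem exists_quotient_divisor {n : ℕ} (hE : FlatMod.IsFinLocFreeOfRank (n + 1) E)
    (hE₂ : FlatMod.IsFinLocFreeOfRank n E₂) (hP : KRR.IsProjBundle π E Q q) (hP₂ : KRR.IsProjBundle π₂ E₂ Q₂ q₂)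
    (a : Coh.structureModule X ⟶ E) (b : E ⟶ E₂) (hab : a ≫ b = 0) (hex : (ShortComplex.mk a b hab).ShortExact) :
    ∃ (h : G₂ ⟶ G) (_ : IsClosedImmersion h) (s : Q.presheaf.obj (Opposite.op ⊤)),
      h ≫ π = π₂ ∧ Nonempty ((Scheme.Modules.pullback h).obj Q ≅ Q₂) ∧ Cyc.IsZeroSchemeOf h Q s := by
  have hG := Grass.IsGrass.of_isProjBundle hP
  have hG₂ := Grass.IsGrass.of_isProjBundle hP₂
  haveI : Epi b := hex.epi_g
  haveI := hP.epi
  haveI := hP₂.epi
  haveI : Epi ((Scheme.Modules.pullback π₂).map b) := Grass.epi_pullback_map π₂ b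
  obtain ⟨h, hc, -⟩ := existsUnique_class hG hP₂.invertible ((Scheme.Modules.pullback π₂).map b ≫ q₂)
  haveI := isClosedImmersion_of_isClass (qcoh_ft hE).1 (qcoh_ft hE₂).1 b hG hG₂ hc
  let e₀ := CurveBC.unitIso π
  let u : Coh.structureModule G ⟶ Q := e₀.inv ≫ (Scheme.Modules.pullback π).map a ≫ q
  have hcok : IsColimit (CokernelCofork.ofπ b hab) := hex.gIsCokernel
  obtain ⟨hh, e, -⟩ := id hc
  refine ⟨h, inferInstance, u.app ⊤ (1 : Γ(G, ⊤)), hh, ⟨e⟩, ?_⟩
  refine isZeroSchemeOf_of_vanish u (Model.isInvertible_of_rank hP.invertible) h fun {T} x => ?_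
  rw [← vanish_iff_factor a b hab hcok hG hG₂ hc x]
  show (Scheme.Modules.pullback x).map (e₀.inv ≫ _) = 0 ↔ _
  rw [Functor.map_comp, ← cancel_epi ((Scheme.Modules.pullback x).map e₀.inv), comp_zero]

end Groth.Agent.H9PB

end
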