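import Groth.Agent.H9PB.SegreOp
import Groth.Agent.H9PB.SegreSolve
import Groth.Agent.H9PB.CutDivisor
import Groth.Agent.InvX.Tensor
import Groth.Agent.CycLib.Push

/-! The class of a subbundle in a vector bundle. -/

set_option autoImplicit false
set_option linter.style.haveILetI false
set_option linter.unusedSectionVars false
set_option backward.isDefEq.respectTransparency false
set_option backward.isDefEq.respectTransparency.types false
set_option maxHeartbeats 3200000
set_option synthInstance.maxHeartbeats 200000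

universe u

open CategoryTheory CategoryTheory.Limits AlgebraicGeometry TopologicalSpace Opposite

attribute [-instance] CategoryTheory.catToReflQuiver

noncomputable section

namespace Groth.Agent.H9PB

open Groth.Agent Groth.Agent.QuotRep Groth.Agent.GrassSch

variable {X : Scheme.{u}}

/-- The canonical identifications commute with a map of algebras. -/
theorem algHom_specMap {A A' : RelSpec.QCAlg X} (φ : A ⟶ A') :
    AffAlg.algHom A.π A'.π (RelSpec.QCAlg.specMap φ) (RelSpec.QCAlg.specMap_π φ) ≫ A'.gammaMap =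
      A.gammaMap ≫ φ.hom := by
  apply (Functor.IsCoverDense.restrictHomEquivHom (G := Scheme.AffineZariskiSite.toOpensFunctor X)
    (K := Opens.grothendieckTopology X) (ℱ := A.π.base _* A.spec.presheaf)
    (ℱ' := (⟨A'.presheaf, A'.isSheaf⟩ : TopCat.Sheaf CommRingCat.{u} X.carrier))).symm.injective
  ext U : 2
  obtain ⟨U⟩ := U
  let i := RelSpec.QCAlg.specMap φ
  let V := A.π ⁻¹ᵁ U.1
  change (AffAlg.algHom A.π A'.π i (RelSpec.QCAlg.specMap_π φ)).app (op U.1) ≫ A'.gammaMap.app (op U.1) =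
    A.gammaMap.app (op U.1) ≫ φ.hom.app (op U.1)
  rw [A.gammaMap_app U.1 U.2, A'.gammaMap_app U.1 U.2, RelSpecX.algHom_app]
  have hc : ∀ {f g : Spec (A'.presheaf.obj (op U.1)) ⟶ A.spec} (_ : f = g) (h1 : ⊤ ≤ f ⁻¹ᵁ V) (h2 : ⊤ ≤ g ⁻¹ᵁ V),
      f.appLE V ⊤ h1 = g.appLE V ⊤ h2 := by
    rintro f g rfl h1 h2; rfl
  simp only [RelSpec.QCAlg.gammaAff, Category.assoc]
  rw [Scheme.Hom.appLE_comp_appLE_assoc,
    reassoc_of% (hc (RelSpec.QCAlg.ι_specMap U.1 U.2 φ) _ (fun x _ => A.top_le_preimage U.1 U.2 trivial)),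
    ← Scheme.ΓSpecIso_naturality, ← Category.assoc]
  congr 1

namespace VB

variable {M M' : X.Modules}

/-- The tautological form restricts along a map of bundles. -/
theorem pullForm_uForm {A A' : RelSpec.QCAlg X} {j : M ⟶ A.toModule} {j' : M' ⟶ A'.toModule} (φ : A ⟶ A')
    (c : M ⟶ M') (hφ : j ≫ RelSpec.QCAlg.Hom.toModuleMap φ = c ≫ j') :
    pullForm (RelSpec.QCAlg.specMap φ) (RelSpec.QCAlg.specMap_π φ) (uForm A j) =
      (Scheme.Modules.pullback A'.π).map c ≫ uForm A' j' := by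
  refine form_ext A'.π fun U x => ?_
  rw [fsec_pullForm, fsec_uForm]
  have h1 : fsec A'.π ((Scheme.Modules.pullback A'.π).map c ≫ uForm A' j') U x = fsec A'.π (uForm A' j') U (c.app U x) :=
    congrArg ((uForm A' j').app (A'.π ⁻¹ᵁ U)) (ExistEasy.pullSec_natural A'.π c le_rfl x)
  rw [h1, fsec_uForm]
  haveI : IsIso (A'.gammaMap.app (op U)) := inferInstanceAs (IsIso ((asIso A'.gammaMap).app (op U)).hom)
  apply (ConcreteCategory.bijective_of_isIso (A'.gammaMap.app (op U))).1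
  have h2 := congr($(NatTrans.congr_app (algHom_specMap φ) (op U)) ((inv A.gammaMap).app (op U) (j.app U x)))
  rw [NatTrans.comp_app, NatTrans.comp_app, RelSpecX.algHom_app] at h2
  have h3 : ∀ (B : RelSpec.QCAlg X) (y : B.presheaf.obj (op U)),
      B.gammaMap.app (op U) ((inv B.gammaMap).app (op U) y) = y := fun B y =>
    congr($(NatTrans.congr_app (IsIso.inv_hom_id B.gammaMap) (op U)) y)
  simp only [CommRingCat.comp_apply] at h2
  erw [h2, h3]
  rw [h3]
  exact congrArg (fun t : M ⟶ A'.toModule => t.app U x) hφ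

end VB

/-- A projective bundle transports along an isomorphism of the tautological bundle. -/
theorem isProjBundle_iso {P : Scheme.{u}} {p : P ⟶ X} {G : X.Modules} {O1 O1' : P.Modules}
    {q : (Scheme.Modules.pullback p).obj G ⟶ O1} (hP : KRR.IsProjBundle p G O1 q) (e : O1 ≅ O1') :
    KRR.IsProjBundle p G O1' (q ≫ e.hom) where
  invertible := (ConsPropLib.isFinLocFreeOfRank_iso e).1 hP.invertible
  epi := haveI := hP.epi; inferInstance
  univ T g L hL s hs := by
    obtain ⟨h, ⟨hg, e₁, he₁⟩, huniq⟩ := hP.univ T g L hL s hs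
    refine ⟨h, ⟨hg, (Scheme.Modules.pullback h).mapIso e.symm ≪≫ e₁, ?_⟩, ?_⟩
    · simp only [Functor.map_comp, Iso.trans_hom, Functor.mapIso_hom, Iso.symm_hom, Category.assoc]
      rw [← Functor.map_comp_assoc _ e.hom e.inv, Iso.hom_inv_id, CategoryTheory.Functor.map_id, Category.id_comp, he₁]
    · rintro h' ⟨hg', e', he'⟩
      refine huniq h' ⟨hg', (Scheme.Modules.pullback h').mapIso e ≪≫ e', ?_⟩
      simp only [Functor.map_comp, Category.assoc] at he'
      simp only [Iso.trans_hom, Functor.mapIso_hom]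
      exact he'

/-- The class of a subbundle in the ambient bundle is the top Chern class of the quotient. -/
theorem push_pullback_ratEquiv {δ : X → ℤ} (hX : Cyc.IsSetup X δ) {r' e : ℕ} {N' N E M M' : X.Modules}
    (hN' : FlatMod.IsFinLocFreeOfRank r' N') (hN : FlatMod.IsFinLocFreeOfRank (r' + e) N)
    (hE : FlatMod.IsFinLocFreeOfRank e E) (a : N' ⟶ N) (b : N ⟶ E) (hab : a ≫ b = 0)
    (hex : (ShortComplex.mk a b hab).ShortExact) (c : M ⟶ M') [Epi c] (ε : M ≅ dualM N) (ε' : M' ≅ dualM N')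
    (A : RelSpec.QCAlg X) {j : M ⟶ A.toModule} (hA : RelSpec.IsSymAlg M A j)
    (A' : RelSpec.QCAlg X) {j' : M' ⟶ A'.toModule} (hA' : RelSpec.IsSymAlg M' A' j') (φ : A ⟶ A')
    (hφ : j ≫ RelSpec.QCAlg.Hom.toModuleMap φ = c ≫ j') [IsClosedImmersion (RelSpec.QCAlg.specMap φ)]
    {δV : A.spec → ℤ} (hV : Cyc.IsSetup A.spec δV) (hpδ : Cyc.DeltaCompat A.π δV δ) {δV' : A'.spec → ℤ}
    (hp'δ : Cyc.DeltaCompat A'.π δV' δ) {k : ℤ} {α : AlgebraicCycle X ℤ} (hα : α ∈ Cyc.Zk X δ k)
    {γ : Fin (e + 1) → AlgebraicCycle X ℤ} (hγ : IsCapR E e δ k α γ) {β' : AlgebraicCycle A'.spec ℤ}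
    (hβ' : ⇑β' = Cyc.pullFun A'.π δV' δ (r' : ℤ) ⇑α) {β : AlgebraicCycle A.spec ℤ}
    (hβ : ⇑β = Cyc.pullFun A.π δV δ ((r' : ℤ) + e) ⇑(γ (Fin.last e))) :
    Cyc.RatEquiv δV (k + r') (AlgebraicCycle.map (RelSpec.QCAlg.specMap φ) δV' δV β') β := by
  classical
  haveI := hX.1
  haveI := hV.1
  let i := RelSpec.QCAlg.specMap φ
  have hi : i ≫ A.π = A'.π := RelSpec.QCAlg.specMap_π φ
  have h1 := InvEnd.isFinLocFreeOfRank_one (InvX.isInvertible_structureModule (X := X))
  have hM : FlatMod.IsFinLocFreeOfRank (r' + e) M := (ConsPropLib.isFinLocFreeOfRank_iso ε.symm).1 (isFinLocFreeOfRank_dual hN)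
  have hM' : FlatMod.IsFinLocFreeOfRank r' M' := (ConsPropLib.isFinLocFreeOfRank_iso ε'.symm).1 (isFinLocFreeOfRank_dual hN')
  have hbp : ∀ {r : ℕ} {G : X.Modules}, FlatMod.IsFinLocFreeOfRank r G →
      FlatMod.IsFinLocFreeOfRank (r + 1) (G ⊞ Coh.structureModule X) := fun {r G} hG =>
    isFinLocFreeOfRank_extension (ShortComplex.Splitting.ofHasBinaryBiproduct G (Coh.structureModule X)).shortExact hG h1
  have hMO := hbp hM
  have hMO' := hbp hM'
  obtain ⟨P, p, O1, q, hP⟩ := exists_bundle hMO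
  haveI := isProper_of_isProjBundle hP hMO
  obtain ⟨H, p₂, O₂, q₂, hP₂⟩ := exists_bundle hMO'
  haveI := isProper_of_isProjBundle hP₂ hMO'
  have hG := Grass.IsGrass.of_isProjBundle hP
  have hG₂ := Grass.IsGrass.of_isProjBundle hP₂
  haveI := hP.epi
  haveI := hP₂.epi
  let b' : M ⊞ Coh.structureModule X ⟶ M' ⊞ Coh.structureModule X := biprod.map c (𝟙 _)
  haveI : Epi b' := inferInstanceAs (Epi (biprod.map c (𝟙 _)))
  haveI : Epi ((Scheme.Modules.pullback p₂).map b') := Grass.epi_pullback_map p₂ b'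
  obtain ⟨h, hhc, -⟩ := existsUnique_class hG hP₂.invertible ((Scheme.Modules.pullback p₂).map b' ≫ q₂)
  haveI := isClosedImmersion_of_isClass (qcoh_ft hMO).1 (qcoh_ft hMO').1 b' hG hG₂ hhc
  obtain ⟨hh, eQ, heQ⟩ := id hhc
  let u : Coh.structureModule P ⟶ O1 := (CurveBC.unitIso p).inv ≫ (Scheme.Modules.pullback p).map biprod.inr ≫ q
  let u₂ : Coh.structureModule H ⟶ O₂ := (CurveBC.unitIso p₂).inv ≫ (Scheme.Modules.pullback p₂).map biprod.inr ≫ q₂
  obtain ⟨jE, hjE, hjp, hrange, hjc⟩ := VB.exists_completion' A hA hP u rfl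
  obtain ⟨jE', hjE', hjp', hrange', hjc'⟩ := VB.exists_completion' A' hA' hP₂ u₂ rfl
  haveI := hjE
  haveI := hjE'
  have hO : PicF.IsInvertible O1 := Model.isInvertible_of_rank hP.invertible
  have hsq : jE' ≫ h = i ≫ jE := by
    have hrk : FlatMod.IsFinLocFreeOfRank 1 (Coh.structureModule A'.spec) :=
      InvEnd.isFinLocFreeOfRank_one InvX.isInvertible_structureModule
    let θ := (Scheme.Modules.pullback A'.π).map c ≫ VB.uForm A' j'
    haveI := VB.epi_sE A'.π θ
    refine (existsUnique_class hG hrk (VB.sE A'.π θ)).unique ?_ ?_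
    · obtain ⟨hg', e', he'⟩ := id hjc'
      refine (hhc.comp jE' A'.π hjp').of_sameQ ⟨e', ?_⟩
      rw [← map_comp_pullQ, Category.assoc, he']
      refine VB.sE_ext A'.π ?_ ?_
      · rw [← Functor.map_comp_assoc, biprod.inl_map, Functor.map_comp_assoc, VB.inl_sE, VB.inl_sE]
      · rw [← Functor.map_comp_assoc, biprod.inr_map, Category.id_comp, VB.inr_sE, VB.inr_sE]
    · exact (hjc.comp i A'.π hi).of_sameQ ⟨CurveBC.unitIso i, by rw [VB.pullQ_sE, VB.pullForm_uForm φ c hφ]⟩
  have hu : (CurveBC.unitIso h).inv ≫ (Scheme.Modules.pullback h).map u ≫ eQ.hom = u₂ := by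
    have h0 : (Scheme.Modules.pullback p₂).map biprod.inr ≫ pullQ h p p₂ hh q ≫ eQ.hom =
        (Scheme.Modules.pullback p₂).map biprod.inr ≫ q₂ := by
      rw [heQ, ← Functor.map_comp_assoc, biprod.inr_map, Category.id_comp]
    have h2 : (Scheme.Modules.pullback p).map biprod.inr ≫ q = (CurveBC.unitIso p).hom ≫ u :=
      (Iso.hom_inv_id_assoc _ _).symm
    have h3 : pullQ h p p₂ hh (CurveBC.unitIso p).hom ≫ (CurveBC.unitIso h).hom = (CurveBC.unitIso p₂).hom :=
      VB.pullForm_unitIso h hh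
    rw [← Category.assoc, map_comp_pullQ, h2, pullQ, Functor.map_comp, ← Category.assoc (f := (LimMod.trIso h p p₂ hh).inv.app _),
      show (LimMod.trIso h p p₂ hh).inv.app _ ≫ (Scheme.Modules.pullback h).map (CurveBC.unitIso p).hom =
        (CurveBC.unitIso p₂).hom ≫ (CurveBC.unitIso h).inv from (Iso.eq_comp_inv _).2 h3] at h0
    simp only [Category.assoc] at h0
    show _ = (CurveBC.unitIso p₂).inv ≫ _
    rw [← h0, Iso.inv_hom_id_assoc]
  have hmem : ∀ d, h d ∈ Set.range jE → d ∈ Set.range jE' := by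
    intro d hd
    rw [hrange] at hd
    rw [hrange', ← hu, ← Category.assoc, InvX.genLocus_comp_iso]
    exact (InvX.genLocus_pullback h hO u (CurveBC.unitIso h).symm).ge hd
  have hP₂' : KRR.IsProjBundle p₂ (M' ⊞ Coh.structureModule X) ((Scheme.Modules.pullback h).obj O1)
      (q₂ ≫ eQ.inv) := isProjBundle_iso hP₂ eQ.symm
  have hfr : Charted p O1 (r' + e) := charted_of_isProjBundle hP hMO
  have hfrH : Charted p₂ ((Scheme.Modules.pullback h).obj O1) r' := charted_of_isProjBundle hP₂' hMO'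
  let δP : P → ℤ := fun x => δ (p x) + FibDim.rd p x
  have hδ : Cyc.DeltaCompat p δP δ := H23.ChowDesc.deltaCompat_rd p δ
  have hPs := H23.SetupLFT.isSetup p hX hδ
  let δH : H → ℤ := fun d => δP (h d)
  have hδh : Cyc.DeltaCompat h δH δP := H23.GysinLib.deltaCompat_closedImmersion h δP
  have hHs : Cyc.IsSetup H δH := H23.SetupLFT.isSetup h hPs hδh
  have hδH : Cyc.DeltaCompat p₂ δH δ := by
    have h5 := CycLib.deltaCompat_closedImmersion_comp h p hδ
    subst hh
    exact h5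
  haveI := hPs.1
  haveI := hHs.1
  have hO' := PicClLib.isInvertible_pullback h hO
  let t := hfr.sec hO
  have ht := hfr.sec_ne_zero hO
  let w := pushAdd h δH δP (hfrH.pullAdd hX hHs hδH α)
  have hw : w ∈ Cyc.Zk P δP (k - (e : ℤ) + ((r' + e : ℕ) : ℤ)) := by
    rw [show k - (e : ℤ) + ((r' + e : ℕ) : ℤ) = k + r' by push_cast; ring]
    exact pushAdd_mem h δH δP (hfrH.pullAdd_mem hX hHs hδH hα)
  obtain ⟨d, hd, hrel⟩ := hfr.exists_combo hO hX hPs hδ (fun _ => t) (fun _ => ht) (k - (e : ℤ)) w hw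
  rw [Charted.combo_apply, show k - (e : ℤ) + ((r' + e : ℕ) : ℤ) = k + r' by push_cast; ring] at hrel
  -- the series
  have hserM : serA hX hMO = serC hX hE * serC hX hN' :=
    (serA_biprod hX hM hMO).trans (serA_dual_mul hX hN' hN hE (Nat.add_comm r' e) a b hab hex hM ε)
  have hserM' : serA hX hMO' = serC hX hN' := by
    refine (serA_biprod hX hM' hMO').trans (PowerSeries.ext fun m => ?_)
    simp only [serA, serC, PowerSeries.coeff_mk]
    have hD := isFinLocFreeOfRank_dual hN'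
    rw [← coeff_totC hX hM', totC_iso hX hM' hD ε' rfl, coeff_totC, opC_dual hX hN' hD, smul_smul,
      ← mul_pow]
    simp
  have hS1 := serA_mul_serS hMO hP hX hPs hδ hfr hO
  have hS2 := serA_mul_serS hMO' hP₂' hX hHs hδH hfrH hO'
  rw [hserM] at hS1
  rw [hserM'] at hS2
  have hT := serS_mul_eq (constantCoeff_serC hX hN') (constantCoeff_serC hX hE) hS1 hS2
  obtain ⟨x, hx⟩ := Rep.single (X := X) (δ := δ) hα
  have hc : Rep ((PowerSeries.coeff e (serC hX hE) : AddMonoid.End (GCH X δ)) x) (k - (e : ℤ)) (γ (Fin.last e)) := by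
    rw [serC, PowerSeries.coeff_mk]
    exact rep_opC hX hE hx hγ (Fin.last e)
  have h0 := combo_zero hfr hO hX hPs hδ h hh hfrH hHs hδH rfl (serC hX hE) hT hα hx hc d hd hrel
  -- restriction to the bundle
  haveI : LocallyOfFiniteType A.π := hjp ▸ inferInstance
  haveI : LocallyOfFiniteType A'.π := hjp' ▸ inferInstance
  have hδj : ∀ v, δV v = δP (jE v) := fun v => by
    rw [CycLib.deltaCompat_eq A.π hpδ v, CycLib.deltaCompat_eq p hδ (jE v)]
    simp only [← hjp]
    rw [CycLib.rd_comp jE p v, rd_openImmersion jE v, add_zero, Scheme.Hom.comp_apply]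
  have hsq' : ∀ v, jE (i v) = h (jE' v) := fun v => by
    rw [← Scheme.Hom.comp_apply, ← Scheme.Hom.comp_apply, hsq]
  have hδj' : ∀ v, δV' v = δV (i v) := fun v => by
    rw [hδj, hsq', CycLib.deltaCompat_eq A'.π hp'δ v, show δP (h (jE' v)) = δH (jE' v) from rfl,
      CycLib.deltaCompat_eq p₂ hδH (jE' v)]
    simp only [← hjp']
    rw [CycLib.rd_comp jE' p₂ v, rd_openImmersion jE' v, add_zero, Scheme.Hom.comp_apply]
  have hshift : H23.FlatShift.HasShift jE δV δP 0 := fun v _ => by rw [hδj, add_zero]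
  let J := flatAdd jE hshift hV.2.2
  have hJ : ∀ c v, J c v = c (jE v) := fun c v => by
    rw [coe_flatAdd, Cyc.pullFun, if_pos (by rw [hδj, add_zero]), length_openImmersion jE v]
    simp
  have hJw : J w = AlgebraicCycle.map i δV' δV β' := by
    refine DFunLike.ext _ _ fun v => ?_
    rw [hJ, show δV' = fun z => δV (i z) from funext hδj']
    by_cases hv : v ∈ Set.range i
    · obtain ⟨v', rfl⟩ := hv
      rw [CycLib.map_preimmersion_apply i δV β' v', hsq']
      refine (CycLib.map_preimmersion_apply h δP _ (jE' v')).trans ?_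
      rw [Charted.coe_pullAdd, hβ', show δV' = fun z => δH (jE' z) from funext fun z => by
        rw [hδj', hδj, hsq']]
      exact (pullFun_openImmersion jE' p₂ A'.π hjp' δH δ r' ⇑α v').symm
    · rw [CycLib.map_apply_not_range i _ δV β' hv]
      refine CycLib.map_apply_not_range h δH δP _ fun ⟨d', hd'⟩ => hv ?_
      obtain ⟨v', rfl⟩ := hmem d' ⟨v, hd'.symm⟩
      exact ⟨v', jE.isOpenEmbedding.injective (by rw [hsq', hd'])⟩
  have hlast : γ (Fin.last e) ∈ Cyc.Zk X δ (k - (e : ℤ)) := by simpa using hγ.mem hE hX (Fin.last e)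
  have hJβ : J (hfr.pullAdd hX hPs hδ (γ (Fin.last e))) = β := by
    refine DFunLike.ext _ _ fun v => ?_
    rw [hJ, Charted.coe_pullAdd, hβ, show δV = fun z => δP (jE z) from funext hδj,
      show ((r' + e : ℕ) : ℤ) = (r' : ℤ) + e by push_cast; ring]
    exact (pullFun_openImmersion jE p A.π hjp δP δ _ ⇑(γ (Fin.last e)) v).symm
  have e₀ : (Scheme.Modules.pullback jE).obj O1 ≅ Coh.structureModule A.spec := hjc.2.choose
  have h1 := flatAdd_ratSub jE hshift hV.2.2 hPs hV hrel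
  rw [map_sub, map_sum, Fin.sum_univ_succ, add_zero] at h1
  change J w - _ ∈ _ at h1
  rw [hJw] at h1
  have h2 : J (hfr.pullAdd hX hPs hδ (d 0 - γ (Fin.last e))) ∈ ratSub hV (k + r') := by
    have hm : d 0 - γ (Fin.last e) ∈ Cyc.Zk X δ (k - (e : ℤ)) :=
      sub_mem (S := AddSubgroup _) (H := ChowOps.zk X δ _) (show d 0 ∈ Cyc.Zk X δ (k - (e : ℤ)) by simpa using hd 0) hlast
    have h2 := flatAdd_ratSub jE hshift hV.2.2 hPs hV (hfr.term_ratSub hO hX hPs hδ hm h0 0)
    rwa [show k - (e : ℤ) + ((r' + e : ℕ) : ℤ) - ((0 : ℕ) : ℤ) + 0 = k + r' by push_cast; ring] at h2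
  rw [map_sub, map_sub, hJβ] at h2
  have h3 : ∀ l : Fin (r' + e), J (powHom hO hPs.2.2 t ht ((l.succ : Fin (r' + e + 1)) : ℕ)
      (hfr.pullAdd hX hPs hδ (d l.succ))) ∈ ratSub hV (k + r') := by
    intro l
    rw [show ((l.succ : Fin (r' + e + 1)) : ℕ) = (l : ℕ) + 1 from Fin.val_succ l,
      flatAdd_powHom jE hshift hV.2.2 hO hPs.2.2]
    have hmem' := flatAdd_mem jE hshift hV.2.2 (hfr.pullAdd_mem hX hPs hδ (hd l.succ))
    have := cap1_trivial hV (PicClLib.isInvertible_pullback jE hO) e₀ _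
      (H23.C1Pull.vPull_ne_zero hO (ht (l : ℕ)))
      (powHom_mem (PicClLib.isInvertible_pullback jE hO) hV.2.2 (fun i => H23.C1Pull.vPull jE O1 (t i))
        (fun i => H23.C1Pull.vPull_ne_zero hO (ht i)) hmem' (l : ℕ))
    rw [show k - (e : ℤ) + (((l.succ : Fin (r' + e + 1)) : ℕ) : ℤ) + ((r' + e : ℕ) : ℤ) + 0 - ((l : ℕ) : ℤ) - 1 = k + r' by
      rw [Fin.val_succ]; push_cast; ring] at this
    exact this
  have h4 := add_mem (add_mem h1 h2) (sum_mem fun l (_ : l ∈ Finset.univ) => h3 l)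
  show AlgebraicCycle.map i δV' δV β' - β ∈ ratSub hV (k + r')
  convert h4 using 1
  simp only [Fin.val_zero, powHom]
  show _ = _ - (J (hfr.pullAdd hX hPs hδ (d 0)) + _) + _ + _
  abel

end Groth.Agent.H9PB

end
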