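import Groth.Agent.H9PB.ChernOp
import Groth.Agent.H9PB.Split

/-! The Whitney formula. -/

set_option autoImplicit false
set_option linter.style.haveILetI false
set_option linter.unusedSectionVars false
set_option backward.isDefEq.respectTransparency false
set_option backward.isDefEq.respectTransparency.types false
set_option maxHeartbeats 800000

universe u

open AlgebraicGeometry CategoryTheory CategoryTheory.Limits Polynomial

namespace Groth.Agent.H9PB

open Groth.Agent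

section Filtered

variable {X : Scheme.{u}} {δ : X → ℤ}

theorem IsFiltered.rank : ∀ {r : ℕ} {G : X.Modules}, IsFiltered r G → FlatMod.IsFinLocFreeOfRank r G
  | 0, _, h => isFinLocFreeOfRank_zero_of_isZero h
  | _ + 1, _, ⟨_, _, _, _, _, hse, hL, hF⟩ =>
    isFinLocFreeOfRank_extension hse hF.rank (InvEnd.isFinLocFreeOfRank_one hL)

variable (hX : Cyc.IsSetup X δ)

include hX in
theorem whitney_of_filtered : ∀ {r₁ : ℕ} {E₁ : X.Modules}, IsFiltered r₁ E₁ →
    ∀ (hE₁ : FlatMod.IsFinLocFreeOfRank r₁ E₁) {r₂ : ℕ} {E E₂ : X.Modules}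
      (hE₂ : FlatMod.IsFinLocFreeOfRank r₂ E₂) (hE : FlatMod.IsFinLocFreeOfRank (r₁ + r₂) E)
      (a : E₁ ⟶ E) (b : E ⟶ E₂) (hab : a ≫ b = 0), (ShortComplex.mk a b hab).ShortExact →
      totC hX hE = totC hX hE₁ * totC hX hE₂
  | 0, E₁, h0, hE₁, r₂, E, E₂, hE₂, hE, a, b, hab, hse => by
    haveI : IsIso b := hse.isIso_g_iff.2 h0
    rw [totC_of_rank_zero, one_mul]
    exact totC_iso hX hE hE₂ (asIso b) (Nat.zero_add r₂)
  | r + 1, E₁, ⟨F, L, a₁, b₁, hab₁, hse₁, hL, hF⟩, hE₁, r₂, E, E₂, hE₂, hE, a, b, hab, hse => by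
    haveI : Mono a := hse.mono_f
    haveI : Mono a₁ := hse₁.mono_f
    obtain ⟨l, g, hg, hseQ⟩ := exists_cokernel_sequence a₁ b₁ hab₁ hse₁ a
    let e : cokernel a ≅ E₂ := (cokernelIsCokernel a).coconePointUniqueUpToIso hse.gIsCokernel
    have hca : FlatMod.IsFinLocFreeOfRank r₂ (cokernel a) := (ConsPropLib.isFinLocFreeOfRank_iso e.symm).1 hE₂
    have hQ : FlatMod.IsFinLocFreeOfRank (1 + r₂) (cokernel (a₁ ≫ a)) :=
      isFinLocFreeOfRank_extension hseQ (InvEnd.isFinLocFreeOfRank_one hL) hca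
    have hQ' : FlatMod.IsFinLocFreeOfRank (r₂ + 1) (cokernel (a₁ ≫ a)) := by rwa [add_comm]
    have hE' : FlatMod.IsFinLocFreeOfRank (r + (r₂ + 1)) E := by
      rwa [show r + (r₂ + 1) = r + 1 + r₂ by omega]
    have hseE : (ShortComplex.mk (a₁ ≫ a) (cokernel.π (a₁ ≫ a)) (cokernel.condition _)).ShortExact :=
      { exact := ShortComplex.exact_cokernel _ }
    rw [totC_iso hX hE hE' (Iso.refl E) (by omega),
      whitney_of_filtered hF hF.rank hQ' hE' (a₁ ≫ a) _ _ hseE,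
      totC_extend hX hQ' hca hL l g hg hseQ, totC_iso hX hca hE₂ e rfl,
      whitney_of_filtered hF hF.rank (InvEnd.isFinLocFreeOfRank_one hL) hE₁ a₁ b₁ hab₁ hse₁,
      totC_line hX hL, mul_assoc]

include hX in
/-- The total class of a filtered module is a product of line classes. -/
theorem totC_filtered_succ {r : ℕ} {E₁ F L : X.Modules} (hF : IsFiltered r F) (hL : PicF.IsInvertible L)
    (hE₁ : FlatMod.IsFinLocFreeOfRank (r + 1) E₁) (a : F ⟶ E₁) (b : E₁ ⟶ L) (hab : a ≫ b = 0)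
    (hse : (ShortComplex.mk a b hab).ShortExact) : totC hX hE₁ = totC hX hF.rank * lineC hX hL := by
  rw [whitney_of_filtered hX hF hF.rank (InvEnd.isFinLocFreeOfRank_one hL) hE₁ a b hab hse, totC_line hX hL]

end Filtered

section Pull

variable {P X : Scheme.{u}} (π : P ⟶ X) [Flat π] [LocallyOfFiniteType π] {δ : X → ℤ} {δP : P → ℤ}
  (hX : Cyc.IsSetup X δ) (hP : Cyc.IsSetup P δP) (hπ : Cyc.DeltaCompat π δP δ) {d : ℕ} (hd : Cyc.HasRelDim π d)

/-- Pull-back on Chow classes. -/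
noncomputable def pullCH (k : ℤ) : ChowOps.CH X δ k →+ ChowOps.CH P δP (k + d) :=
  haveI := hX.1
  haveI := hP.1
  let F := flatAdd π (H23.FlatShift.hasShift_of_hasRelDim π hd hπ) hP.2.2
  have hF : ∀ a : ↥(ChowOps.zk X δ k), F a ∈ Cyc.Zk P δP (k + d) :=
    fun a => flatAdd_mem π (H23.FlatShift.hasShift_of_hasRelDim π hd hπ) hP.2.2 a.2
  H23.ChowDesc.lift (AddMonoidHom.mk' (fun a => ChowOps.cl (F a) (hF a)) fun a b => by
      rw [← Bivar.cl_add _ _ (hF a) (hF b)]
      exact Bivar.cl_congr (map_add F (a : AlgebraicCycle X ℤ) b) _ _)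
    fun a ha => (H23.ChowDesc.cl_eq_of_ratEquiv (hF a) ((ChowOps.zk P δP _).zero_mem) (by
      show F a - 0 ∈ ratSub hP _
      rw [sub_zero]
      exact flatAdd_ratSub π _ hP.2.2 hX hP ha)).trans Bivar.cl_zero

/-- Pull-back on all Chow groups. -/
noncomputable def pullG : GCH X δ →+ GCH P δP :=
  AddMonoidHom.mk' (fun x m => Bivar.chCast P δP (sub_add_cancel m (d : ℤ))
    (pullCH π hX hP hπ hd (m - d) (x (m - d)))) fun x y => funext fun m => by simp only [Pi.add_apply, map_add]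

theorem pullG_at (x : GCH X δ) (k : ℤ) : pullG π hX hP hπ hd x (k + d) = pullCH π hX hP hπ hd k (x k) := by
  have h : ∀ (k' : ℤ) (_ : k' = k) (e : k' + (d : ℤ) = k + d),
      Bivar.chCast P δP e (pullCH π hX hP hπ hd k' (x k')) = pullCH π hX hP hπ hd k (x k) := by
    rintro _ rfl e
    rw [Bivar.chCast_rfl]
    rfl
  exact h _ (add_sub_cancel_right k (d : ℤ)) _

theorem rep_pullG {x : GCH X δ} {k : ℤ} {α : AlgebraicCycle X ℤ} (hx : Rep x k α) :
    haveI := hX.1
    haveI := hP.1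
    Rep (pullG π hX hP hπ hd x) (k + d) (flatAdd π (H23.FlatShift.hasShift_of_hasRelDim π hd hπ) hP.2.2 α) := by
  haveI := hX.1
  haveI := hP.1
  obtain ⟨hα, e⟩ := hx
  exact ⟨flatAdd_mem π _ hP.2.2 hα, by rw [pullG_at, e]; rfl⟩

/-- An endomorphism commutes with pull-back. -/
def Inter (A : AddMonoid.End (GCH X δ)) (A' : AddMonoid.End (GCH P δP)) : Prop :=
  ∀ x, pullG π hX hP hπ hd (A x) = A' (pullG π hX hP hπ hd x)

variable {A B : AddMonoid.End (GCH X δ)} {A' B' : AddMonoid.End (GCH P δP)}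

theorem Inter.mul (h : Inter π hX hP hπ hd A A') (h' : Inter π hX hP hπ hd B B') :
    Inter π hX hP hπ hd (A * B) (A' * B') := fun x => (h (B x)).trans (congrArg A' (h' x))

theorem Inter.add (h : Inter π hX hP hπ hd A A') (h' : Inter π hX hP hπ hd B B') :
    Inter π hX hP hπ hd (A + B) (A' + B') := fun x => by
  show pullG π hX hP hπ hd (A x + B x) = A' _ + B' _
  rw [map_add, h x, h' x]

theorem Inter.zero : Inter π hX hP hπ hd 0 0 := fun x => by simp

theorem Inter.one : Inter π hX hP hπ hd 1 1 := fun x => rfl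

theorem Inter.zsmul (h : Inter π hX hP hπ hd A A') (c : ℤ) : Inter π hX hP hπ hd (c • A) (c • A') := fun x => by
  show pullG π hX hP hπ hd (c • A x) = c • A' _
  rw [map_zsmul, h x]

theorem Inter.sum {ι : Type*} {s : Finset ι} {A : ι → AddMonoid.End (GCH X δ)} {A' : ι → AddMonoid.End (GCH P δP)}
    (h : ∀ i ∈ s, Inter π hX hP hπ hd (A i) (A' i)) : Inter π hX hP hπ hd (∑ i ∈ s, A i) (∑ i ∈ s, A' i) := by
  classical
  induction s using Finset.induction with
  | empty => simpa using Inter.zero π hX hP hπ hd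
  | insert i s hi ih =>
    rw [Finset.sum_insert hi, Finset.sum_insert hi]
    exact (h i (Finset.mem_insert_self i s)).add π hX hP hπ hd (ih fun j hj => h j (Finset.mem_insert_of_mem hj))

/-- Coefficientwise intertwining. -/
def PInter (f : Polynomial (AddMonoid.End (GCH X δ))) (f' : Polynomial (AddMonoid.End (GCH P δP))) : Prop :=
  ∀ j, Inter π hX hP hπ hd (f.coeff j) (f'.coeff j)

theorem PInter.mul {f g : Polynomial (AddMonoid.End (GCH X δ))} {f' g' : Polynomial (AddMonoid.End (GCH P δP))}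
    (h : PInter π hX hP hπ hd f f') (h' : PInter π hX hP hπ hd g g') : PInter π hX hP hπ hd (f * g) (f' * g') :=
  fun j => by
    rw [coeff_mul, coeff_mul]
    exact Inter.sum π hX hP hπ hd fun x _ => (h x.1).mul π hX hP hπ hd (h' x.2)

theorem inter_opC {E : X.Modules} {E' : P.Modules} {r : ℕ} (hE : FlatMod.IsFinLocFreeOfRank r E)
    (hE' : FlatMod.IsFinLocFreeOfRank r E') (ε : (Scheme.Modules.pullback π).obj E ≅ E') (j : ℕ) :
    Inter π hX hP hπ hd (opC hX hE j) (opC hP hE' j) := by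
  haveI := hX.1
  haveI := hP.1
  by_cases hj : j < r + 1
  swap
  · rw [opC_eq_zero hX hE (by omega), opC_eq_zero hP hE' (by omega)]
    exact Inter.zero π hX hP hπ hd
  intro x
  funext m
  obtain ⟨α, hx⟩ := Rep.exists x (m - d + j)
  obtain ⟨γ, hγ⟩ := IsCapR.exists' hE hX hx.1
  have hc := H23.FlatShift.hasShift_of_hasRelDim π hd hπ
  have hγ' : IsCapR E' r δP (m - d + j + d) (flatAdd π hc hP.2.2 α) (fun l => flatAdd π hc hP.2.2 (γ l)) := by
    match r, hE, hE', γ, hγ with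
    | 0, hE, hE', γ, hγ =>
      have e : (fun l : Fin (0 + 1) => flatAdd π hc hP.2.2 (γ l)) = fun _ => flatAdd π hc hP.2.2 α :=
        funext fun l => by
          obtain rfl : l = 0 := Fin.ext (Nat.lt_one_iff.1 l.2)
          rw [hγ.zero hE hX]
      rw [e]
      exact isCapR_zero hP hE' (flatAdd_mem π hc hP.2.2 hx.1)
    | n + 1, hE, hE', γ, hγ =>
      intro R ρ O1' q' hR δR hδR
      obtain ⟨R₀, ρ₀, O₀, q₀, hR₀⟩ := exists_bundle hE
      haveI := isProper_of_isProjBundle hR₀ hE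
      have hδ₀ := H23.ChowDesc.deltaCompat_rd ρ₀ δ
      exact isChernCap_pull hE hR₀ hR hP hX hδ₀ hδR π ε hπ hd (hγ R₀ ρ₀ O₀ q₀ hR₀ _ hδ₀)
  have h1 := rep_pullG π hX hP hπ hd (rep_opC hX hE hx hγ ⟨j, hj⟩)
  have h2 := rep_opC hP hE' (rep_pullG π hX hP hπ hd hx) hγ' ⟨j, hj⟩
  rw [show m - (d : ℤ) + (j : ℤ) - (((⟨j, hj⟩ : Fin (r + 1)) : ℕ) : ℤ) + d = m by ring] at h1
  rw [show m - (d : ℤ) + (j : ℤ) + d - (((⟨j, hj⟩ : Fin (r + 1)) : ℕ) : ℤ) = m by ring] at h2
  obtain ⟨_, e1⟩ := h1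
  obtain ⟨_, e2⟩ := h2
  exact e1.trans e2.symm

theorem pinter_totC {E : X.Modules} {E' : P.Modules} {r : ℕ} (hE : FlatMod.IsFinLocFreeOfRank r E)
    (hE' : FlatMod.IsFinLocFreeOfRank r E') (ε : (Scheme.Modules.pullback π).obj E ≅ E') :
    PInter π hX hP hπ hd (totC hX hE) (totC hP hE') := fun j => by
  rw [coeff_totC, coeff_totC]
  exact inter_opC π hX hP hπ hd hE hE' ε j

include hπ hd in
theorem pullG_injective (hs : IsSplitting π d) : Function.Injective (pullG π hX hP hπ hd) := by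
  haveI := hX.1
  haveI := hP.1
  refine (injective_iff_map_eq_zero _).2 fun x hx => funext fun k => ?_
  obtain ⟨α, hα⟩ := Rep.exists x k
  have h := Rep.ratEquiv hP (rep_pullG π hX hP hπ hd hα) (hx ▸ Rep.zero (k + d))
  rw [sub_zero] at h
  have h0 := hs.inj X (𝟙 X) δ hX P π (𝟙 P) (IsPullback.of_horiz_isIso ⟨by simp⟩) δP hP hπ k α hα.1 _
    (coe_flatAdd π (H23.FlatShift.hasShift_of_hasRelDim π hd hπ) hP.2.2 α) h
  rw [Pi.zero_apply, hα.2]
  exact (H23.ChowDesc.cl_eq_of_ratEquiv hα.1 ((ChowOps.zk X δ k).zero_mem)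
    (by show α - 0 ∈ ratSub hX k; rw [sub_zero]; exact h0)).trans Bivar.cl_zero

theorem eq_of_pinter (hs : IsSplitting π d) {f g : Polynomial (AddMonoid.End (GCH X δ))}
    {f' g' : Polynomial (AddMonoid.End (GCH P δP))}
    (h : PInter π hX hP hπ hd f f') (h' : PInter π hX hP hπ hd g g') (e : f' = g') : f = g :=
  Polynomial.ext fun j => AddMonoidHom.ext fun x => pullG_injective π hX hP hπ hd hs (by rw [h j x, h' j x, e])

end Pull

/-- The Whitney formula. -/
theorem whitney {X : Scheme.{u}} {δ : X → ℤ} (hX : Cyc.IsSetup X δ) {r₁ r₂ : ℕ} {E₁ E E₂ : X.Modules}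
    (hE₁ : FlatMod.IsFinLocFreeOfRank r₁ E₁) (hE₂ : FlatMod.IsFinLocFreeOfRank r₂ E₂)
    (hE : FlatMod.IsFinLocFreeOfRank (r₁ + r₂) E) (a : E₁ ⟶ E) (b : E ⟶ E₂) (hab : a ≫ b = 0)
    (hse : (ShortComplex.mk a b hab).ShortExact) : totC hX hE = totC hX hE₁ * totC hX hE₂ := by
  obtain ⟨P, π, d, hs, hfil⟩ := exists_splitting r₁ hX hE₁
  haveI := hs.proper
  haveI := hs.flat
  let δP : P → ℤ := fun x => δ (π x) + FibDim.rd π x
  have hπ : Cyc.DeltaCompat π δP δ := H23.ChowDesc.deltaCompat_rd π δ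
  have hP := H23.SetupLFT.isSetup π hX hπ
  have hE₁' := KRRReg.isFinLocFreeOfRank_pullback π hE₁
  have hE₂' := KRRReg.isFinLocFreeOfRank_pullback π hE₂
  have hE' := KRRReg.isFinLocFreeOfRank_pullback π hE
  refine eq_of_pinter π hX hP hπ hs.rel hs (pinter_totC π hX hP hπ hs.rel hE hE' (Iso.refl _))
    ((pinter_totC π hX hP hπ hs.rel hE₁ hE₁' (Iso.refl _)).mul π hX hP hπ hs.rel
      (pinter_totC π hX hP hπ hs.rel hE₂ hE₂' (Iso.refl _))) ?_
  exact whitney_of_filtered hP hfil hE₁' hE₂' hE' ((Scheme.Modules.pullback π).map a)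
    ((Scheme.Modules.pullback π).map b) (by rw [← Functor.map_comp, hab, Functor.map_zero])
    (KRRReg.shortExact_pullback_vb π hse (ExtPowSh.flf_of_rank hE₂))

end Groth.Agent.H9PB
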