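import Groth.Agent.H9PB.SubBundleClass
import Groth.Agent.H9PB.AffBundle

/-! An affine bundle as an open of a projective bundle. -/

set_option autoImplicit false
set_option linter.style.haveILetI false
set_option linter.unusedSectionVars false
set_option backward.isDefEq.respectTransparency false
set_option backward.isDefEq.respectTransparency.types false
set_option maxHeartbeats 3200000
set_option synthInstance.maxHeartbeats 200000

universe u

open CategoryTheory CategoryTheory.Limits AlgebraicGeometry TopologicalSpace Opposite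

attribute [-instance] CategoryTheory.catToReflQuiver

noncomputable section

namespace Groth.Agent.H9PB

open Groth.Agent Groth.Agent.QuotRep Groth.Agent.GrassSch

variable {X T T' T'' : Scheme.{u}}

/-- The relative spectrum of the structure sheaf is the base. -/
instance isIso_unit_π : IsIso (RelSpec.QCAlg.unit X).π := by
  let A := RelSpec.QCAlg.unit X
  refine (IsZariskiLocalAtTarget.iff_of_iSup_eq_top (P := MorphismProperty.isomorphisms Scheme.{u})
    (f := A.π) (fun U : X.affineOpens => (U : X.Opens)) (iSup_affineOpens_eq_top X)).mpr fun U => ?_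
  show IsIso (A.π ∣_ U.1)
  have h := RelSpecX.isPullback_ι (A := A) U.1 U.2
  haveI : IsIso (Spec.map (A.str.app (op U.1))) := inferInstanceAs (IsIso (Spec.map (𝟙 Γ(X, U.1))))
  have hr : Set.range (A.π ⁻¹ᵁ U.1).ι = Set.range (A.ι U.1 U.2) := by
    rw [Scheme.Opens.range_ι, A.π_preimage U.1 U.2]
    rfl
  have hr' : Set.range U.2.fromSpec = Set.range U.1.ι := by
    rw [Scheme.Opens.range_ι, U.2.range_fromSpec]
  have key : A.π ∣_ U.1 = (IsOpenImmersion.isoOfRangeEq (A.π ⁻¹ᵁ U.1).ι (A.ι U.1 U.2) hr).hom ≫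
      Spec.map (A.str.app (op U.1)) ≫ (IsOpenImmersion.isoOfRangeEq U.2.fromSpec U.1.ι hr').hom := by
    rw [← cancel_mono U.1.ι, morphismRestrict_ι, Category.assoc, Category.assoc,
      IsOpenImmersion.isoOfRangeEq_hom_fac, ← h.w, IsOpenImmersion.isoOfRangeEq_hom_fac_assoc]
  rw [key]
  infer_instance

/-- An endomorphism of the structure module with invertible value is invertible. -/
theorem isIso_of_isUnit_one (m : Coh.structureModule X ⟶ Coh.structureModule X)
    (h : IsUnit (show Γ(X, ⊤) from InvX.one m)) : IsIso m := by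
  rw [Scheme.Modules.Hom.isIso_iff_isIso_app]
  intro V
  refine (ConcreteCategory.isIso_iff_bijective _).2 ?_
  show Function.Bijective (m.app V : _ → _)
  rw [show (m.app V : _ → _) =
      fun r : Γ(X, V) => r • AModX.res (Coh.structureModule X) (le_top : V ≤ ⊤) (InvX.one m) from
    funext fun r => InvX.app_eq_smul m r]
  obtain ⟨g, hg⟩ := (h.map (X.presheaf.map (homOfLE (le_top : V ≤ ⊤)).op).hom)
  have hb : Function.Bijective fun r : Γ(X, V) => r * (g : Γ(X, V)) := g.mulRight.bijective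
  rw [hg] at hb
  exact hb

namespace VB

theorem pullForm_comp {E : X.Modules} {g : T ⟶ X} {g' : T' ⟶ X} {g'' : T'' ⟶ X} (a : T' ⟶ T) (w : a ≫ g = g')
    (b : T'' ⟶ T') (w' : b ≫ g' = g'') (θ : (Scheme.Modules.pullback g).obj E ⟶ Coh.structureModule T) :
    pullForm b w' (pullForm a w θ) = pullForm (b ≫ a) (by rw [Category.assoc, w, w']) θ := by
  refine form_ext g'' fun U x => ?_
  rw [fsec_pullForm, fsec_pullForm, fsec_pullForm, ← CommRingCat.comp_apply, Scheme.Hom.appLE_comp_appLE]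

theorem pullForm_congr {E : X.Modules} {g : T ⟶ X} {g' : T' ⟶ X} {a a' : T' ⟶ T} (h : a = a') (w : a ≫ g = g')
    (θ : (Scheme.Modules.pullback g).obj E ⟶ Coh.structureModule T) :
    pullForm a w θ = pullForm a' (h ▸ w) θ := by
  subst h; rfl

theorem map_comp_pullForm {E E' : X.Modules} (c : E' ⟶ E) {g : T ⟶ X} {g' : T' ⟶ X} (a : T' ⟶ T)
    (w : a ≫ g = g') (θ : (Scheme.Modules.pullback g).obj E ⟶ Coh.structureModule T) :
    (Scheme.Modules.pullback g').map c ≫ pullForm a w θ = pullForm a w ((Scheme.Modules.pullback g).map c ≫ θ) := by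
  rw [pullForm, ← Category.assoc, map_comp_pullQ]
  rfl

theorem isIso_pullForm {E : X.Modules} {g : T ⟶ X} {g' : T' ⟶ X} (a : T' ⟶ T) (w : a ≫ g = g')
    (θ : (Scheme.Modules.pullback g).obj E ⟶ Coh.structureModule T) [IsIso θ] : IsIso (pullForm a w θ) := by
  rw [pullForm, pullQ]
  infer_instance

/-- The tautological form of the trivial spectrum attached to an automorphism is invertible. -/
theorem isIso_uForm_unit (u : Coh.structureModule X ⟶ (RelSpec.QCAlg.unit X).toModule) [IsIso u] :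
    IsIso (uForm (RelSpec.QCAlg.unit X) u) := by
  let A := RelSpec.QCAlg.unit X
  let c := uForm A u
  let m := (CurveBC.unitIso A.π).inv ≫ c
  suffices IsIso m from (by
    show IsIso c
    rw [show c = (CurveBC.unitIso A.π).hom ≫ m by rw [Iso.hom_inv_id_assoc]]
    infer_instance)
  refine isIso_of_isUnit_one m ?_
  let one₀ : Γ(Coh.structureModule X, ⊤) := (1 : Γ(X, ⊤))
  have hu : IsUnit (show Γ(X, ⊤) from u.app ⊤ one₀) := by
    let r : Γ(X, ⊤) := (inv u).app ⊤ (show Γ(A.toModule, ⊤) from (1 : Γ(X, ⊤)))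
    refine IsUnit.of_mul_eq_one_right r ?_
    show r * (show Γ(X, ⊤) from u.app ⊤ one₀) = 1
    have h1 : u.app ⊤ (r • one₀) = r • u.app ⊤ one₀ := Scheme.Modules.Hom.app_smul _ _ _
    have h2 : r • one₀ = (show Γ(Coh.structureModule X, ⊤) from r) := mul_one r
    have h3 : u.app ⊤ (show Γ(Coh.structureModule X, ⊤) from r) = (show Γ(A.toModule, ⊤) from (1 : Γ(X, ⊤))) :=
      congr($(IsIso.inv_hom_id u).app ⊤ (show Γ(A.toModule, ⊤) from (1 : Γ(X, ⊤))))
    rw [h2, h3] at h1
    exact h1.symm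
  have hkey : InvX.one m = (inv A.gammaMap).app (op ⊤) (u.app ⊤ one₀) := by
    rw [← fsec_uForm A u ⊤ one₀]
    show c.app ⊤ ((CurveBC.unitIso A.π).inv.app ⊤ (show Γ(Coh.structureModule A.spec, ⊤) from (1 : Γ(A.spec, ⊤)))) =
      c.app ⊤ (QCoh.pullSec A.π _ le_rfl one₀)
    refine congrArg _ ?_
    apply (ConcreteCategory.bijective_of_isIso ((CurveBC.unitIso A.π).hom.app ⊤)).1
    have hp := unitIso_pullSec A.π (U := ⊤) (W := ⊤) le_rfl (1 : Γ(X, ⊤))
    refine Eq.trans ?_ hp.symm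
    refine Eq.trans (congr($((CurveBC.unitIso A.π).inv_hom_id).app ⊤
      (show Γ(Coh.structureModule A.spec, ⊤) from (1 : Γ(A.spec, ⊤))))) ?_
    exact (map_one (A.π.appLE ⊤ ⊤ le_rfl).hom).symm
  exact hkey ▸ hu.map ((inv A.gammaMap).app (op ⊤)).hom

/-- The affine bundle of the forms with prescribed value on a section, inside the projective bundle. -/
theorem exists_completion_torsor {E : X.Modules} (a : Coh.structureModule X ⟶ E) (AE : RelSpec.QCAlg X)
    {jE : E ⟶ AE.toModule} (hAE : RelSpec.IsSymAlg E AE jE) (A1 : RelSpec.QCAlg X)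
    {j1 : Coh.structureModule X ⟶ A1.toModule} (hA1 : RelSpec.IsSymAlg (Coh.structureModule X) A1 j1)
    (ψ : A1 ⟶ AE) (hψ : j1 ≫ RelSpec.QCAlg.Hom.toModuleMap ψ = a ≫ jE)
    (u : Coh.structureModule X ⟶ (RelSpec.QCAlg.unit X).toModule) [IsIso u] (ε : A1 ⟶ RelSpec.QCAlg.unit X)
    (hε : j1 ≫ RelSpec.QCAlg.Hom.toModuleMap ε = u)
    {P : Scheme.{u}} {p : P ⟶ X} {O1 : P.Modules} {q : (Scheme.Modules.pullback p).obj E ⟶ O1}
    (hP : KRR.IsProjBundle p E O1 q) [QuasiCompact p] [QuasiSeparated p] :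
    ∃ (jB : pullback (RelSpec.QCAlg.specMap ψ) (RelSpec.QCAlg.specMap ε) ⟶ P) (_ : IsOpenImmersion jB),
      jB ≫ p = pullback.fst (RelSpec.QCAlg.specMap ψ) (RelSpec.QCAlg.specMap ε) ≫ AE.π ∧
      Set.range jB =
        (CohB1.genLocus O1 ((CurveBC.unitIso p).inv ≫ (Scheme.Modules.pullback p).map a ≫ q) : Set P) := by
  have hinv : PicF.IsInvertible O1 := Model.isInvertible_of_rank hP.invertible
  haveI := hP.epi
  let A0 := RelSpec.QCAlg.unit X
  let sψ := RelSpec.QCAlg.specMap ψ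
  let sε := RelSpec.QCAlg.specMap ε
  let B := pullback sψ sε
  let π₁ : B ⟶ AE.spec := pullback.fst sψ sε
  let π₂ : B ⟶ A0.spec := pullback.snd sψ sε
  let gB := π₁ ≫ AE.π
  haveI : IsAffineHom sε := by
    haveI : IsAffineHom (sε ≫ A1.π) := by rw [RelSpec.QCAlg.specMap_π]; infer_instance
    exact MorphismProperty.of_postcomp @IsAffineHom (W' := @IsSeparated) sε A1.π inferInstance inferInstance
  haveI : IsAffineHom π₁ := MorphismProperty.pullback_fst (P := @IsAffineHom) sψ sε inferInstance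
  have hw₂ : π₂ ≫ A0.π = gB := by
    show _ = π₁ ≫ AE.π
    rw [← RelSpec.QCAlg.specMap_π ψ, ← RelSpec.QCAlg.specMap_π ε, ← Category.assoc, ← Category.assoc,
      pullback.condition]
  let c₀ := uForm A0 u
  haveI : IsIso c₀ := isIso_uForm_unit u
  have hc₀ : pullForm sε (RelSpec.QCAlg.specMap_π ε) (uForm A1 j1) = c₀ := by
    rw [pullForm_uForm ε (𝟙 _) (by rw [hε, Category.id_comp]), CategoryTheory.Functor.map_id, Category.id_comp]
  have hpt : ∀ {T : Scheme.{u}} (g : T ⟶ X) (x : T ⟶ AE.spec) (wx : x ≫ AE.π = g),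
      (Scheme.Modules.pullback g).map a ≫ pullForm x wx (uForm AE jE) =
        pullForm (x ≫ sψ) (by rw [Category.assoc, RelSpec.QCAlg.specMap_π, wx]) (uForm A1 j1) := by
    intro T g x wx
    rw [map_comp_pullForm, ← pullForm_uForm ψ a hψ, pullForm_comp]
  let θB := pullForm π₁ rfl (uForm AE jE)
  have hθB : (Scheme.Modules.pullback gB).map a ≫ θB = pullForm π₂ hw₂ c₀ := by
    rw [hpt gB π₁ rfl, pullForm_congr pullback.condition, ← hc₀, pullForm_comp]
  haveI : IsIso ((Scheme.Modules.pullback gB).map a ≫ θB) := hθB ▸ isIso_pullForm _ _ _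
  haveI : Epi θB := epi_of_epi ((Scheme.Modules.pullback gB).map a) θB
  have h1B : FlatMod.IsFinLocFreeOfRank 1 (Coh.structureModule B) :=
    InvEnd.isFinLocFreeOfRank_one InvX.isInvertible_structureModule
  obtain ⟨jB, hjB, -⟩ := existsUnique_class (Grass.IsGrass.of_isProjBundle hP) h1B θB
  obtain ⟨hjp, e, he⟩ := id hjB
  let m := (Scheme.Modules.pullback p).map a ≫ q
  let s := (CurveBC.unitIso p).inv ≫ m
  have hland : jB ⁻¹ᵁ CohB1.genLocus O1 s = ⊤ := by
    haveI : IsIso ((Scheme.Modules.pullback jB).map m) := by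
      have h2 : (Scheme.Modules.pullback gB).map a ≫ pullQ jB p gB hjp q ≫ e.hom =
          (Scheme.Modules.pullback gB).map a ≫ θB := by rw [he]
      rw [← Category.assoc, map_comp_pullQ, pullQ, Category.assoc] at h2
      haveI : IsIso (((Scheme.Modules.pullback jB).map m) ≫ e.hom) :=
        IsIso.of_isIso_fac_left (f := (LimMod.trIso jB p gB hjp).inv.app _) h2
      exact IsIso.of_isIso_comp_right _ e.hom
    rw [← InvX.genLocus_pullback jB hinv s (CurveBC.unitIso jB).symm]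
    haveI : IsIso ((Scheme.Modules.pullback jB).map s) := by
      rw [Functor.map_comp]; infer_instance
    exact genLocus_of_isIso _
  let W := CohB1.genLocus O1 s
  haveI := InvX.isAffineHom_genLocus_ι hinv s
  let g₀ := W.ι ≫ p
  let q₀ := pullQ W.ι p g₀ rfl q
  let v := (Scheme.Modules.pullback g₀).map a ≫ q₀
  haveI hv : IsIso v := by
    show IsIso ((Scheme.Modules.pullback g₀).map a ≫ pullQ W.ι p g₀ rfl q)
    rw [map_comp_pullQ, pullQ]
    haveI : IsIso ((Scheme.Modules.pullback W.ι).map m) := by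
      haveI := isIso_pullback_genLocus s
      rw [show m = (CurveBC.unitIso p).hom ≫ s by rw [Iso.hom_inv_id_assoc], Functor.map_comp]
      infer_instance
    infer_instance
  let z : (W : Scheme.{u}) ⟶ A0.spec := g₀ ≫ inv A0.π
  have hz : z ≫ A0.π = g₀ := by rw [Category.assoc, IsIso.inv_hom_id, Category.comp_id]
  haveI := isIso_pullForm z hz c₀
  let e₀ : (Scheme.Modules.pullback W.ι).obj O1 ≅ Coh.structureModule W :=
    (asIso v).symm ≪≫ asIso (pullForm z hz c₀)
  let θ₀ := q₀ ≫ e₀.hom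
  have hθ₀ : (Scheme.Modules.pullback g₀).map a ≫ θ₀ = pullForm z hz c₀ := by
    show _ ≫ q₀ ≫ inv v ≫ _ = _
    rw [← Category.assoc, ← Category.assoc, IsIso.hom_inv_id, Category.id_comp]
    rfl
  obtain ⟨φ₀, ⟨hφ₀, hφθ⟩, -⟩ := existsUnique_point AE hAE g₀ θ₀
  have hsq : φ₀ ≫ sψ = z ≫ sε := by
    refine (existsUnique_point A1 hA1 g₀ (pullForm z hz c₀)).unique
      ⟨by rw [Category.assoc, RelSpec.QCAlg.specMap_π, hφ₀], ?_⟩
      ⟨by rw [Category.assoc, RelSpec.QCAlg.specMap_π, hz], ?_⟩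
    · rw [← hθ₀, ← hφθ, hpt g₀ φ₀ hφ₀]
    · rw [← hc₀, pullForm_comp]
  let φ : (W : Scheme.{u}) ⟶ B := pullback.lift φ₀ z hsq
  have hφ₁ : φ ≫ π₁ = φ₀ := pullback.lift_fst _ _ _
  have hφg : φ ≫ gB = g₀ := by rw [← Category.assoc, hφ₁, hφ₀]
  have hφθB : pullForm φ hφg θB = θ₀ := by
    rw [pullForm_comp, pullForm_congr hφ₁]
    exact hφθ
  haveI : Epi θ₀ := by
    haveI : Epi ((Scheme.Modules.pullback g₀).map a ≫ θ₀) := by rw [hθ₀]; infer_instance
    exact epi_of_epi ((Scheme.Modules.pullback g₀).map a) θ₀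
  have h1W : FlatMod.IsFinLocFreeOfRank 1 (Coh.structureModule W) :=
    InvEnd.isFinLocFreeOfRank_one InvX.isInvertible_structureModule
  have hφψ : φ ≫ jB = W.ι := by
    refine (existsUnique_class (Grass.IsGrass.of_isProjBundle hP) h1W θ₀).unique ?_ ⟨rfl, e₀, rfl⟩
    exact (hjB.comp φ g₀ hφg).of_sameQ ⟨CurveBC.unitIso φ, hφθB⟩
  have hrange : Set.range jB ⊆ Set.range W.ι := by
    rintro _ ⟨x, rfl⟩
    rw [W.range_ι]
    exact (hland.symm.le : ⊤ ≤ jB ⁻¹ᵁ W) (x := x) trivial
  let ψ₀ := IsOpenImmersion.lift W.ι jB hrange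
  have hψ₀ : ψ₀ ≫ W.ι = jB := IsOpenImmersion.lift_fac _ _ _
  have hinv₁ : φ ≫ ψ₀ = 𝟙 _ := by rw [← cancel_mono W.ι, Category.assoc, hψ₀, hφψ, Category.id_comp]
  have hinv₂ : ψ₀ ≫ φ = 𝟙 _ := by
    let b := ψ₀ ≫ φ
    have hb : b ≫ gB = gB := by rw [Category.assoc, hφg, ← Category.assoc, hψ₀, hjp]
    have hbψ : b ≫ jB = jB := by rw [Category.assoc, hφψ, hψ₀]
    have hsame := (hjB.comp b gB hb).of_sameQ (⟨CurveBC.unitIso b, rfl⟩ : SameQ _ (pullForm b hb θB))
    rw [hbψ] at hsame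
    obtain ⟨e', he'⟩ := hsame.2.symm.trans hjB.2
    have hw' : ∀ (w : B ⟶ A0.spec), w ≫ A0.π = gB → w = π₂ := fun w hw => by
      rw [← cancel_mono A0.π, hw, hw₂]
    have h4 : (Scheme.Modules.pullback gB).map a ≫ pullForm b hb θB = (Scheme.Modules.pullback gB).map a ≫ θB := by
      rw [hθB, map_comp_pullForm, hθB, pullForm_comp, pullForm_congr (hw' (b ≫ π₂) (by rw [Category.assoc, hw₂, hb]))]
    have h5 := congrArg ((Scheme.Modules.pullback gB).map a ≫ ·) he'
    rw [← Category.assoc, h4] at h5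
    have he'' : e'.hom = 𝟙 _ := by
      rw [← cancel_epi ((Scheme.Modules.pullback gB).map a ≫ θB), h5, Category.comp_id]
    rw [he'', Category.comp_id] at he'
    refine pullback.hom_ext ?_ ?_
    · rw [Category.id_comp]
      refine (existsUnique_point AE hAE gB θB).unique ⟨?_, ?_⟩ ⟨rfl, rfl⟩
      · rw [Category.assoc]; exact hb
      · rw [← he', pullForm_comp]
    · rw [Category.id_comp]
      refine hw' _ ?_
      rw [Category.assoc]
      exact (congrArg (b ≫ ·) hw₂).trans hb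
  haveI : IsIso ψ₀ := ⟨φ, hinv₂, hinv₁⟩
  refine ⟨jB, hψ₀ ▸ inferInstance, hjp, ?_⟩
  rw [← hψ₀, Scheme.Hom.comp_base, TopCat.coe_comp, Set.range_comp,
    Set.range_eq_univ.2 ψ₀.surjective, Set.image_univ, W.range_ι]

end VB

end Groth.Agent.H9PB

end
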