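import Groth.Agent.H9PB.VecZero
import Groth.Agent.QCoh.LocFree
import Groth.Agent.QCoh.Devissage
import Groth.Agent.RegImmLib.RegStalk
import Groth.Agent.ExtPowSh.Model

/-! Zero schemes given by coordinates in the stalks. -/

set_option autoImplicit false
set_option linter.style.haveILetI false
set_option linter.unusedSectionVars false
set_option backward.isDefEq.respectTransparency false
set_option backward.isDefEq.respectTransparency.types false
set_option maxHeartbeats 1600000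
set_option synthInstance.maxHeartbeats 200000

universe u

open CategoryTheory CategoryTheory.Limits AlgebraicGeometry TopologicalSpace Opposite
open scoped TensorProduct

attribute [-instance] CategoryTheory.catToReflQuiver

noncomputable section

namespace Groth.Agent.H9PB

open Groth.Agent Groth.Agent.GrassSch

variable {W : Scheme.{u}} {Q : W.Modules}

/-- Vanishing of a section on an affine point of a free chart. -/
theorem pullback_map_eq_zero_iff_coord (hQ : Coh.IsQCoh Q) (hO : Coh.IsQCoh (Coh.structureModule W))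
    (u : Coh.structureModule W ⟶ Q) {U : W.Opens} (hU : IsAffineOpen U) {r : ℕ}
    (b : Module.Basis (Fin r) Γ(W, U) Γ(Q, U)) {R : CommRingCat.{u}} (q : Γ(W, U) ⟶ R) :
    (Scheme.Modules.pullback (Spec.map q ≫ hU.fromSpec)).map u = 0 ↔
      ∀ k, q (b.repr (u.app U (1 : Γ(W, U))) k) = 0 := by
  let x := Spec.map q ≫ hU.fromSpec
  have hle : (⊤ : (Spec R).Opens) ≤ x ⁻¹ᵁ U := fun y _ => hU.range_fromSpec.le ⟨Spec.map q y, rfl⟩
  letI : Algebra Γ(W, U) Γ(Spec R, ⊤) := (x.appLE U ⊤ hle).hom.toAlgebra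
  letI : Module Γ(W, U) Γ((Scheme.Modules.pullback x).obj (Coh.structureModule W), ⊤) :=
    Module.compHom _ (x.appLE U ⊤ hle).hom
  letI : Module Γ(W, U) Γ((Scheme.Modules.pullback x).obj Q, ⊤) := Module.compHom _ (x.appLE U ⊤ hle).hom
  haveI : IsScalarTower Γ(W, U) Γ(Spec R, ⊤) Γ((Scheme.Modules.pullback x).obj (Coh.structureModule W), ⊤) :=
    ⟨fun a b c => mul_smul ((x.appLE U ⊤ hle).hom a) b c⟩
  haveI : IsScalarTower Γ(W, U) Γ(Spec R, ⊤) Γ((Scheme.Modules.pullback x).obj Q, ⊤) :=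
    ⟨fun a b c => mul_smul ((x.appLE U ⊤ hle).hom a) b c⟩
  obtain ⟨lA, hlA, hbA⟩ := ExistEasy.exists_pullSec_baseChange x hO (isAffineOpen_top _) hU hle
  obtain ⟨lQ, hlQ, hbQ⟩ := ExistEasy.exists_pullSec_baseChange x hQ (isAffineOpen_top _) hU hle
  let C := Γ(Spec R, ⊤)
  have hzero : (Scheme.Modules.pullback x).map u = 0 ↔
      ∀ a : Γ(W, U), QCoh.pullSec x Q hle (u.app U a) = 0 := by
    refine ⟨fun h a => ?_, fun h => (QCoh.bijective_ΓMap (QCoh.isQCoh_pullback x hO) _).1 ?_⟩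
    · rw [← ExistEasy.pullSec_natural x u hle a, h]
      rfl
    · refine ModuleCat.hom_ext (LinearMap.ext fun z => ?_)
      refine Eq.trans (?_ : ((Scheme.Modules.pullback x).map u).app ⊤ z = 0) rfl
      refine hbA.inductionOn z (fun z => ((Scheme.Modules.pullback x).map u).app ⊤ z = 0) (map_zero _)
        (fun a => ?_) (fun c w hw => ?_) (fun a b ha hb => ?_)
      · rw [hlA a, ExistEasy.pullSec_natural x u hle a]
        exact h a
      · rw [Scheme.Modules.Hom.app_smul, hw]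
        exact smul_zero _
      · rw [map_add, ha, hb, add_zero]
  let B : Module.Basis (Fin r) C Γ((Scheme.Modules.pullback x).obj Q, ⊤) :=
    (Algebra.TensorProduct.basis C b).map hbQ.equiv
  have hB : ∀ (m : Γ(Q, U)) k, B.repr (QCoh.pullSec x Q hle m) k = x.appLE U ⊤ hle (b.repr m k) := fun m k => by
    rw [show QCoh.pullSec x Q hle m = hbQ.equiv ((1 : C) ⊗ₜ[Γ(W, U)] m) by
      rw [IsBaseChange.equiv_tmul, one_smul, hlQ]]
    simp only [B, Module.Basis.map_repr, LinearEquiv.trans_apply, LinearEquiv.symm_apply_apply,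
      Algebra.TensorProduct.basis_repr_tmul]
    simp [Finsupp.mapRange_apply, RingHom.algebraMap_toAlgebra]
    rfl
  rw [hzero]
  refine ⟨fun h k => ?_, fun h a => ?_⟩
  · have h1 := hB (u.app U (1 : Γ(W, U))) k
    rw [h 1, map_zero, Finsupp.coe_zero, Pi.zero_apply, GrassSch.appLE_specMap_fromSpec hU q hle] at h1
    exact (map_eq_zero_iff _ (ConcreteCategory.bijective_of_isIso (Scheme.ΓSpecIso R).inv).1).1 h1.symm
  · refine B.repr.map_eq_zero_iff.1 (Finsupp.ext fun k => ?_)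
    rw [hB, show u.app U a = a • u.app U (1 : Γ(W, U)) from
      (congrArg (u.app U) (mul_one a).symm).trans (Scheme.Modules.Hom.app_smul u a (1 : Γ(W, U))), map_smul,
      Finsupp.smul_apply, smul_eq_mul, map_mul]
    rw [GrassSch.appLE_specMap_fromSpec hU q hle, CommRingCat.comp_apply, CommRingCat.comp_apply, h k, map_zero,
      mul_zero, Finsupp.coe_zero, Pi.zero_apply]

theorem span_range_coord_le {R M : Type*} [CommRing R] [AddCommGroup M] [Module R M] {ι κ : Type*} [Fintype κ]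
    (b : Module.Basis ι R M) (b' : Module.Basis κ R M) (v : M) :
    Ideal.span (Set.range fun l => b.repr v l) ≤ Ideal.span (Set.range fun l => b'.repr v l) := by
  rw [Ideal.span_le]
  rintro _ ⟨l, rfl⟩
  show b.repr v l ∈ Ideal.span (Set.range fun l => b'.repr v l)
  have e : b.repr v l = b.repr (∑ j, b'.repr v j • b' j) l := by rw [b'.sum_repr]
  rw [e]
  rw [map_sum, Finsupp.finsetSum_apply]
  refine Ideal.sum_mem _ fun j _ => ?_
  rw [map_smul, Finsupp.smul_apply, smul_eq_mul]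
  exact Ideal.mul_mem_right _ _ (Ideal.subset_span ⟨j, rfl⟩)

theorem mem_smul_top_iff {R M : Type*} [CommRing R] [AddCommGroup M] [Module R M] {κ : Type*} [Fintype κ]
    (b : Module.Basis κ R M) (I : Ideal R) (v : M) :
    v ∈ I • (⊤ : Submodule R M) ↔ ∀ l, b.repr v l ∈ I := by
  refine ⟨fun h l => ?_, fun h => ?_⟩
  · refine Submodule.smul_induction_on h (fun c hc m _ => ?_) (fun m n hm hn => ?_)
    · rw [map_smul, Finsupp.smul_apply, smul_eq_mul]
      exact I.mul_mem_right _ hc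
    · rw [map_add, Finsupp.add_apply]
      exact I.add_mem hm hn
  · rw [← b.sum_repr v]
    exact Submodule.sum_mem _ fun l _ => Submodule.smul_mem_smul (h l) Submodule.mem_top

/-- The local description of the vanishing locus of a section. -/
theorem zero_local {r : ℕ} (hQ : FlatMod.IsFinLocFreeOfRank r Q) (s : Γ(Q, ⊤)) {Z : Scheme.{u}} (i : Z ⟶ W)
    [IsClosedImmersion i] (hi : IsZS i (QCoh.homOfTop s)) (w : W) :
    ∃ B : Module.Basis (Fin r) (W.presheaf.stalk w) (Q.presheaf.stalk w),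
      (w ∈ Set.range i ↔ ∀ k, B.repr (Q.presheaf.germ ⊤ w trivial s) k ∈ IsLocalRing.maximalIdeal _) ∧
      ∀ z, ∀ e : i z = w, (RingHom.ker (i.stalkMap z).hom).map (W.presheaf.stalkSpecializes (specializes_of_eq e.symm)).hom =
        Ideal.span (Set.range fun k => B.repr (Q.presheaf.germ ⊤ w trivial s) k) := by
  classical
  have hqQ : Coh.IsQCoh Q := QCoh.isQCoh_of_isFinLocFree (ExtPowSh.flf_of_rank hQ)
  have hqO : Coh.IsQCoh (Coh.structureModule W) :=
    QCoh.isQCoh_of_isFinLocFree (ExtPowSh.flf_of_rank (InvEnd.isFinLocFreeOfRank_one InvX.isInvertible_structureModule))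
  obtain ⟨U₀, hwU₀, ⟨e₀⟩⟩ := hQ w
  obtain ⟨U, hU, hwU, hle⟩ := exists_isAffineOpen_mem_and_subset hwU₀
  obtain ⟨l⟩ := QCoh.free_sections hU hle e₀
  let b : Module.Basis (Fin r) Γ(W, U) Γ(Q, U) := (Module.Basis.ofRepr l).reindex Equiv.ulift
  let c : Fin r → Γ(W, U) := fun k => b.repr ((QCoh.homOfTop s).app U (1 : Γ(W, U))) k
  have hker : RingHom.ker (i.app U).hom = Ideal.span (Set.range c) := by
    refine le_antisymm ?_ ?_
    · let J := Ideal.span (Set.range c)
      let q : Γ(W, U) ⟶ CommRingCat.of (Γ(W, U) ⧸ J) := CommRingCat.ofHom (Ideal.Quotient.mk J)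
      obtain ⟨z, hz⟩ := (hi _).1 ((pullback_map_eq_zero_iff_coord hqQ hqO _ hU b q).2
        fun k => Ideal.Quotient.eq_zero_iff_mem.2 (Ideal.subset_span ⟨k, rfl⟩))
      intro a ha
      have hle' : (⊤ : (Spec (CommRingCat.of (Γ(W, U) ⧸ J))).Opens) ≤ (Spec.map q ≫ hU.fromSpec) ⁻¹ᵁ U :=
        fun y _ => hU.range_fromSpec.le ⟨Spec.map q y, rfl⟩
      have h1 : (Spec.map q ≫ hU.fromSpec).appLE U ⊤ hle' a = 0 := by
        have h2 : (z ≫ i).appLE U ⊤ (by rw [hz]; exact hle') a = 0 := by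
          rw [Scheme.Hom.comp_appLE, CommRingCat.comp_apply, RingHom.mem_ker.1 ha, map_zero]
        simp only [hz] at h2
        exact h2
      rw [GrassSch.appLE_specMap_fromSpec hU q hle'] at h1
      exact Ideal.Quotient.eq_zero_iff_mem.1
        ((map_eq_zero_iff _ (ConcreteCategory.bijective_of_isIso (Scheme.ΓSpecIso _).inv).1).1 h1)
    · rw [Ideal.span_le]
      rintro _ ⟨k, rfl⟩
      have hV : IsAffineOpen (i ⁻¹ᵁ U) := hU.preimage i
      have hfac : Spec.map (i.app U) ≫ hU.fromSpec = hV.fromSpec ≫ i := by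
        rw [Scheme.Hom.app_eq_appLE]
        exact IsAffineOpen.SpecMap_appLE_fromSpec i hU hV le_rfl
      exact RingHom.mem_ker.2 ((pullback_map_eq_zero_iff_coord hqQ hqO _ hU b (i.app U)).1
        ((hi _).2 ⟨hV.fromSpec, hfac.symm⟩) k)
  letI := QCoh.stalkAlg (X := W) hwU
  letI := QCoh.stalkModule Q hwU
  haveI := QCoh.isScalarTower_stalk Q hwU
  haveI := QCoh.isLocalization_stalk' hU hwU
  haveI := QCoh.isLocalizedModule_germLin hqQ hU hwU
  let B := b.ofIsLocalizedModule (W.presheaf.stalk w) (hU.primeIdealOf ⟨w, hwU⟩).asIdeal.primeCompl (QCoh.germLin Q hwU)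
  have hs : (QCoh.homOfTop s).app U (1 : Γ(W, U)) = Q.presheaf.map (homOfLE (le_top : U ≤ ⊤)).op s := by
    rw [QCoh.homOfTop_app, one_smul]
  have hB : ∀ k, B.repr (Q.presheaf.germ ⊤ w trivial s) k = W.presheaf.germ U w hwU (c k) := fun k => by
    rw [show Q.presheaf.germ ⊤ w trivial s = QCoh.germLin Q hwU ((QCoh.homOfTop s).app U (1 : Γ(W, U))) by
      rw [hs]; exact (Q.presheaf.germ_res_apply (homOfLE le_top) w hwU s).symm]
    exact Module.Basis.ofIsLocalizedModule_repr_apply ..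
  refine ⟨B, ⟨?_, fun h => ?_⟩, ?_⟩
  · rintro ⟨z, rfl⟩ k
    rw [hB]
    refine (IsLocalRing.mem_maximalIdeal _).2 fun hunit => ?_
    have h1 : W.presheaf.germ U (i z) hwU (c k) ∈ RingHom.ker (i.stalkMap z).hom := by
      rw [RegImmLib.ker_stalkMap_eq_map i hU z hwU, hker]
      exact Ideal.mem_map_of_mem _ (Ideal.subset_span ⟨k, rfl⟩)
    exact not_isUnit_zero ((RingHom.mem_ker.1 h1) ▸ hunit.map (i.stalkMap z).hom)
  · let q : Γ(W, U) ⟶ W.residueField w := W.presheaf.germ U w hwU ≫ W.residue w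
    have hfac : Spec.map q ≫ hU.fromSpec = W.fromSpecResidueField w := by
      rw [Scheme.fromSpecResidueField, ← hU.fromSpecStalk_eq_fromSpecStalk hwU, IsAffineOpen.fromSpecStalk,
        ← Category.assoc, ← Spec.map_comp]
    obtain ⟨z, hz⟩ := (hi _).1 ((pullback_map_eq_zero_iff_coord hqQ hqO _ hU b q).2 fun k =>
      (IsLocalRing.residue_eq_zero_iff _).2 (hB k ▸ h k))
    have hw := W.fromSpecResidueField_apply w (IsLocalRing.closedPoint (W.residueField w))
    rw [← hfac, ← hz, Scheme.Hom.comp_apply] at hw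
    exact ⟨_, hw⟩
  · rintro z rfl
    rw [TopCat.Presheaf.stalkSpecializes_refl]
    refine (Ideal.map_id _).trans ?_
    rw [RegImmLib.ker_stalkMap_eq_map i hU z hwU, hker, Ideal.map_span, ← Set.range_comp]
    exact congrArg (fun f => Ideal.span (Set.range f)) (funext fun k => (hB k).symm)

/-- A closed subscheme cut out by the coordinates of a section represents its vanishing. -/
theorem isZS_of_stalk {r : ℕ} (hQ : FlatMod.IsFinLocFreeOfRank r Q) (s : Γ(Q, ⊤)) {Z : Scheme.{u}} (i : Z ⟶ W)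
    [IsClosedImmersion i]
    (h1 : Set.range i = {x : W | (Q.presheaf.germ ⊤ x trivial) s ∈
      IsLocalRing.maximalIdeal (W.presheaf.stalk x) • (⊤ : Submodule (W.presheaf.stalk x) (Q.presheaf.stalk x))})
    (h2 : ∀ z : Z, ∃ b : Module.Basis (Fin r) (W.presheaf.stalk (i z)) (Q.presheaf.stalk (i z)),
      RingHom.ker (i.stalkMap z).hom = Ideal.span (Set.range fun l : Fin r => b.repr ((Q.presheaf.germ ⊤ (i z) trivial) s) l)) :
    IsZS i (QCoh.homOfTop s) := by
  classical
  have hqO : Coh.IsQCoh (Coh.structureModule W) :=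
    QCoh.isQCoh_of_isFinLocFree (ExtPowSh.flf_of_rank (InvEnd.isFinLocFreeOfRank_one InvX.isInvertible_structureModule))
  obtain ⟨Z₀, ι₀, hι₀, hZ₀⟩ := exists_vanish hqO (ExtPowSh.flf_of_rank hQ) (QCoh.homOfTop s)
  haveI := hι₀
  have hrange : Set.range i = Set.range ι₀ := by
    ext w
    obtain ⟨B, hB, -⟩ := zero_local hQ s ι₀ hZ₀ w
    rw [hB, h1, Set.mem_ofPred_eq, mem_smul_top_iff B]
  have hk : ∀ (z : Z) (z₀ : Z₀), ι₀ z₀ = i z → ∀ {V : W.Opens} (hV : i z ∈ V) (hV₀ : ι₀ z₀ ∈ V) (a : Γ(W, V)),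
      W.presheaf.germ V (i z) hV a ∈ RingHom.ker (i.stalkMap z).hom ↔
        W.presheaf.germ V (ι₀ z₀) hV₀ a ∈ RingHom.ker (ι₀.stalkMap z₀).hom := by
    intro z z₀ e V hV hV₀ a
    obtain ⟨b', hb'⟩ := h2 z
    obtain ⟨B, -, hB⟩ := zero_local hQ s ι₀ hZ₀ (i z)
    have hJ := hB z₀ e
    rw [le_antisymm (span_range_coord_le B b' _) (span_range_coord_le b' B _), ← hb'] at hJ
    rw [← hJ, ← TopCat.Presheaf.germ_stalkSpecializes_apply W.presheaf hV₀ (specializes_of_eq e.symm) a]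
    have hbij : Function.Bijective (W.presheaf.stalkSpecializes (specializes_of_eq e.symm)).hom := by
      have : ∀ (w : W) (e : w = i z), Function.Bijective (W.presheaf.stalkSpecializes (specializes_of_eq e.symm)).hom := by
        rintro _ rfl
        rw [TopCat.Presheaf.stalkSpecializes_refl]
        exact Function.bijective_id
      exact this _ e
    exact Ideal.mem_map_iff_of_surjective _ hbij.2 |>.trans
      ⟨fun ⟨y, hy, hye⟩ => hbij.1 hye ▸ hy, fun hy => ⟨_, hy, rfl⟩⟩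
  have hle : ι₀.ker ≤ i.ker := by
    refine Scheme.IdealSheafData.le_def.2 fun U => ?_
    intro a ha
    rw [Scheme.Hom.ker_apply] at ha ⊢
    refine RingHom.mem_ker.2 (TopCat.Presheaf.section_ext Z.sheaf _ _ _ fun z hz => ?_)
    obtain ⟨z₀, e⟩ : i z ∈ Set.range ι₀ := hrange.le ⟨z, rfl⟩
    have hz₀ : ι₀ z₀ ∈ U.1 := e ▸ (show i z ∈ U.1 from hz)
    have h := (hk z z₀ e hz hz₀ a).2 (RingHom.mem_ker.2 ?_)
    · rw [map_zero]
      exact (Scheme.Hom.germ_stalkMap_apply i U.1 z hz a).symm.trans h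
    · rw [Scheme.Hom.germ_stalkMap_apply, RingHom.mem_ker.1 ha, map_zero]
  have hge : i.ker ≤ ι₀.ker := by
    refine Scheme.IdealSheafData.le_def.2 fun U => ?_
    intro a ha
    rw [Scheme.Hom.ker_apply] at ha ⊢
    refine RingHom.mem_ker.2 (TopCat.Presheaf.section_ext Z₀.sheaf _ _ _ fun z₀ hz₀ => ?_)
    obtain ⟨z, e⟩ : ι₀ z₀ ∈ Set.range i := hrange.ge ⟨z₀, rfl⟩
    have hz : i z ∈ U.1 := e.symm ▸ (show ι₀ z₀ ∈ U.1 from hz₀)
    have h := (hk z z₀ e.symm hz hz₀ a).1 (RingHom.mem_ker.2 ?_)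
    · rw [map_zero]
      exact (Scheme.Hom.germ_stalkMap_apply ι₀ U.1 z₀ hz₀ a).symm.trans h
    · rw [Scheme.Hom.germ_stalkMap_apply, RingHom.mem_ker.1 ha, map_zero]
  intro T x
  rw [hZ₀]
  exact ⟨fun ⟨z, hz⟩ => ⟨z ≫ IsClosedImmersion.lift i ι₀ hge,
      by rw [Category.assoc, IsClosedImmersion.lift_fac, hz]⟩,
    fun ⟨z, hz⟩ => ⟨z ≫ IsClosedImmersion.lift ι₀ i hle,
      by rw [Category.assoc, IsClosedImmersion.lift_fac, hz]⟩⟩

end Groth.Agent.H9PB

end
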