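import Groth.Agent.H9PB.SubBundle
import Groth.Agent.H9PB.CapR
import Groth.Agent.H9PB.Chow
import Groth.Agent.QuotRep.Frame

/-! A line bundle is the normal bundle of a section of a projective bundle which is a zero scheme. -/

set_option autoImplicit false
set_option linter.style.haveILetI false
set_option linter.unusedSectionVars false
set_option backward.isDefEq.respectTransparency false
set_option backward.isDefEq.respectTransparency.types false
set_option maxHeartbeats 800000
set_option synthInstance.maxHeartbeats 400000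

universe u

open CategoryTheory CategoryTheory.Limits AlgebraicGeometry TopologicalSpace Opposite

attribute [-instance] CategoryTheory.catToReflQuiver

noncomputable section

namespace Groth.Agent.H9PB

open Groth.Agent

/-- The bundle of a line bundle is the base. -/
theorem isIso_of_projBundle_line {X P : Scheme.{u}} {p : P ⟶ X} {M : X.Modules} {O1 : P.Modules}
    {q : (Scheme.Modules.pullback p).obj M ⟶ O1} (hM : FlatMod.IsFinLocFreeOfRank 1 M)
    (hP : KRR.IsProjBundle p M O1 q) : IsIso p := by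
  haveI := hP.epi
  haveI : IsIso q := QuotRep.isIso_of_epi_rank (KRRReg.isFinLocFreeOfRank_pullback p hM) hP.invertible q
  have key : ∀ {T : Scheme.{u}} (g : T ⟶ X) (h : T ⟶ P) (hg : h ≫ p = g),
      ∃ (hg : h ≫ p = g) (e : (Scheme.Modules.pullback h).obj O1 ≅ (Scheme.Modules.pullback g).obj M),
        (Scheme.Modules.pullbackCongr hg).inv.app M ≫ (Scheme.Modules.pullbackComp h p).inv.app M ≫
          (Scheme.Modules.pullback h).map q ≫ e.hom = 𝟙 _ := by
    intro T g h hg
    let t := (Scheme.Modules.pullbackCongr hg).inv.app M ≫ (Scheme.Modules.pullbackComp h p).inv.app M ≫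
      (Scheme.Modules.pullback h).map q
    refine ⟨hg, (asIso t).symm, ?_⟩
    simpa [t] using IsIso.hom_inv_id t
  obtain ⟨σ, ⟨hσ, -⟩, -⟩ := hP.univ X (𝟙 X) _ (KRRReg.isFinLocFreeOfRank_pullback (𝟙 X) hM) (𝟙 _) inferInstance
  refine ⟨σ, ?_, hσ⟩
  obtain ⟨h0, -, huniq⟩ := hP.univ P p _ (KRRReg.isFinLocFreeOfRank_pullback p hM) (𝟙 _) inferInstance
  exact (huniq _ (key p _ (by rw [Category.assoc, hσ, Category.comp_id]))).trans
    (huniq _ (key p (𝟙 P) (Category.id_comp p))).symm

theorem isZeroSchemeOf_iso_comp {D D' X : Scheme.{u}} {i : D ⟶ X} {L : X.Modules}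
    {s : L.presheaf.obj (Opposite.op ⊤)} (hD : Cyc.IsZeroSchemeOf i L s) (e : D' ⟶ D) [IsIso e] :
    Cyc.IsZeroSchemeOf (e ≫ i) L s := by
  refine ⟨?_, fun d => ?_⟩
  · rw [← hD.1]
    ext x
    constructor
    · rintro ⟨d, rfl⟩
      exact ⟨e d, rfl⟩
    · rintro ⟨d, rfl⟩
      obtain ⟨d', rfl⟩ := e.surjective d
      exact ⟨d', rfl⟩
  · obtain ⟨t, f, h1, h2, h3⟩ := hD.2 (e d)
    refine ⟨t, f, h1, h2, ?_⟩
    have hc : ((e ≫ i).stalkMap d).hom = (e.stalkMap d).hom.comp (i.stalkMap (e d)).hom := by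
      rw [Scheme.Hom.stalkMap_comp]
      rfl
    rw [hc, RingHom.ker_comp_of_injective _ (ConcreteCategory.bijective_of_isIso (e.stalkMap d)).1]
    exact h3

/-- Every invertible module is the pull-back of an invertible module along a closed section which is a zero scheme. -/
theorem exists_zeroSection {Y : Scheme.{u}} {δ : Y → ℤ} (hY : Cyc.IsSetup Y δ) {M : Y.Modules}
    (hM : PicF.IsInvertible M) :
    ∃ (P : Scheme.{u}) (π : P ⟶ Y) (_ : IsProper π) (δP : P → ℤ) (i : Y ⟶ P) (_ : IsClosedImmersion i)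
      (Q : P.Modules) (σ : Q.presheaf.obj (Opposite.op ⊤)), Cyc.IsSetup P δP ∧ Cyc.DeltaCompat π δP δ ∧
      i ≫ π = 𝟙 Y ∧ δ = (fun y => δP (i y)) ∧ PicF.IsInvertible Q ∧ Cyc.IsZeroSchemeOf i Q σ ∧
      Nonempty ((Scheme.Modules.pullback i).obj Q ≅ M) := by
  haveI := hY.1
  have h1 : FlatMod.IsFinLocFreeOfRank 1 (Coh.structureModule Y) :=
    InvEnd.isFinLocFreeOfRank_one InvX.isInvertible_structureModule
  have hM1 : FlatMod.IsFinLocFreeOfRank 1 M := InvEnd.isFinLocFreeOfRank_one hM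
  let a : Coh.structureModule Y ⟶ Coh.structureModule Y ⊞ M := biprod.inl
  let b : Coh.structureModule Y ⊞ M ⟶ M := biprod.snd
  have hab : a ≫ b = 0 := biprod.inl_snd
  have hex : (ShortComplex.mk a b hab).ShortExact :=
    ShortComplex.Splitting.shortExact
      { r := biprod.fst
        s := biprod.inr
        f_r := biprod.inl_fst
        s_g := biprod.inr_snd
        id := biprod.total }
  have hE : FlatMod.IsFinLocFreeOfRank (1 + 1) (Coh.structureModule Y ⊞ M) :=
    isFinLocFreeOfRank_extension hex h1 hM1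
  obtain ⟨P, π, Q, q, hP⟩ := exists_bundle hE
  obtain ⟨P₂, π₂, Q₂, q₂, hP₂⟩ := exists_bundle hM1
  haveI := isProper_of_isProjBundle hP hE
  haveI := hP₂.epi
  haveI : IsIso π₂ := isIso_of_projBundle_line hM1 hP₂
  haveI : IsIso q₂ := QuotRep.isIso_of_epi_rank (KRRReg.isFinLocFreeOfRank_pullback π₂ hM1) hP₂.invertible q₂
  obtain ⟨h, _, σ, hh, ⟨e⟩, hσ⟩ := exists_quotient_divisor hE hM1 hP hP₂ a b hab hex
  let i : Y ⟶ P := inv π₂ ≫ h
  have hi : i ≫ π = 𝟙 Y := by rw [Category.assoc, hh, IsIso.inv_hom_id]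
  let δP : P → ℤ := fun x => δ (π x) + FibDim.rd π x
  have hδ : Cyc.DeltaCompat π δP δ := fun x => ⟨FibDim.rd π x, (FibDim.rd_eq_rdeg π x).symm, rfl⟩
  have hδi : Cyc.DeltaCompat (i ≫ π) (fun y => δP (i y)) δ :=
    CycLib.deltaCompat_closedImmersion_comp i π hδ
  refine ⟨P, π, inferInstance, δP, i, inferInstance, Q, σ, H23.SetupLFT.isSetup π hY hδ, hδ, hi, ?_,
    Model.isInvertible_of_rank hP.invertible, isZeroSchemeOf_iso_comp hσ _, ⟨?_⟩⟩
  · rw [hi] at hδi
    funext y
    rw [CycLib.deltaCompat_eq (𝟙 Y) hδi y, CycLib.rd_eq_zero_of_finite (𝟙 Y) y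
      (RingHom.Finite.of_surjective _ (CycLib.residueFieldMap_bijective (𝟙 Y) y).2)]
    simp
  · exact ((Scheme.Modules.pullbackComp (inv π₂) h).app Q).symm ≪≫
      (Scheme.Modules.pullback (inv π₂)).mapIso (e ≪≫ (asIso q₂).symm) ≪≫
      (Scheme.Modules.pullbackComp (inv π₂) π₂).app M ≪≫
      (Scheme.Modules.pullbackCongr (IsIso.inv_hom_id π₂)).app M ≪≫ (Scheme.Modules.pullbackId Y).app M

end Groth.Agent.H9PB

end
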